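import Cfsg.Agent.Lib.TG.SCl
import Cfsg.Agent.Lib.CP.SCK

set_option autoImplicit false

namespace CfsgLib.TG

open Subgroup Cfsg CfsgLib.FT CfsgLib.FT.BGN CfsgLib.GW CfsgLib.Wal
open CfsgLib.FT.U4 (mem_cent1 mem_cent1' mem_cent mem_cent1_comm cent1_conj conj_mem_conj_iff
  orderOf_conj)
open scoped commutatorElement

variable {X : Type*} [Group X] [Finite X] {P T : Subgroup X} {𝔄 : Subgroup (MulAut X)}

/-- The weakly closed case (uses `CP.SCK.fac`). -/
theorem GS.false_of_wc (hT : GS T) (hs : IsSimpleGroup X) (hna : ¬ IsMulCommutative X)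
    (h0 : Om T ≠ ⊥) (wc : WC T) : False := by
  have h : CP.SCK ⊤ (Om T) := ⟨Om_el T, le_top, fun y hy g _ hn => hT.sclosed wc g hy hn,
    fun L hL Y0 h1 h2 => hT.noK L Y0 (hL.trans inf_le_right) h1 h2⟩
  have key : ∀ N : Subgroup X, ⊤ ≤ 𝐍(N) → N ≠ ⊥ → ¬ Group.IsSolvable N := by
    intro N h1 h2 h3
    have hn : N.Normal := normalizer_eq_top_iff.1 (top_le_iff.1 h1)
    rcases hs.eq_bot_or_eq_top_of_normal N hn with h4 | h4
    · exact h2 h4
    · subst h4
      have h5 : Group.IsSolvable X := Group.isSolvable_of_surjective (f := (⊤ : Subgroup X).subtype)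
        fun x => ⟨⟨x, mem_top x⟩, rfl⟩
      exact hna ⟨⟨IsSimpleGroup.comm_iff_isSolvable.2 h5⟩⟩
  have h1 : Od (⊤ : Subgroup X) = ⊥ := by
    by_contra h1
    exact key _ (le_norm_Od ⊤) h1 (solvable_of_odd (odd_Od ⊤))
  have h2 := h.fac
  rw [h1, bot_sup_eq] at h2
  exact key _ (h2.trans inf_le_right) h0 (Om_el T).solv

end CfsgLib.TG
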