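import Cfsg.Agent.Lib.TG.Defs

set_option autoImplicit false
set_option linter.unusedSectionVars false
set_option linter.unusedVariables false

namespace CfsgLib.TG

open Subgroup Cfsg CfsgLib.FT CfsgLib.FT.BGN CfsgLib.GW CfsgLib.Wal
open CfsgLib.FT.U4 (mem_cent1 mem_cent1' mem_cent mem_cent1_comm cent1_conj conj_mem_conj_iff
  orderOf_conj conj_le_iff le_conj_iff conj_inj)
open scoped commutatorElement

variable {X : Type*} [Group X] [Finite X] {T : Subgroup X}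

theorem lcc {A B : Subgroup X} (h : A ≤ 𝐂(B)) : B ≤ 𝐂(A) := le_centralizer_iff.1 h

theorem cent_anti {A B : Subgroup X} (h : A ≤ B) : 𝐂(B) ≤ 𝐂(A) := centralizer_le h

theorem cj_cent {A B : Subgroup X} (h : A ≤ 𝐂(B)) (g : X) : g •ᶜ A ≤ 𝐂(g •ᶜ B) := by
  rw [centralizer_map_conj]; exact map_mono h

theorem cj_norm {A B : Subgroup X} (h : A ≤ 𝐍(B)) (g : X) : g •ᶜ A ≤ 𝐍(g •ᶜ B) := by
  rw [normalizer_map_conj]; exact map_mono h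

theorem cj_eq {g : X} {H : Subgroup X} (hg : g ∈ 𝐍(H)) : g •ᶜ H = H :=
  CfsgLib.map_conj_eq_of_mem_normalizer hg

theorem mem_norm_of_cj {g : X} {H : Subgroup X} (hg : g •ᶜ H = H) : g ∈ 𝐍(H) :=
  CfsgLib.mem_normalizer_of_map_conj_eq hg

theorem mem_norm_of_cj_le {g : X} {H : Subgroup X} (hg : g •ᶜ H ≤ H) : g ∈ 𝐍(H) :=
  mem_norm_of_cj (eq_of_le_of_card_ge hg (by rw [CfsgLib.card_map_conj]))

theorem cj_mem {g x : X} {H : Subgroup X} (h : x ∈ H) : g * x * g⁻¹ ∈ g •ᶜ H :=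
  conj_mem_conj_iff.2 h

theorem norm_mem {g x : X} {H : Subgroup X} (hg : g ∈ 𝐍(H)) (h : x ∈ H) : g * x * g⁻¹ ∈ H :=
  (mem_normalizer_iff.1 hg x).1 h

theorem Om_le (T : Subgroup X) : Om T ≤ T := fun _ h => h.1

theorem Om_le_cent (T : Subgroup X) : Om T ≤ 𝐂(T) := fun _ h => h.2.1

theorem le_cent_Om (T : Subgroup X) : T ≤ 𝐂(Om T) := lcc (Om_le_cent T)

theorem Om_el (T : Subgroup X) : El (Om T) := fun _ h => h.2.2

theorem Om_cj (T : Subgroup X) (g : X) : Om (g •ᶜ T) = g •ᶜ Om T := by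
  ext x
  rw [mem_Om, centralizer_map_conj, mem_map_conj_iff, mem_map_conj_iff, mem_map_conj_iff, mem_Om]
  have : g⁻¹ * x * g * (g⁻¹ * x * g) = 1 ↔ x * x = 1 := by
    have h1 : g⁻¹ * x * g * (g⁻¹ * x * g) = g⁻¹ * (x * x) * g := by group
    rw [h1]
    constructor
    · intro h
      calc x * x = g * (g⁻¹ * (x * x) * g) * g⁻¹ := by group
        _ = 1 := by rw [h]; group
    · intro h; rw [h]; group
  rw [this]

theorem norm_le_norm_Om (T : Subgroup X) : 𝐍(T) ≤ 𝐍(Om T) := fun g hg =>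
  mem_norm_of_cj (by rw [← Om_cj, cj_eq hg])

theorem pt_Om (T : Subgroup X) : Pt T (Om T) := ⟨1, (map_conj_one _).symm⟩

theorem Pt.cj {φ : Subgroup X} (h : Pt T φ) (g : X) : Pt T (g •ᶜ φ) := by
  obtain ⟨k, rfl⟩ := h
  exact ⟨g * k, (map_conj_mul g k _).symm⟩

theorem Pt.el {φ : Subgroup X} (h : Pt T φ) : El φ := by
  obtain ⟨k, rfl⟩ := h
  exact (Om_el T).cj k

theorem Pt.card {φ : Subgroup X} (h : Pt T φ) : Nat.card φ = Nat.card (Om T) := by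
  obtain ⟨k, rfl⟩ := h
  exact CfsgLib.card_map_conj k _

theorem Bad.cj {D : Subgroup X} (h : Bad T D) (g : X) : Bad T (g •ᶜ D) := by
  obtain ⟨h1, φ, ψ, h2, h3, h4, h5, h6, h7⟩ := h
  exact ⟨h1.map _, g •ᶜ φ, g •ᶜ ψ, h2.cj g, h3.cj g,
    fun e => h4 (le_antisymm (U4.conj_le_conj_iff.1 e.le) (U4.conj_le_conj_iff.1 e.ge)),
    cj_cent h5 g, cj_norm h6 g, cj_norm h7 g⟩

theorem Bad.mono {D D' : Subgroup X} (h : Bad T D) (h' : D' ≤ D) : Bad T D' := by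
  obtain ⟨h1, φ, ψ, h2, h3, h4, h5, h6, h7⟩ := h
  exact ⟨h1.to_le h', φ, ψ, h2, h3, h4, h5, h'.trans h6, h'.trans h7⟩

theorem Bad.of_cent {D φ ψ : Subgroup X} (hD : IsPGroup 2 D) (hφ : Pt T φ) (hψ : Pt T ψ)
    (hne : φ ≠ ψ) (hc : φ ≤ 𝐂(ψ)) (h1 : D ≤ 𝐂(φ)) (h2 : D ≤ 𝐂(ψ)) : Bad T D :=
  ⟨hD, φ, ψ, hφ, hψ, hne, hc, h1.trans (cent_le_norm _), h2.trans (cent_le_norm _)⟩

theorem KK_bdd (T : Subgroup X) :
    BddAbove {n | ∃ A : Subgroup X, El A ∧ Bad T A ∧ Nat.card A = n} := by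
  refine ⟨Nat.card X, ?_⟩
  rintro _ ⟨A, -, -, rfl⟩
  exact A.card_le_card_group

theorem Bad.card_le {A : Subgroup X} (h : Bad T A) (hA : El A) : Nat.card A ≤ KK T :=
  le_csSup (KK_bdd T) ⟨A, hA, h, rfl⟩

theorem el_bot : El (⊥ : Subgroup X) := fun x hx => by rw [mem_bot.1 hx, one_mul]

theorem Bad.exists_BB {D : Subgroup X} (h : Bad T D) : ∃ A, BB T A := by
  have hne : {n | ∃ A : Subgroup X, El A ∧ Bad T A ∧ Nat.card A = n}.Nonempty :=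
    ⟨_, ⊥, el_bot, h.mono bot_le, rfl⟩
  obtain ⟨A, h1, h2, h3⟩ := Nat.sSup_mem hne (KK_bdd T)
  exact ⟨A, h1, h2, h3⟩

theorem BB.cj {A : Subgroup X} (h : BB T A) (g : X) : BB T (g •ᶜ A) :=
  ⟨h.1.cj g, h.2.1.cj g, by rw [CfsgLib.card_map_conj]; exact h.2.2⟩

theorem BB.of_le {A : Subgroup X} (hA : El A) (h : Bad T A) (hc : KK T ≤ Nat.card A) :
    BB T A := ⟨hA, h, le_antisymm (h.card_le hA) hc⟩

theorem WB_le_of {D Y : Subgroup X} (h : ∀ A, BB T A → A ≤ D → A ≤ Y) : WB T D ≤ Y :=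
  sSup_le fun A hA => h A hA.1 hA.2

theorem WB_le (T D : Subgroup X) : WB T D ≤ D := WB_le_of fun _ _ h => h

theorem BB.le_WB {A D : Subgroup X} (h : BB T A) (h' : A ≤ D) : A ≤ WB T D :=
  le_sSup (show A ∈ {A | BB T A ∧ A ≤ D} from ⟨h, h'⟩)

theorem WB_mono {D D' : Subgroup X} (h : D ≤ D') : WB T D ≤ WB T D' :=
  WB_le_of fun _ h1 h2 => h1.le_WB (h2.trans h)

theorem WB_idem (T D : Subgroup X) : WB T (WB T D) = WB T D :=
  le_antisymm (WB_le _ _) (WB_le_of fun _ h1 h2 => h1.le_WB (h1.le_WB h2))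

theorem WB_cj_le (T D : Subgroup X) (g : X) : WB T (g •ᶜ D) ≤ g •ᶜ WB T D :=
  WB_le_of fun A h1 h2 => le_conj_iff.2 ((h1.cj g⁻¹).le_WB (le_conj_iff.1 h2))

theorem WB_cj (T D : Subgroup X) (g : X) : WB T (g •ᶜ D) = g •ᶜ WB T D := by
  refine le_antisymm (WB_cj_le T D g) (conj_le_iff.2 ?_)
  have := WB_cj_le T (g •ᶜ D) g⁻¹
  rwa [map_conj_inv_map_conj] at this

theorem norm_le_norm_WB (T D : Subgroup X) : 𝐍(D) ≤ 𝐍(WB T D) := fun g hg =>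
  mem_norm_of_cj (by rw [← WB_cj, cj_eq hg])

theorem exists_BB_le_of_ne_bot {D : Subgroup X} (h : WB T D ≠ ⊥) : ∃ A, BB T A ∧ A ≤ D := by
  by_contra hn
  push Not at hn
  exact h (le_bot_iff.1 (WB_le_of fun A h1 h2 => absurd h2 (hn A h1)))

theorem cj_le_cent_Om (T : Subgroup X) (g : X) : g •ᶜ T ≤ 𝐂(g •ᶜ Om T) :=
  cj_cent (le_cent_Om T) g

theorem relIndex_cj (H K : Subgroup X) (g : X) : (g •ᶜ H).relIndex (g •ᶜ K) = H.relIndex K :=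
  relIndex_map_map_of_injective _ _ (MulAut.conj g).injective

theorem relIndex_pos (H K : Subgroup X) : 0 < H.relIndex K :=
  Nat.pos_of_ne_zero index_ne_zero_of_finite

theorem card_sup_inf' {A B : Subgroup X} (h : B ≤ 𝐍(A)) :
    Nat.card A * Nat.card B = Nat.card (A ⊓ B : Subgroup X) * Nat.card (A ⊔ B : Subgroup X) := by
  classical
  haveI := Fintype.ofFinite X
  exact card_mul_eq le_sup_left le_sup_right fun x hx => exists_mul_of_mem_sup h hx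

/-- (q1) for an arbitrary point. -/
theorem Pt.q1 (hT : GS T) {φ A : Subgroup X} (h : Pt T φ) (h1 : A ≤ 𝐍(φ))
    (h2 : ∀ x ∈ A, x * x ∈ 𝐂(φ)) (h3 : ¬ A ≤ 𝐂(φ)) :
    2 * (𝐂(φ)).relIndex A < (𝐂(A)).relIndex φ := by
  obtain ⟨g, rfl⟩ := h
  obtain ⟨B, rfl⟩ : ∃ B, A = g •ᶜ B := ⟨g⁻¹ •ᶜ A, (map_conj_map_conj_inv _ _).symm⟩
  rw [normalizer_map_conj] at h1
  rw [centralizer_map_conj] at h2 h3 ⊢
  rw [centralizer_map_conj, relIndex_cj, relIndex_cj]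
  refine hT.q1 B (U4.conj_le_conj_iff.1 h1) (fun x hx => ?_) fun e => h3 (map_mono e)
  have := h2 _ (cj_mem (g := g) hx)
  rwa [show g * x * g⁻¹ * (g * x * g⁻¹) = g * (x * x) * g⁻¹ by group, conj_mem_conj_iff] at this

/-- (tv) Points admit no transvections. -/
theorem Pt.tv (hT : GS T) {φ : Subgroup X} (h : Pt T φ) {g c : X} (hN : g ∈ 𝐍(φ))
    (h2 : g * g ∈ 𝐂(φ)) (h3 : ∀ y ∈ φ, g * y * g⁻¹ = y ∨ g * y * g⁻¹ = y * c) : g ∈ 𝐂(φ) := by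
  by_contra hg
  have h4 := h.q1 hT (zpowers_le.2 hN) (fun x hx => by
    obtain ⟨k, rfl⟩ := mem_zpowers_iff.1 hx
    rw [← (Commute.refl g).mul_zpow]
    exact zpow_mem h2 k) fun e => hg (e (mem_zpowers g))
  have h5 := relIndex_pos 𝐂(φ) (zpowers g)
  have key : ∀ y : X, g * y * g⁻¹ = y → y ∈ 𝐂(zpowers g) := fun y hy => by
    rw [mem_cent]
    intro x hx
    obtain ⟨k, rfl⟩ := mem_zpowers_iff.1 hx
    have : Commute g y := by rw [mul_inv_eq_iff_eq_mul] at hy; exact hy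
    exact (this.zpow_left k).eq
  have h6 : (𝐂(zpowers g)).relIndex φ ∣ 2 := by
    rw [relIndex_dvd_two_iff]
    by_cases hy : ∀ y ∈ φ, g * y * g⁻¹ = y
    · exact ⟨1, one_mem _, fun b hb => Or.inr (key b (hy b hb))⟩
    · push Not at hy
      obtain ⟨y, hy, hne⟩ := hy
      have e1 := (h3 y hy).resolve_left hne
      have hc : c ∈ φ := by
        have := mul_mem (inv_mem hy) (norm_mem hN hy)
        rwa [e1, inv_mul_cancel_left] at this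
      refine ⟨y, hy, fun b hb => (h3 b hb).symm.imp (fun e2 => key _ ?_) (key b)⟩
      calc g * (b * y) * g⁻¹ = (g * b * g⁻¹) * (g * y * g⁻¹) := by group
        _ = b * (c * y) * c := by rw [e1, e2]; group
        _ = b * y * (c * c) := by rw [h.el.comm hc hy]; group
        _ = b * y := by rw [h.el c hc, mul_one]
  have := Nat.le_of_dvd two_pos h6
  omega

/-- Large elementary abelian groups normalizing two distinct commuting points centralize them. -/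
theorem Pt.le_cent_of_card (hT : GS T) {φ ψ A : Subgroup X} (hφ : Pt T φ) (hψ : Pt T ψ)
    (hne : φ ≠ ψ) (hc : φ ≤ 𝐂(ψ)) (hA : El A) (h1 : A ≤ 𝐍(φ)) (h2 : A ≤ 𝐍(ψ))
    (hk : KK T ≤ Nat.card A) : A ≤ 𝐂(φ) := by
  by_contra hn
  have h3 := hφ.q1 hT h1 (fun x hx => by rw [hA x hx]; exact one_mem _) hn
  have hc0 : φ ≤ 𝐂((𝐂(φ) ⊓ A : Subgroup X)) := lcc inf_le_left
  have hel : El ((𝐂(φ) ⊓ A) ⊔ φ) := (hA.mono inf_le_right).sup hφ.el hc0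
  have hb : Bad T ((𝐂(φ) ⊓ A) ⊔ φ) := ⟨hel.isPGroup, φ, ψ, hφ, hψ, hne, hc,
    sup_le (inf_le_right.trans h1) le_normalizer,
    sup_le (inf_le_right.trans h2) (hc.trans (cent_le_norm _))⟩
  have h4 := (hb.card_le hel).trans hk
  have h5 := card_sup_inf' (hc0.trans (cent_le_norm _))
  have h6 : Nat.card ((𝐂(φ) ⊓ A) ⊓ φ : Subgroup X) ≤ Nat.card (𝐂(A) ⊓ φ : Subgroup X) :=
    card_le_of_le fun x hx => ⟨hA.le_cent hx.1.2, hx.2⟩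
  have h7 := CfsgLib.card_inf_mul_relIndex 𝐂(φ) A
  have h8 := CfsgLib.card_inf_mul_relIndex 𝐂(A) φ
  have p1 : 0 < Nat.card (𝐂(φ) ⊓ A : Subgroup X) := Nat.card_pos
  have p2 : 0 < Nat.card (𝐂(A) ⊓ φ : Subgroup X) := Nat.card_pos
  have h9 : Nat.card (𝐂(φ) ⊓ A : Subgroup X) * Nat.card φ ≤
      Nat.card (𝐂(A) ⊓ φ : Subgroup X) * Nat.card A := h5 ▸ Nat.mul_le_mul h6 h4
  rw [← h7, ← h8] at h9
  generalize Nat.card (𝐂(φ) ⊓ A : Subgroup X) = x at *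
  generalize Nat.card (𝐂(A) ⊓ φ : Subgroup X) = y at *
  generalize (𝐂(φ)).relIndex A = a at *
  generalize (𝐂(A)).relIndex φ = b at *
  have : x * y * b ≤ x * y * a := by nlinarith
  have := Nat.le_of_mul_le_mul_left this (Nat.mul_pos p1 p2)
  omega

theorem isPGroup_zpowers_of_pow {y : X} {k : ℕ} (h : y ^ 2 ^ k = 1) : IsPGroup 2 (zpowers y) := by
  refine IsPGroup.of_card_dvd_pow (n := k) ?_
  rw [Nat.card_zpowers]
  exact orderOf_dvd_of_pow_eq_one h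

theorem exists_odd_pow (g : X) : ∃ k m : ℕ, Odd m ∧ (g ^ m) ^ 2 ^ k = 1 ∧ (g ^ 2 ^ k) ^ m = 1 := by
  obtain ⟨k, m, hm, hn⟩ := Nat.exists_eq_two_pow_mul_odd (orderOf_pos g).ne'
  refine ⟨k, m, hm, ?_, ?_⟩
  · rw [← pow_mul, mul_comm, ← hn, pow_orderOf_eq_one]
  · rw [← pow_mul, ← hn, pow_orderOf_eq_one]

/-- (b2) -/
theorem Pt.exists_syl (hT : GS T) {φ D : Subgroup X} (h : Pt T φ) (hD : IsPGroup 2 D)
    (hC : D ≤ 𝐂(φ)) : ∃ g : X, φ = g •ᶜ Om T ∧ D ≤ g •ᶜ T := by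
  obtain ⟨g, rfl⟩ := h
  have h1 : g⁻¹ •ᶜ D ≤ 𝐂(Om T) := by
    have := cj_cent hC g⁻¹
    rwa [map_conj_inv_map_conj] at this
  obtain ⟨x, hx, hle⟩ := hT.syl.exists_conj_le (hD.map _) h1
  refine ⟨g * x⁻¹, ?_, ?_⟩
  · rw [map_conj_mul, cj_eq (cent_le_norm _ (inv_mem hx))]
  · rw [map_conj_mul]
    have h2 := conj_le_iff.1 hle
    have h3 : g •ᶜ (g⁻¹ •ᶜ D) ≤ g •ᶜ (x⁻¹ •ᶜ T) := map_mono h2
    rwa [map_conj_map_conj_inv] at h3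

theorem BB.le_of_bad {A B : Subgroup X} (h : BB T A) (hB : El B) (hc : B ≤ 𝐂(A))
    (hb : Bad T (A ⊔ B)) : B ≤ A := by
  have h1 := hb.card_le (h.1.sup hB hc)
  rw [← h.2.2] at h1
  exact le_sup_right.trans (eq_of_le_of_card_ge le_sup_left h1).ge

theorem BB.pts (hT : GS T) {A : Subgroup X} (h : BB T A) :
    ∃ φ ψ : Subgroup X, Pt T φ ∧ Pt T ψ ∧ φ ≠ ψ ∧ φ ≤ 𝐂(ψ) ∧ A ≤ 𝐂(φ) ∧ A ≤ 𝐂(ψ) ∧
      φ ≤ A ∧ ψ ≤ A := by
  obtain ⟨h1, φ, ψ, h2, h3, h4, h5, k6, k7⟩ := h.2.1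
  have h6 := Pt.le_cent_of_card hT h2 h3 h4 h5 h.1 k6 k7 h.2.2.ge
  have h7 := Pt.le_cent_of_card hT h3 h2 h4.symm (lcc h5) h.1 k7 k6 h.2.2.ge
  refine ⟨φ, ψ, h2, h3, h4, h5, h6, h7, ?_, ?_⟩
  · exact h.le_of_bad h2.el (lcc h6) (Bad.of_cent (h.1.sup h2.el (lcc h6)).isPGroup h2 h3 h4 h5
      (sup_le h6 h2.el.le_cent) (sup_le h7 h5))
  · exact h.le_of_bad h3.el (lcc h7) (Bad.of_cent (h.1.sup h3.el (lcc h7)).isPGroup h2 h3 h4 h5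
      (sup_le h6 (lcc h5)) (sup_le h7 h3.el.le_cent))

theorem BB.le_of_cent (hT : GS T) {A B : Subgroup X} (h : BB T A) (hB : El B)
    (hc : B ≤ 𝐂(A)) : B ≤ A := by
  obtain ⟨φ, ψ, h2, h3, h4, h5, h6, h7, h8, h9⟩ := h.pts hT
  exact h.le_of_bad hB hc (Bad.of_cent (h.1.sup hB hc).isPGroup h2 h3 h4 h5
    (sup_le h6 (hc.trans (cent_anti h8))) (sup_le h7 (hc.trans (cent_anti h9))))

/-- (b3) -/
theorem BB.mem_of_cent (hT : GS T) {A : Subgroup X} (h : BB T A) {y : X}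
    (hy : y * y = 1) (hc : y ∈ 𝐂(A)) : y ∈ A :=
  h.le_of_cent hT (el_zpowers hy) (zpowers_le.2 hc) (mem_zpowers y)

theorem BB.ne_bot (hT : GS T) {A : Subgroup X} (h : BB T A) : A ≠ ⊥ := by
  obtain ⟨φ, ψ, h2, h3, h4, h5, h6, h7, h8, h9⟩ := h.pts hT
  rintro rfl
  exact h4 ((le_bot_iff.1 h8).trans (le_bot_iff.1 h9).symm)

theorem Od_le_cent {M D : Subgroup X} (hD : IsPGroup 2 D) (h1 : D ≤ M) (h2 : M ≤ 𝐍(D)) :
    Od M ≤ 𝐂(D) := by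
  intro o ho
  rw [mem_cent]
  intro x hx
  have h3 : x * o * x⁻¹ * o⁻¹ ∈ Od M :=
    mul_mem (norm_mem (le_norm_Od M (h1 hx)) ho) (inv_mem ho)
  have h4 : x * o * x⁻¹ * o⁻¹ ∈ D := by
    have := mul_mem hx (norm_mem (h2 (Od_le M ho)) (inv_mem hx))
    simpa only [mul_assoc] using this
  have h5 := CfsgLib.Invol.eq_one_of_odd_of_mem hD h4 (odd_of_mem_Od h3)
  calc x * o = x * o * x⁻¹ * o⁻¹ * (o * x) := by group
    _ = o * x := by rw [h5, one_mul]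

theorem exists_BB_le_T (hT : GS T) (hb : ∃ D, Bad T D) : ∃ A, BB T A ∧ A ≤ T := by
  obtain ⟨D, hD⟩ := hb
  obtain ⟨A, hA⟩ := hD.exists_BB
  obtain ⟨φ, ψ, h2, -, -, -, h6, -⟩ := hA.pts hT
  obtain ⟨g, -, hg⟩ := h2.exists_syl hT hA.1.isPGroup h6
  exact ⟨_, hA.cj g⁻¹, le_conj_iff.1 hg⟩

theorem GS.eq_of_WB_le_one (h : GS T) {ψ : Subgroup X} (hψ : Pt T ψ) (hb : ∃ D, Bad T D)
    (hc : WB T T ≤ 𝐂(ψ)) : ψ = Om T := by
  have hT := h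
  have hJ : IsPGroup 2 (WB T T) := hT.isPGroup.to_le (WB_le T T)
  obtain ⟨g, rfl, hg⟩ := hψ.exists_syl hT hJ hc
  have h1 : WB T T ≤ g •ᶜ WB T T := by
    rw [← WB_cj]
    calc WB T T = WB T (WB T T) := (WB_idem T T).symm
      _ ≤ _ := WB_mono hg
  have h2 : g ∈ 𝐍(WB T T) :=
    mem_norm_of_cj (eq_of_le_of_card_ge h1 (by rw [CfsgLib.card_map_conj])).symm
  obtain ⟨A, hA, hAT⟩ := exists_BB_le_T hT hb
  have hAJ := hA.le_WB hAT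
  have hne : WB T T ≠ ⊥ := fun e => hA.ne_bot hT (le_bot_iff.1 (e ▸ hAJ))
  exact cj_eq (h.b4 hne h2)

/-- (b4) -/
theorem GS.eq_of_WB_le (h : GS T) {ψ : Subgroup X} (hψ : Pt T ψ) (hb : ∃ D, Bad T D)
    (g : X) (hc : WB T (g •ᶜ T) ≤ 𝐂(ψ)) : ψ = g •ᶜ Om T := by
  have h1 := cj_cent hc g⁻¹
  rw [WB_cj, map_conj_inv_map_conj] at h1
  rw [← h.eq_of_WB_le_one (hψ.cj g⁻¹) hb h1, map_conj_map_conj_inv]

/-- (b5) -/
theorem exists_BB_norm {P Y : Subgroup X} (hP : IsPGroup 2 P) (hY : WB T Y = Y) (hYP : Y ≤ P)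
    (hn : ¬ WB T P ≤ Y) : ∃ A, BB T A ∧ A ≤ P ∧ A ≤ 𝐍(Y) ∧ ¬ A ≤ Y := by
  by_contra hc
  push Not at hc
  have h1 : WB T (P ⊓ 𝐍(Y)) = Y := by
    refine le_antisymm (WB_le_of fun A hA hle => hc A hA (hle.trans inf_le_left)
      (hle.trans inf_le_right)) ?_
    calc Y = WB T Y := hY.symm
      _ ≤ _ := WB_mono (le_inf hYP le_normalizer)
  by_cases h2 : P ⊓ 𝐍(Y) < P
  · have h3 := lt_inf_normalizer_of_isPGroup hP h2
    refine h3.not_ge (le_inf inf_le_left (inf_le_right.trans ?_))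
    have := norm_le_norm_WB T (P ⊓ 𝐍(Y))
    rwa [h1] at this
  · have h3 : P ⊓ 𝐍(Y) = P := (inf_le_left.eq_or_lt).resolve_right h2
    rw [h3] at h1
    exact hn h1.le

theorem MaxW.cj {X0 : Subgroup X} (h : MaxW T X0) (g : X) : MaxW T (g •ᶜ X0) :=
  ⟨by rw [WB_cj, h.wb], h.bad.cj g, fun D hD => by rw [CfsgLib.card_map_conj]; exact h.max D hD⟩

theorem EE.cj {X0 E : Subgroup X} (h : EE T X0 E) (g : X) : EE T (g •ᶜ X0) (g •ᶜ E) :=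
  ⟨h.el.cj g, by rw [CfsgLib.card_map_conj]; exact h.card, cj_norm h.norm g,
    fun e => h.nle (U4.conj_le_conj_iff.1 e)⟩

theorem EE.cj' {X0 E : Subgroup X} (h : EE T X0 E) {g : X} (hg : g ∈ 𝐍(X0)) :
    EE T X0 (g •ᶜ E) := by
  have := h.cj g
  rwa [cj_eq hg] at this

theorem MaxW.exists_BB (hT : GS T) {X0 : Subgroup X} (h : MaxW T X0) :
    ∃ A, BB T A ∧ A ≤ X0 := by
  refine exists_BB_le_of_ne_bot fun e => ?_
  obtain ⟨A, hA⟩ := h.bad.exists_BB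
  have h1 := h.max A hA.2.1
  rw [← h.wb, e, card_bot] at h1
  have h2 : WB T A = ⊥ := eq_bot_of_card_le _ h1
  exact hA.ne_bot hT (le_bot_iff.1 (h2 ▸ hA.le_WB le_rfl))

/-- Elementary abelian groups centralizing `X0` lie in `X0`, indeed in `Om X0`. -/
theorem MaxW.le_Om (hT : GS T) {X0 B : Subgroup X} (h : MaxW T X0) (hB : El B)
    (hc : B ≤ 𝐂(X0)) : B ≤ Om X0 := by
  obtain ⟨A, hA, hle⟩ := h.exists_BB hT
  exact fun x hx => ⟨hle (hA.le_of_cent hT hB (hc.trans (cent_anti hle)) hx), hc hx, hB x hx⟩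

theorem MaxW.pt_le_Om (hT : GS T) {X0 φ : Subgroup X} (h : MaxW T X0) (hφ : Pt T φ)
    (hc : X0 ≤ 𝐂(φ)) : φ ≤ Om X0 := h.le_Om hT hφ.el (lcc hc)

theorem MaxW.isPGroup_sup {X0 E : Subgroup X} (h : MaxW T X0) (hE : EE T X0 E) :
    IsPGroup 2 (X0 ⊔ E : Subgroup X) :=
  h.bad.1.to_sup_of_normal_left' hE.el.isPGroup hE.norm

/-- `X0` centralizes any two distinct commuting points that it normalizes. -/
theorem MaxW.le_cent (hT : GS T) {X0 φ ψ : Subgroup X} (h : MaxW T X0) (hφ : Pt T φ)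
    (hψ : Pt T ψ) (hne : φ ≠ ψ) (hc : φ ≤ 𝐂(ψ)) (h1 : X0 ≤ 𝐍(φ)) (h2 : X0 ≤ 𝐍(ψ)) :
    X0 ≤ 𝐂(φ) := by
  rw [← h.wb]
  exact WB_le_of fun A hA hle =>
    Pt.le_cent_of_card hT hφ hψ hne hc hA.1 (hle.trans h1) (hle.trans h2) hA.2.2.ge

theorem MaxW.pts (hT : GS T) {X0 : Subgroup X} (h : MaxW T X0) :
    ∃ φ ψ : Subgroup X, Pt T φ ∧ Pt T ψ ∧ φ ≠ ψ ∧ X0 ≤ 𝐂(φ) ∧ X0 ≤ 𝐂(ψ) := by
  obtain ⟨-, φ, ψ, h2, h3, h4, h5, h6, h7⟩ := h.bad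
  exact ⟨φ, ψ, h2, h3, h4, h.le_cent hT h2 h3 h4 h5 h6 h7,
    h.le_cent hT h3 h2 h4.symm (lcc h5) h7 h6⟩

/-- (uniq) `E` normalizes at most one of the points centralized by `X0`. -/
theorem MaxW.uniq (hT : GS T) {X0 E φ ψ : Subgroup X} (h : MaxW T X0)
    (hE : EE T X0 E) (hφ : Pt T φ) (hψ : Pt T ψ) (h1 : X0 ≤ 𝐂(φ)) (h2 : E ≤ 𝐍(φ))
    (h3 : X0 ≤ 𝐂(ψ)) (h4 : E ≤ 𝐍(ψ)) : φ = ψ := by
  by_contra hne
  have h5 : φ ≤ 𝐂(ψ) := ((h.pt_le_Om hT hφ h1).trans (Om_le X0)).trans h3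
  have hb : Bad T (X0 ⊔ E) := ⟨h.isPGroup_sup hE, φ, ψ, hφ, hψ, hne, h5,
    sup_le (h1.trans (cent_le_norm _)) h2, sup_le (h3.trans (cent_le_norm _)) h4⟩
  have hE' : BB T E := BB.of_le hE.el (hb.mono le_sup_right) hE.card
  have h6 : X0 ≤ WB T (X0 ⊔ E) := by
    calc X0 = WB T X0 := h.wb.symm
      _ ≤ _ := WB_mono le_sup_left
  have h7 := eq_of_le_of_card_ge h6 (h.max _ hb)
  exact hE.nle (h7 ▸ hE'.le_WB le_sup_right)

/-- The action of a subgroup of `𝐍(X0)` on the points centralized by `X0`. -/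
@[reducible] def parAct (T X0 D : Subgroup X) (hN : D ≤ 𝐍(X0)) :
    MulAction D {ψ : Subgroup X // Pt T ψ ∧ X0 ≤ 𝐂(ψ)} where
  smul d ψ := ⟨d.1 •ᶜ ψ.1, ψ.2.1.cj d, by
    have := cj_cent ψ.2.2 d
    rwa [cj_eq (hN d.2)] at this⟩
  one_smul ψ := Subtype.ext (map_conj_one _)
  mul_smul a b ψ := Subtype.ext (map_conj_mul _ _ _)

/-- (parity) If `E` normalizes a point centralized by `X0`, then so does every `2`-subgroup of
`𝐍(X0)`. -/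
theorem MaxW.parity (hT : GS T) {X0 E φ D : Subgroup X} (h : MaxW T X0) (hE : EE T X0 E)
    (hφ : Pt T φ) (h1 : X0 ≤ 𝐂(φ)) (h2 : E ≤ 𝐍(φ)) (hD : IsPGroup 2 D) (hN : D ≤ 𝐍(X0)) :
    ∃ ψ, Pt T ψ ∧ X0 ≤ 𝐂(ψ) ∧ D ≤ 𝐍(ψ) := by
  haveI : Fact (Nat.Prime 2) := ⟨Nat.prime_two⟩
  have hodd : ¬ 2 ∣ Nat.card {ψ : Subgroup X // Pt T ψ ∧ X0 ≤ 𝐂(ψ)} := by
    letI := parAct T X0 E hE.norm
    have k1 := hE.el.isPGroup.card_modEq_card_fixedPoints {ψ : Subgroup X // Pt T ψ ∧ X0 ≤ 𝐂(ψ)}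
    have k2 : MulAction.fixedPoints E {ψ : Subgroup X // Pt T ψ ∧ X0 ≤ 𝐂(ψ)} = {⟨φ, hφ, h1⟩} := by
      ext ψ
      rw [MulAction.mem_fixedPoints, Set.mem_singleton_iff]
      constructor
      · intro k
        exact Subtype.ext (h.uniq hT hE ψ.2.1 hφ ψ.2.2
          (fun e he => mem_norm_of_cj (congrArg Subtype.val (k ⟨e, he⟩))) h1 h2)
      · rintro rfl e
        exact Subtype.ext (cj_eq (h2 e.2))
    rw [k2, Nat.card_coe_set_eq, Set.ncard_singleton] at k1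
    intro k3
    have := (Nat.modEq_zero_iff_dvd.2 k3).symm.trans k1
    exact absurd this (by decide)
  letI := parAct T X0 D hN
  obtain ⟨ψ, hψ⟩ := hD.nonempty_fixed_point_of_prime_not_dvd_card _ hodd
  exact ⟨ψ.1, ψ.2.1, ψ.2.2, fun e he => mem_norm_of_cj (congrArg Subtype.val (hψ ⟨e, he⟩))⟩

/-! ### Transport along automorphisms -/

theorem mem_am {σ : MulAut X} {H : Subgroup X} {x : X} : x ∈ σ •ᵃ H ↔ σ.symm x ∈ H :=
  mem_map_equiv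

theorem am_mem {σ : MulAut X} {H : Subgroup X} {x : X} : σ x ∈ σ •ᵃ H ↔ x ∈ H := by
  rw [mem_am, MulEquiv.symm_apply_apply]

theorem am_conj (g : X) (H : Subgroup X) : (MulAut.conj g) •ᵃ H = g •ᶜ H := rfl

theorem am_mul (σ τ : MulAut X) (H : Subgroup X) : (σ * τ) •ᵃ H = σ •ᵃ (τ •ᵃ H) := by
  rw [map_map]; rfl

theorem am_one (H : Subgroup X) : (1 : MulAut X) •ᵃ H = H := by
  ext x; rw [mem_am]; rfl

theorem am_inv_am (σ : MulAut X) (H : Subgroup X) : σ⁻¹ •ᵃ (σ •ᵃ H) = H := by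
  rw [← am_mul, inv_mul_cancel, am_one]

theorem am_am_inv (σ : MulAut X) (H : Subgroup X) : σ •ᵃ (σ⁻¹ •ᵃ H) = H := by
  rw [← am_mul, mul_inv_cancel, am_one]

theorem am_inv_eq {σ : MulAut X} {H : Subgroup X} (h : σ •ᵃ H = H) : σ⁻¹ •ᵃ H = H := by
  conv_lhs => rw [← h]
  exact am_inv_am σ H

theorem am_le_am {σ : MulAut X} {H K : Subgroup X} : σ •ᵃ H ≤ σ •ᵃ K ↔ H ≤ K :=
  map_le_map_iff_of_injective σ.injective

theorem am_inj {σ : MulAut X} {H K : Subgroup X} (h : σ •ᵃ H = σ •ᵃ K) : H = K :=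
  le_antisymm (am_le_am.1 h.le) (am_le_am.1 h.ge)

theorem am_card (σ : MulAut X) (H : Subgroup X) : Nat.card (σ •ᵃ H) = Nat.card H :=
  card_map_of_injective σ.injective

theorem am_inf (σ : MulAut X) (H K : Subgroup X) : σ •ᵃ (H ⊓ K) = σ •ᵃ H ⊓ σ •ᵃ K :=
  map_inf_eq _ _ _ σ.injective

theorem am_cent (σ : MulAut X) (H : Subgroup X) : σ •ᵃ 𝐂(H) = 𝐂(σ •ᵃ H) := by
  ext x
  rw [mem_am, mem_centralizer_iff, mem_centralizer_iff]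
  constructor
  · rintro h _ ⟨y, hy, rfl⟩
    have := congrArg σ (h y hy)
    simpa using this
  · intro h y hy
    have := congrArg σ.symm (h (σ y) (am_mem.2 hy))
    simpa using this

theorem am_norm (σ : MulAut X) (H : Subgroup X) : σ •ᵃ 𝐍(H) = 𝐍(σ •ᵃ H) :=
  map_equiv_normalizer_eq H σ

theorem am_cent1 (σ : MulAut X) (x : X) : σ •ᵃ 𝐂[x] = 𝐂[σ x] := by
  ext y
  rw [mem_am, mem_cent1, mem_cent1]
  constructor
  · intro h
    have := congrArg σ h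
    simpa using this
  · intro h
    have := congrArg σ.symm h
    simpa using this

theorem am_cj (σ : MulAut X) (g : X) (H : Subgroup X) : σ •ᵃ (g •ᶜ H) = σ g •ᶜ (σ •ᵃ H) := by
  ext x
  rw [mem_am, mem_map_conj_iff, mem_map_conj_iff, mem_am]
  simp

theorem am_Om (σ : MulAut X) (H : Subgroup X) : σ •ᵃ Om H = Om (σ •ᵃ H) := by
  ext x
  rw [mem_am, mem_Om, mem_Om, ← am_cent, mem_am, mem_am, ← map_mul, MulEquiv.map_eq_one_iff]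

theorem El.am {H : Subgroup X} (h : El H) (σ : MulAut X) : El (σ •ᵃ H) := by
  rintro _ ⟨x, hx, rfl⟩
  have := congrArg σ (h x hx)
  simpa using this

theorem Pt.am {σ : MulAut X} (hσ : σ •ᵃ T = T) {φ : Subgroup X} (h : Pt T φ) :
    Pt T (σ •ᵃ φ) := by
  obtain ⟨g, rfl⟩ := h
  exact ⟨σ g, by rw [am_cj, am_Om, hσ]⟩

theorem Bad.am {σ : MulAut X} (hσ : σ •ᵃ T = T) {D : Subgroup X} (h : Bad T D) :
    Bad T (σ •ᵃ D) := by
  obtain ⟨h1, φ, ψ, h2, h3, h4, h5, h6, h7⟩ := h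
  refine ⟨h1.map _, σ •ᵃ φ, σ •ᵃ ψ, h2.am hσ, h3.am hσ, fun e => h4 (am_inj e), ?_, ?_, ?_⟩
  · rw [← am_cent]; exact am_le_am.2 h5
  · rw [← am_norm]; exact am_le_am.2 h6
  · rw [← am_norm]; exact am_le_am.2 h7

theorem BB.am {σ : MulAut X} (hσ : σ •ᵃ T = T) {A : Subgroup X} (h : BB T A) :
    BB T (σ •ᵃ A) :=
  ⟨El.am h.1 σ, h.2.1.am hσ, by rw [am_card]; exact h.2.2⟩

theorem WB_am_le {σ : MulAut X} (hσ : σ •ᵃ T = T) (D : Subgroup X) :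
    WB T (σ •ᵃ D) ≤ σ •ᵃ WB T D := WB_le_of fun A hA hle => by
  have h1 : σ⁻¹ •ᵃ A ≤ D := by
    have := (am_le_am (σ := σ⁻¹)).2 hle
    rwa [am_inv_am] at this
  have h2 := (am_le_am (σ := σ)).2 ((hA.am (am_inv_eq hσ)).le_WB h1)
  rwa [am_am_inv] at h2

theorem WB_am {σ : MulAut X} (hσ : σ •ᵃ T = T) (D : Subgroup X) :
    WB T (σ •ᵃ D) = σ •ᵃ WB T D := by
  refine le_antisymm (WB_am_le hσ D) ?_
  have h1 := (am_le_am (σ := σ)).2 (WB_am_le (am_inv_eq hσ) (σ •ᵃ D))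
  rwa [am_inv_am, am_am_inv] at h1

end CfsgLib.TG
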