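import Cfsg.Agent.Lib.TG.B1e

set_option autoImplicit false

namespace CfsgLib.TG

open Subgroup Cfsg CfsgLib.FT CfsgLib.FT.BGN CfsgLib.GW CfsgLib.Wal
open CfsgLib.FT.U4 (mem_cent1 mem_cent1' mem_cent mem_cent1_comm cent1_conj conj_mem_conj_iff
  orderOf_conj)
open scoped commutatorElement

variable {X : Type*} [Group X] [Finite X] {T X0 L E : Subgroup X}

open B1a

namespace FFc

variable (hT : GS T) (hf : FFc T X0 L E)
include hT hf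

theorem cent_e {e v : X} (he : e ∈ E) (hn : e ∉ 𝐂(VL T L)) (hv : v ∈ VL T L) (hc : v ∈ 𝐂[e]) :
    v ∈ 𝐂(E) := by
  obtain ⟨l, hl, hlN⟩ := SetLike.not_le_iff_exists.1 hf.nN
  have hgen : X0 ⊔ l •ᶜ E ⊔ zpowers e = L := by
    refine hf.min _ (l •ᶜ E) (l •ᶜ Om T)
      (sup_le (sup_le hf.XL (hf.ELl hl)) ((zpowers_le).2 (hf.EL he))) (hf.eel hl)
      (le_sup_left.trans le_sup_left) (le_sup_right.trans le_sup_left) ((pt_Om T).cj l)
      (hf.XC hl) (hf.ECl l) fun h => hn ?_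
    exact hf.cent_of_norm hT hl hlN he (h (mem_sup_right (mem_zpowers e)))
  obtain ⟨x, hx, y, hy, rfl⟩ := hf.split hT hl hlN hv
  have hye : y ∈ 𝐂[e] := by
    have h1 : x ∈ 𝐂[e] := U4.cent_le_cent1 he hx.2
    simpa using mul_mem (inv_mem h1) hc
  have : L ≤ 𝐂[y] := by
    refine hgen.ge.trans (sup_le (sup_le ?_ ?_) ((zpowers_le).2 (mem_cent1_comm.1 hye)))
    · exact fun w hw => mem_cent1.2 (mem_cent.1 (hf.V_le_cent hT hy.1) w hw)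
    · exact fun w hw => mem_cent1.2 (mem_cent.1 hy.2 w hw)
  exact mul_mem hx.2 (mem_cent.2 fun w hw => mem_cent1.1 (this (hf.EL hw)))

theorem comm_notin {l z e : X} (hl : l ∈ L) (hn : l ∉ 𝐍(Om T)) (hz : z ∈ l •ᶜ Om T)
    (hzL : z ∉ 𝐂(L)) (he : e ∈ E) (heV : e ∉ 𝐂(VL T L)) : ⁅z, e⁆ ∉ 𝐂(L) := by
  intro h
  have hzV : z ∈ VL T L := le_VL hl hz
  have hzB : z ∈ 𝐂(l •ᶜ E) := le_centralizer_iff.1 (hf.ECl l) hz
  have h1 : e * z * e⁻¹ ∈ (e * l) •ᶜ Om T := by rw [← cj_cj]; exact cj_mem hz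
  have h2 : e * z * e⁻¹ ∈ 𝐂(l •ᶜ E) := by
    rw [hf.conj_eq hT hzV]
    exact mul_mem hzB (centralizer_le (hf.ELl hl) h)
  have h3 := hf.pt_eq' hT (mul_mem (hf.EL he) hl) hl h1 (conj_notin (hf.EL he) hzL) h2
  rw [← cj_cj] at h3
  exact heV (hf.cent_of_norm hT hl hn he (norm_iff.2 h3.symm))

theorem comm_mul {z e e' : X} (hz : z ∈ VL T L) (he : e ∈ E) (he' : e' ∈ E) :
    ⁅z, e * e'⁆ = ⁅z, e⁆ * ⁅z, e'⁆ := by
  have h1 := conj_of_cent he (hf.comm_mem hT hz he').2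
  calc ⁅z, e * e'⁆ = ⁅z, e⁆ * (e * ⁅z, e'⁆ * e⁻¹) := by
        simp only [commutatorElement_def]; group
    _ = _ := by rw [h1]

theorem onto {l z x : X} (hl : l ∈ L) (hn : l ∉ 𝐍(Om T)) (hz : z ∈ l •ᶜ Om T)
    (hzL : z ∉ 𝐂(L)) (hx : x ∈ VL T L ⊓ 𝐂(E)) :
    ∃ e ∈ E, ∃ v ∈ VL T L ⊓ 𝐂(L), ⁅z, e⁆ * v = x := by
  have hzV : z ∈ VL T L := le_VL hl hz
  let f : E →* X := MonoidHom.mk' (fun e => ⁅z, (e : X)⁆) fun e e' => hf.comm_mul hT hzV e.2 e'.2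
  have hfA : f.range ≤ VL T L ⊓ 𝐂(E) := by
    rintro _ ⟨e, rfl⟩; exact hf.comm_mem hT hzV e.2
  have hker : f.ker = (E ⊓ 𝐂(VL T L)).subgroupOf E := by
    ext e
    rw [MonoidHom.mem_ker, mem_subgroupOf]
    constructor
    · intro h
      refine ⟨e.2, ?_⟩
      by_contra h'
      exact hf.comm_notin hT hl hn hz hzL e.2 h' (by rw [show ⁅z, (e : X)⁆ = 1 from h]; exact one_mem _)
    · exact fun h => commutatorElement_eq_one_iff_mul_comm.2 (mem_cent.1 h.2 z hzV)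
  have hinf : f.range ⊓ (VL T L ⊓ 𝐂(L)) = ⊥ := by
    refine (eq_bot_iff_forall _).2 ?_
    rintro _ ⟨⟨e, rfl⟩, h⟩
    by_contra h1
    refine hf.comm_notin hT hl hn hz hzL e.2 (fun h2 => h1 ?_) h.2
    exact commutatorElement_eq_one_iff_mul_comm.2 (mem_cent.1 h2 z hzV)
  have hnorm : VL T L ⊓ 𝐂(L) ≤ 𝐍(f.range) :=
    inf_le_left.trans ((hf.V_el hT).le_norm (hfA.trans inf_le_left))
  have c1 := card_sup_inf hnorm
  rw [hinf, card_bot, one_mul] at c1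
  have c2 : Nat.card (E ⊓ 𝐂(VL T L) : Subgroup X) * Nat.card f.range = Nat.card E := by
    rw [← index_ker, ← f.ker.card_mul_index, hker,
      Nat.card_congr (subgroupOfEquivOfLe inf_le_left).toEquiv]
  have c3 := hf.cardV hT hl hn
  have c4 := hf.cardE hT hl hn
  have hle : f.range ⊔ (VL T L ⊓ 𝐂(L)) ≤ VL T L ⊓ 𝐂(E) :=
    sup_le hfA (inf_le_inf_left _ (centralizer_le hf.EL))
  have heq : f.range ⊔ (VL T L ⊓ 𝐂(L)) = VL T L ⊓ 𝐂(E) := by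
    refine eq_of_le_of_card_ge hle ?_
    rw [← c1]
    rw [← c2, mul_left_comm] at c4
    have c5 := Nat.le_of_mul_le_mul_left c4 Nat.card_pos
    have c6 := Nat.mul_le_mul_left (Nat.card (VL T L ⊓ 𝐂(L) : Subgroup X)) c5
    rw [← c3, mul_left_comm] at c6
    have c7 := Nat.le_of_mul_le_mul_left c6 Nat.card_pos
    rwa [mul_comm] at c7
  rw [← heq] at hx
  obtain ⟨_, ⟨e, rfl⟩, v, hv, h⟩ := mem_sup_norm hnorm hx
  exact ⟨e, e.2, v, hv, h⟩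

end FFc

end CfsgLib.TG
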