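import Cfsg.Agent.Lib.TG.B0

/-!
# The failure-of-factorization configuration: structure of `V = VL T L`
-/

set_option autoImplicit false

namespace CfsgLib.TG

open Subgroup Cfsg CfsgLib.FT CfsgLib.FT.BGN CfsgLib.GW CfsgLib.Wal
open CfsgLib.FT.U4 (mem_cent1 mem_cent1' mem_cent mem_cent1_comm cent1_conj conj_mem_conj_iff
  orderOf_conj)
open scoped commutatorElement

variable {X : Type*} [Group X] [Finite X] {T X0 L E : Subgroup X}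

namespace B1a

omit [Finite X] in
theorem norm_iff {g : X} {H : Subgroup X} : g ∈ 𝐍(H) ↔ g •ᶜ H = H :=
  mem_normalizer_iff_map_conj_eq

omit [Finite X] in
theorem cj_mem {g x : X} {H : Subgroup X} (hx : x ∈ H) : g * x * g⁻¹ ∈ g •ᶜ H :=
  conj_mem_conj_iff.2 hx

omit [Finite X] in
theorem cj_one (H : Subgroup X) : (1 : X) •ᶜ H = H := cj_eq_of_mem (one_mem H)

omit [Finite X] in
theorem norm_conj_mem {g x : X} {H : Subgroup X} (hg : g ∈ 𝐍(H)) (hx : x ∈ H) :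
    g * x * g⁻¹ ∈ H := (mem_normalizer_iff.1 hg x).1 hx

omit [Finite X] in
theorem cent_le_norm' (H : Subgroup X) : 𝐂(H) ≤ 𝐍(H) := centralizer_le_normalizer _

omit [Finite X] in
theorem le_VL {l : X} (hl : l ∈ L) : l •ᶜ Om T ≤ VL T L :=
  le_iSup₂_of_le (f := fun l (_ : l ∈ L) => l •ᶜ Om T) l hl le_rfl

omit [Finite X] in
theorem Om_le_VL : Om T ≤ VL T L := by
  have := le_VL (T := T) (one_mem L)
  rwa [cj_one] at this

omit [Finite X] in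
theorem VL_le {Y : Subgroup X} (h : ∀ l ∈ L, l •ᶜ Om T ≤ Y) : VL T L ≤ Y := iSup₂_le h

omit [Finite X] in
theorem VL_conj {l v : X} (hl : l ∈ L) (hv : v ∈ VL T L) : l * v * l⁻¹ ∈ VL T L := by
  have : VL T L ≤ (VL T L).comap (MulAut.conj l).toMonoidHom := by
    refine VL_le fun m hm => ?_
    rw [← map_le_iff_le_comap, cj_cj]
    exact le_VL (mul_mem hl hm)
  exact this hv

omit [Finite X] in
/-- `𝐂(L)` is fixed pointwise by conjugation with elements of `L`. -/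
theorem conj_of_cent {l v : X} {Y : Subgroup X} (hl : l ∈ Y) (hv : v ∈ 𝐂(Y)) :
    l * v * l⁻¹ = v := by
  rw [mem_cent.1 hv l hl, mul_inv_cancel_right]

omit [Finite X] in
theorem conj_notin {l v : X} (hl : l ∈ L) (hv : v ∉ 𝐂(L)) : l * v * l⁻¹ ∉ 𝐂(L) := by
  intro h
  apply hv
  have := conj_of_cent (inv_mem hl) h
  have h2 : v = l * v * l⁻¹ := by rw [← this]; group
  rw [h2]; exact h

theorem card_cj (g : X) (H : Subgroup X) : Nat.card (g •ᶜ H) = Nat.card H :=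
  card_map_of_injective (MulAut.conj g).injective

theorem card_sup_inf {A B : Subgroup X} (h : B ≤ 𝐍(A)) :
    Nat.card A * Nat.card B = Nat.card (A ⊓ B : Subgroup X) * Nat.card (A ⊔ B : Subgroup X) := by
  classical
  haveI := Fintype.ofFinite X
  exact card_mul_eq le_sup_left le_sup_right fun x hx => exists_mul_of_mem_sup h hx

end B1a

open B1a

namespace FFc

variable (hT : GS T) (hf : FFc T X0 L E)
include hf

theorem XC {l : X} (hl : l ∈ L) : X0 ≤ 𝐂(l •ᶜ Om T) := by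
  have := le_cent_cj (g := l) hf.XZ
  rwa [conj_norm (hf.LN hl)] at this

theorem eel {l : X} (hl : l ∈ L) : EE T X0 (l •ᶜ E) := hf.ee.cj' (hf.LN hl)

theorem ECl (l : X) : l •ᶜ E ≤ 𝐂(l •ᶜ Om T) := le_cent_cj hf.EZ

theorem ELl {l : X} (hl : l ∈ L) : l •ᶜ E ≤ L :=
  cj_le_of_norm hf.EL (le_normalizer hl)

theorem Z_notle : ∃ z ∈ Om T, z ∉ 𝐂(L) := by
  by_contra h
  push Not at h
  exact hf.nN ((le_centralizer_iff.1 h).trans (cent_le_norm' _))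

include hT

theorem V_le_Om : VL T L ≤ Om X0 :=
  VL_le fun _ hl => hf.mx.pt_le_Om hT ((pt_Om T).cj _) (hf.XC hl)

theorem V_el : El (VL T L) := (Om_el X0).mono (hf.V_le_Om hT)

theorem V_le : VL T L ≤ X0 := (hf.V_le_Om hT).trans (Om_le X0)

theorem V_le_cent : VL T L ≤ 𝐂(X0) := (hf.V_le_Om hT).trans (Om_le_cent X0)

theorem pt_eq {l m : X} (hl : l ∈ L) (hm : m ∈ L) (h : l •ᶜ E ≤ 𝐍(m •ᶜ Om T)) :
    l •ᶜ Om T = m •ᶜ Om T :=
  hf.mx.uniq hT (hf.eel hl) ((pt_Om T).cj l) ((pt_Om T).cj m) (hf.XC hl)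
    ((hf.ECl l).trans (cent_le_norm' _)) (hf.XC hm) h

/-- (s) -/
theorem cent_le {l z : X} (hl : l ∈ L) (hz : z ∈ l •ᶜ Om T) (hn : z ∉ 𝐂(L)) :
    L ⊓ 𝐂[z] ≤ 𝐍(l •ᶜ Om T) := by
  by_contra h
  have hc : 𝐂(l •ᶜ Om T) ≤ 𝐂[z] := U4.cent_le_cent1 hz
  have := hf.min (L ⊓ 𝐂[z]) (l •ᶜ E) (l •ᶜ Om T) inf_le_left (hf.eel hl)
    (le_inf hf.XL ((hf.XC hl).trans hc)) (le_inf (hf.ELl hl) ((hf.ECl l).trans hc))
    ((pt_Om T).cj l) (hf.XC hl) (hf.ECl l) h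
  apply hn
  refine mem_cent.2 fun x hx => ?_
  rw [← this] at hx
  exact mem_cent1.1 hx.2

theorem pt_eq' {l m z : X} (hl : l ∈ L) (hm : m ∈ L) (hz : z ∈ l •ᶜ Om T) (hn : z ∉ 𝐂(L))
    (hc : z ∈ 𝐂(m •ᶜ E)) : m •ᶜ Om T = l •ᶜ Om T := by
  refine hf.pt_eq hT hm hl (le_trans (le_inf (hf.ELl hm) fun x hx => ?_) (hf.cent_le hT hl hz hn))
  exact mem_cent1.2 (mem_cent.1 hc x hx)

theorem gen {l : X} (hl : l ∈ L) (hn : l ∉ 𝐍(Om T)) : X0 ⊔ E ⊔ l •ᶜ E = L := by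
  refine hf.min _ E (Om T) (sup_le (sup_le hf.XL hf.EL) (hf.ELl hl)) hf.ee
    (le_sup_left.trans le_sup_left) (le_sup_right.trans le_sup_left) (pt_Om T) hf.XZ hf.EZ ?_
  intro h
  apply hn
  have := hf.pt_eq hT hl (one_mem L) (by rw [cj_one]; exact le_sup_right.trans h)
  rw [cj_one] at this
  exact norm_iff.2 this

theorem comm_mem {v e : X} (hv : v ∈ VL T L) (he : e ∈ E) : ⁅v, e⁆ ∈ VL T L ⊓ 𝐂(E) := by
  refine mem_inf.2 ⟨?_, mem_cent.2 fun x hx => ?_⟩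
  · have := mul_mem hv (VL_conj (hf.EL he) (inv_mem hv))
    simpa only [commutatorElement_def, mul_assoc] using this
  · exact (commutatorElement_eq_one_iff_mul_comm.1 (hf.quad v hv e he x hx)).symm

theorem conj_eq {v : X} (hv : v ∈ VL T L) (e : X) : e * v * e⁻¹ = v * ⁅v, e⁆ := by
  have h1 := hf.V_el hT v hv
  rw [commutatorElement_def, (hf.V_el hT).inv hv, ← mul_assoc, ← mul_assoc, ← mul_assoc, h1,
    one_mul]

omit hT hf in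
theorem cj_mem' {l x : X} (hl : l ∈ L) (hx : x ∈ VL T L ⊓ 𝐂(E)) :
    l * x * l⁻¹ ∈ VL T L ⊓ 𝐂(l •ᶜ E) := by
  refine ⟨VL_conj hl hx.1, ?_⟩
  rw [cent_conj]; exact cj_mem hx.2

omit hT hf in
theorem cj_eq' {l : X} (hl : l ∈ L) : VL T L ⊓ 𝐂(l •ᶜ E) = l •ᶜ (VL T L ⊓ 𝐂(E)) := by
  rw [cj_inf_cent]
  congr 1
  exact (conj_norm (mem_normalizer_fintype fun _ h => VL_conj hl h)).symm

theorem norm_of_le {l : X} (hl : l ∈ L) {U : Subgroup X} (h1 : VL T L ⊓ 𝐂(l •ᶜ E) ≤ U)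
    (h2 : U ≤ VL T L) : l •ᶜ E ≤ 𝐍(U) := by
  rintro _ ⟨e, he, rfl⟩
  refine mem_normalizer_fintype fun v hv => ?_
  have hv' : l⁻¹ * v * l⁻¹⁻¹ ∈ VL T L := VL_conj (inv_mem hl) (h2 hv)
  have h3 := h1 (cj_mem' hl (hf.comm_mem hT hv' he))
  have h4 := hf.conj_eq hT hv' e
  have : (MulAut.conj l).toMonoidHom e * v * ((MulAut.conj l).toMonoidHom e)⁻¹ =
      v * (l * ⁅l⁻¹ * v * l⁻¹⁻¹, e⁆ * l⁻¹) := by
    simp only [MulEquiv.coe_toMonoidHom, MulAut.conj_apply]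
    calc l * e * l⁻¹ * v * (l * e * l⁻¹)⁻¹ = l * (e * (l⁻¹ * v * l⁻¹⁻¹) * e⁻¹) * l⁻¹ := by group
      _ = _ := by rw [h4]; group
  rw [this]
  exact mul_mem hv h3

theorem sup_eq {l : X} (hl : l ∈ L) (hn : l ∉ 𝐍(Om T)) :
    (VL T L ⊓ 𝐂(E)) ⊔ (VL T L ⊓ 𝐂(l •ᶜ E)) = VL T L := by
  have hU : (VL T L ⊓ 𝐂(E)) ⊔ (VL T L ⊓ 𝐂(l •ᶜ E)) ≤ VL T L := sup_le inf_le_left inf_le_left
  refine le_antisymm hU (VL_le fun m hm => ?_)
  have hN : L ≤ 𝐍((VL T L ⊓ 𝐂(E)) ⊔ (VL T L ⊓ 𝐂(l •ᶜ E))) := by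
    refine (hf.gen hT hl hn).ge.trans (sup_le (sup_le ?_ ?_) (hf.norm_of_le hT hl le_sup_right hU))
    · exact (le_centralizer_iff.1 (hU.trans (hf.V_le_cent hT))).trans (cent_le_norm' _)
    · have := hf.norm_of_le hT (one_mem L) (by rw [cj_one]; exact le_sup_left) hU
      rwa [cj_one] at this
  exact cj_le_of_norm ((le_inf Om_le_VL (le_centralizer_iff.1 hf.EZ)).trans le_sup_left) (hN hm)

theorem split {l v : X} (hl : l ∈ L) (hn : l ∉ 𝐍(Om T)) (hv : v ∈ VL T L) :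
    ∃ x ∈ VL T L ⊓ 𝐂(E), ∃ y ∈ VL T L ⊓ 𝐂(l •ᶜ E), x * y = v := by
  rw [← hf.sup_eq hT hl hn] at hv
  exact mem_sup_norm (inf_le_left.trans ((hf.V_el hT).le_norm inf_le_left)) hv

theorem meet {l x : X} (hl : l ∈ L) (hn : l ∉ 𝐍(Om T)) (hx : x ∈ VL T L) (h1 : x ∈ 𝐂(E))
    (h2 : x ∈ 𝐂(l •ᶜ E)) : x ∈ 𝐂(L) := by
  have : L ≤ 𝐂[x] := by
    refine (hf.gen hT hl hn).ge.trans (sup_le (sup_le ?_ ?_) ?_)
    · exact fun y hy => mem_cent1.2 (mem_cent.1 (hf.V_le_cent hT hx) y hy)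
    · exact fun y hy => mem_cent1.2 (mem_cent.1 h1 y hy)
    · exact fun y hy => mem_cent1.2 (mem_cent.1 h2 y hy)
  exact mem_cent.2 fun y hy => mem_cent1.1 (this hy)

theorem cardV {l : X} (hl : l ∈ L) (hn : l ∉ 𝐍(Om T)) :
    Nat.card (VL T L ⊓ 𝐂(E) : Subgroup X) * Nat.card (VL T L ⊓ 𝐂(E) : Subgroup X) =
      Nat.card (VL T L ⊓ 𝐂(L) : Subgroup X) * Nat.card (VL T L) := by
  have h := card_sup_inf (A := VL T L ⊓ 𝐂(E)) (B := VL T L ⊓ 𝐂(l •ᶜ E))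
    (inf_le_left.trans ((hf.V_el hT).le_norm inf_le_left))
  have h2 : (VL T L ⊓ 𝐂(E)) ⊓ (VL T L ⊓ 𝐂(l •ᶜ E)) = VL T L ⊓ 𝐂(L) := by
    refine le_antisymm (fun x hx => ⟨hx.1.1, hf.meet hT hl hn hx.1.1 hx.1.2 hx.2.2⟩) ?_
    exact fun x hx => ⟨⟨hx.1, centralizer_le hf.EL hx.2⟩, hx.1, centralizer_le (hf.ELl hl) hx.2⟩
  rw [hf.sup_eq hT hl hn, h2, cj_eq' hl, card_cj] at h
  exact h

theorem cardE {l : X} (hl : l ∈ L) (hn : l ∉ 𝐍(Om T)) :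
    Nat.card (E ⊓ 𝐂(VL T L) : Subgroup X) * Nat.card (VL T L) ≤
      Nat.card (VL T L ⊓ 𝐂(E) : Subgroup X) * Nat.card E := by
  have hc : VL T L ≤ 𝐂(E ⊓ 𝐂(VL T L)) := le_centralizer_iff.1 inf_le_right
  have hel : El ((E ⊓ 𝐂(VL T L)) ⊔ VL T L) := (hf.ee.el.mono inf_le_left).sup (hf.V_el hT) hc
  have hb : Bad T ((E ⊓ 𝐂(VL T L)) ⊔ VL T L) := by
    refine Bad.of_cent hel.isPGroup (pt_Om T) ((pt_Om T).cj l)
      (fun h => hn (norm_iff.2 h.symm)) ((hf.V_el hT).le_cent' Om_le_VL (le_VL hl)) ?_ ?_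
    · exact hel.le_cent' le_rfl (Om_le_VL.trans le_sup_right)
    · exact hel.le_cent' le_rfl ((le_VL hl).trans le_sup_right)
  rw [card_sup_inf (hc.trans (cent_le_norm' _))]
  refine Nat.mul_le_mul (card_le_of_le fun x hx => ⟨hx.2, hf.ee.el.le_cent hx.1.1⟩) ?_
  exact (hb.card_le hel).trans hf.ee.card

end FFc

end CfsgLib.TG
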