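import Cfsg.Agent.Lib.TG.VB

set_option autoImplicit false

namespace CfsgLib.TG

open Subgroup Cfsg CfsgLib.FT CfsgLib.FT.BGN CfsgLib.GW CfsgLib.Wal
open CfsgLib.FT.U4 (mem_cent1 mem_cent1' mem_cent mem_cent1_comm cent1_conj conj_mem_conj_iff
  orderOf_conj)
open scoped commutatorElement

variable {X : Type*} [Group X] [Finite X] {T : Subgroup X}

theorem Seed.le_cent {W P A : Subgroup X} {u z0 d : X} (h : Seed T W P A u z0 d)
    {Q : Subgroup X} (hQ : IsPGroup 2 Q) (hN : Q ≤ 𝐍(W)) (hA : A ≤ Q) : Q ≤ 𝐂[u] := by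
  obtain ⟨c, hc, hc1, hQc⟩ := four_fix h.elW h.cardW hQ hN
  obtain ⟨e, he, heW⟩ := SetLike.not_le_iff_exists.1 h.AW
  by_cases hcu : c = u
  · exact hcu ▸ hQc
  · exfalso
    have h1 := four_conj' h.elW h.cardW h.uW h.u1 (hN (hA he)) (h.Pu (h.AP he)) heW hc hc1 hcu
    rw [U4.conj_eq_of_mem_cent1 (hQc (hA he))] at h1
    exact h.u1 (left_eq_mul.1 h1)

theorem Seed.cj {W P A : Subgroup X} {u z0 d : X} (h : Seed T W P A u z0 d) {c : X}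
    (hc : c ∈ 𝐂(Om T)) :
    Seed T (c •ᶜ W) (c •ᶜ P) (c •ᶜ A) (c * u * c⁻¹) z0 (c * d * c⁻¹) := by
  have hz : c * z0 * c⁻¹ = z0 := U4.conj_eq_of_mem_cent1 (U4.cent_le_cent1 h.zZ hc)
  have hy : ∀ y ∈ Om T, y ∈ 𝐂[d] → y ∈ 𝐂[c * d * c⁻¹] := fun y hy h1 => by
    rw [← U4.conj_eq_of_mem_cent1 (U4.cent_le_cent1 hy hc), cent1_conj]
    exact conj_mem_map_conj h1
  refine ⟨h.pP.map _, map_mono h.WP, U4.le_norm_conj h.PN c, h.elW.cj c,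
    by rw [card_map_conj, h.cardW], conj_mem_map_conj h.uW, U4.conj_ne_one_iff.2 h.u1, ?_,
    map_mono h.AP, h.elA.cj c, by rw [card_map_conj]; exact h.cardA, ?_, h.zZ, ?_,
    fun y hy' => (h.hyp y hy').imp (hy y hy') (hy _ (mul_mem h.zZ hy')), ?_, ?_, ?_, ?_⟩
  · rw [cent1_conj]; exact map_mono h.Pu
  · rw [centralizer_map_conj, U4.conj_le_conj_iff]; exact h.AW
  · rw [← U4.conj_eq_of_mem_cent hc]; exact cj_cent h.PZ c
  · rw [normalizer_map_conj]; exact conj_mem_map_conj h.dN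
  · rw [cent1_conj, conj_mem_conj_iff]; exact h.du
  · have : z0 * (c * u * c⁻¹) = c * (z0 * u) * c⁻¹ := by
      conv_lhs => rw [← hz]
      group
    rw [this, cent1_conj]; exact conj_mem_map_conj h.dz
  · intro D hD
    rw [centralizer_map_conj, ← map_conj_inf, WB_cj, card_map_conj]
    exact h.max D hD

theorem b1c_cent1_inf_le {x y : X} : 𝐂[x] ⊓ 𝐂[y] ≤ 𝐂[x * y] := by
  rintro g ⟨h1, h2⟩
  have h1' := mem_cent1.1 h1
  have h2' := mem_cent1.1 h2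
  refine mem_cent1.2 ?_
  rw [← mul_assoc, h1', mul_assoc, h2', mul_assoc]

theorem Seed.vx_of (hT : GS T) {W P A S H0 : Subgroup X} {u z0 d : X}
    (h : Seed T W P A u z0 d)
    (hH : H0 = (𝐍(W) ⊓ 𝐂[z0 * u]) ⊓ 𝐂(Om T ⊓ 𝐂[d])) (hS : IsSylowIn 2 S H0) (hPS : P ≤ S)
    (hST : S ≤ T) : Vx T W u := by
  have hHW : H0 ≤ 𝐍(W) := hH ▸ inf_le_left.trans inf_le_left
  have hHz : H0 ≤ 𝐂[z0 * u] := hH ▸ inf_le_left.trans inf_le_right
  have hdH : d ∈ H0 := hH ▸ ⟨⟨h.dN, h.dz⟩, mem_cent.2 fun y hy => mem_cent1.1 hy.2⟩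
  have hSN : S ≤ T ⊓ 𝐍(W) := le_inf hST (hS.le.trans hHW)
  have hNu : T ⊓ 𝐍(W) ≤ 𝐂[u] :=
    h.le_cent hT.isPGroup.to_inf_left inf_le_right (h.AP.trans (hPS.trans hSN))
  have hTz : T ≤ 𝐂[z0] := (le_cent_Om T).trans (U4.cent_le_cent1 h.zZ)
  have hNH : T ⊓ 𝐍(W) ≤ H0 := hH ▸ le_inf
    (le_inf inf_le_right ((le_inf (inf_le_left.trans hTz) hNu).trans b1c_cent1_inf_le))
    (inf_le_left.trans ((le_cent_Om T).trans (cent_anti inf_le_left)))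
  have hSeq : T ⊓ 𝐍(W) = S := hS.eq_of_le hT.isPGroup.to_inf_left hSN hNH
  have hK : H0 ≤ 𝐍(H0 ⊓ 𝐂(W)) :=
    H1.le_normalizer_inf le_normalizer (hHW.trans (Cop.normalizer_le_normalizer_centralizer W))
  have hE : IsSylowIn 2 (T ⊓ 𝐂(W)) (H0 ⊓ 𝐂(W)) := by
    have h1 := hS.inf_of_le_normalizer inf_le_left (hS.le.trans hK)
    have h2 : S ⊓ (H0 ⊓ 𝐂(W)) = T ⊓ 𝐂(W) := by
      refine le_antisymm (inf_le_inf hST inf_le_right) ?_
      have h3 : T ⊓ 𝐂(W) ≤ T ⊓ 𝐍(W) := inf_le_inf_left _ (U4.cent_le_norm W)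
      exact le_inf (hSeq ▸ h3) (le_inf (h3.trans hNH) inf_le_right)
    rwa [h2] at h1
  obtain ⟨k, hk, hkd⟩ := hE.frattini_elem (hK hdH)
  refine ⟨H0 ⊓ 𝐍(T ⊓ 𝐂(W)), A, k * d, z0, h.WP.trans (hPS.trans hST), h.elW,
    h.cardW, h.uW, h.u1, hNu, inf_le_right, inf_le_left.trans hHW, le_inf hNH ?_, ?_,
    ⟨mul_mem hk.1 hdH, hkd⟩, ?_, h.AP.trans (hPS.trans hSN), h.elA, h.cardA, h.AW, h.zZ,
    inf_le_left.trans hHz, ?_⟩
  · exact H1.le_normalizer_inf (inf_le_left.trans le_normalizer)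
      (inf_le_right.trans (Cop.normalizer_le_normalizer_centralizer W))
  · intro D hD hDH hDW
    have h1 := hE.eq_of_le
      (H1.isPGroup_sup_of_le_normalizer hD hE.isPGroup (hDH.trans inf_le_right)) le_sup_right
      (sup_le (le_inf (hDH.trans inf_le_left) hDW) hE.le)
    exact le_sup_left.trans (h1.le.trans inf_le_left)
  · intro hc
    have h1 : k ∈ 𝐂[u] := U4.cent_le_cent1 h.uW hk.2
    exact h.du ((mul_mem_cancel_left h1).1 hc)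
  · intro D hD
    exact (h.max D hD).trans
      (card_le_of_le (WB_mono (inf_le_inf_right _ (hPS.trans hST))))

theorem Seed.vx (hT : GS T) {W P A : Subgroup X} {u z0 d : X}
    (h : Seed T W P A u z0 d) : ∃ (W' : Subgroup X) (u' : X), Vx T W' u' := by
  have hPz : P ≤ 𝐂[z0] := h.PZ.trans (U4.cent_le_cent1 h.zZ)
  obtain ⟨S, hPS, hS⟩ := IsSylowIn.exists_ge h.pP
    (le_inf (le_inf h.PN ((le_inf hPz h.Pu).trans b1c_cent1_inf_le))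
      (h.PZ.trans (cent_anti inf_le_left)) :
      P ≤ (𝐍(W) ⊓ 𝐂[z0 * u]) ⊓ 𝐂(Om T ⊓ 𝐂[d]))
  have hSu : S ≤ 𝐂[u] :=
    h.le_cent hS.isPGroup (hS.le.trans (inf_le_left.trans inf_le_left)) (h.AP.trans hPS)
  have hSz : S ≤ 𝐂[z0] := by
    have h1 : S ≤ 𝐂[z0 * u * u] :=
      (le_inf (hS.le.trans (inf_le_left.trans inf_le_right)) hSu).trans b1c_cent1_inf_le
    rwa [mul_assoc, h.elW u h.uW, mul_one] at h1
  have hSY : S ≤ 𝐂(Om T) := by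
    refine lcc fun y hy => ?_
    have h0 : Om T ⊓ 𝐂[d] ≤ 𝐂(S) := lcc (hS.le.trans inf_le_right)
    rcases h.hyp y hy with h1 | h1
    · exact h0 ⟨hy, h1⟩
    · have h2 : z0 ∈ 𝐂(S) := mem_cent.2 fun s hs => mem_cent1.1 (hSz hs)
      exact (mul_mem_cancel_left h2).1 (h0 ⟨mul_mem h.zZ hy, h1⟩)
  obtain ⟨c, hc, hcS⟩ := hT.syl.exists_conj_le hS.isPGroup hSY
  refine ⟨_, _, (h.cj hc).vx_of hT (S := c •ᶜ S) ?_ (hS.map_conj c) (map_mono hPS) hcS⟩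
  have hz : c * z0 * c⁻¹ = z0 := U4.conj_eq_of_mem_cent1 (U4.cent_le_cent1 h.zZ hc)
  have : z0 * (c * u * c⁻¹) = c * (z0 * u) * c⁻¹ := by
    conv_lhs => rw [← hz]
    group
  rw [this, cent1_conj, cent1_conj, normalizer_map_conj, map_conj_inf, map_conj_inf,
    ← centralizer_map_conj c (Om T ⊓ 𝐂[d]), map_conj_inf, U4.conj_eq_of_mem_cent hc]

end CfsgLib.TG
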