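import Cfsg.Agent.Lib.TG.B1ax0

set_option autoImplicit false
set_option linter.unusedSectionVars false
set_option linter.unusedVariables false

namespace CfsgLib.TG

open Subgroup Cfsg CfsgLib.FT CfsgLib.FT.BGN CfsgLib.GW CfsgLib.Wal
open CfsgLib.FT.U4 (mem_cent1 mem_cent1' mem_cent mem_cent1_comm cent1_conj conj_mem_conj_iff
  orderOf_conj)
open scoped commutatorElement

variable {X : Type*} [Group X] [Finite X] {T X0 L E : Subgroup X}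

namespace B1e

open B1a

/-- Elements of `L` fixing `y` modulo `𝐂(L)`. -/
def SS (L : Subgroup X) (y : X) : Subgroup X where
  carrier := {g | g ∈ L ∧ ⁅y, g⁆ ∈ 𝐂(L)}
  one_mem' := ⟨one_mem _, by simp⟩
  mul_mem' := by
    rintro g h ⟨h1, h2⟩ ⟨h3, h4⟩
    refine ⟨mul_mem h1 h3, ?_⟩
    have : ⁅y, g * h⁆ = ⁅y, g⁆ * (g * ⁅y, h⁆ * g⁻¹) := by simp only [commutatorElement_def]; group
    rw [this, conj_of_cent h1 h4]
    exact mul_mem h2 h4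
  inv_mem' := by
    rintro g ⟨h1, h2⟩
    refine ⟨inv_mem h1, ?_⟩
    have : ⁅y, g⁻¹⁆ = g⁻¹ * ⁅y, g⁆⁻¹ * g⁻¹⁻¹ := by simp only [commutatorElement_def]; group
    rw [this, conj_of_cent (inv_mem h1) (inv_mem h2)]
    exact inv_mem h2

theorem mem_SS {y g : X} : g ∈ SS L y ↔ g ∈ L ∧ ⁅y, g⁆ ∈ 𝐂(L) := Iff.rfl

/-- Elements of `L` acting trivially on `V` modulo `𝐂(L)`. -/
def RR (T L : Subgroup X) : Subgroup X := L ⊓ ⨅ v ∈ VL T L, SS L v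

theorem mem_RR {g : X} : g ∈ RR T L ↔ g ∈ L ∧ ∀ v ∈ VL T L, ⁅v, g⁆ ∈ 𝐂(L) := by
  simp only [RR, mem_inf, mem_iInf, mem_SS]
  exact ⟨fun h => ⟨h.1, fun v hv => (h.2 v hv).2⟩, fun h => ⟨h.1, fun v hv => ⟨h.1, h.2 v hv⟩⟩⟩

theorem cmm_cj (v a e : X) : ⁅v, a * e * a⁻¹⁆ = a * ⁅a⁻¹ * v * a⁻¹⁻¹, e⁆ * a⁻¹ := by
  simp only [commutatorElement_def]; group

theorem RR_conj {g a : X} (hg : g ∈ RR T L) (ha : a ∈ L) : a * g * a⁻¹ ∈ RR T L := by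
  obtain ⟨h1, h2⟩ := mem_RR.1 hg
  refine mem_RR.2 ⟨mul_mem (mul_mem ha h1) (inv_mem ha), fun v hv => ?_⟩
  have := h2 _ (VL_conj (inv_mem ha) hv)
  rw [cmm_cj, conj_of_cent ha this]
  exact this

theorem cent_of_comm {A : Subgroup X} {y : X} (h : ∀ x ∈ A, ⁅y, x⁆ = 1) : y ∈ 𝐂(A) :=
  mem_cent.2 fun x hx => (commutatorElement_eq_one_iff_mul_comm.1 (h x hx)).symm

theorem comm_of_cent {A : Subgroup X} {y x : X} (h : y ∈ 𝐂(A)) (hx : x ∈ A) : ⁅y, x⁆ = 1 :=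
  commutatorElement_eq_one_iff_mul_comm.2 (mem_cent.1 h x hx).symm

theorem comm_mem_norm {A : Subgroup X} {y x : X} (hy : y ∈ A) (hx : x ∈ 𝐍(A)) : ⁅y, x⁆ ∈ A := by
  have := mul_mem hy (norm_conj_mem hx (inv_mem hy))
  simpa only [commutatorElement_def, mul_assoc] using this

end B1e

open B1a B1e

namespace FFc

variable (hT : GS T) (hf : FFc T X0 L E)
include hT hf

theorem V_le_L : VL T L ≤ L := (hf.V_le hT).trans hf.XL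

theorem nons {l e v : X} (hl : l ∈ L) (he : e ∈ E) (hN : e ∉ 𝐍(l •ᶜ Om T)) (hv : v ∈ VL T L)
    (hc : ⁅v, e⁆ ∈ 𝐂(L)) : v ∈ 𝐂(E) := by
  have hlN : l ∉ 𝐍(Om T) := fun h => hN (by rw [norm_iff.1 h]; exact cent_le_norm' _ (hf.EZ he))
  have hgen : X0 ⊔ l •ᶜ E ⊔ zpowers e = L :=
    hf.min _ (l •ᶜ E) (l •ᶜ Om T)
      (sup_le (sup_le hf.XL (hf.ELl hl)) ((zpowers_le).2 (hf.EL he))) (hf.eel hl)
      (le_sup_left.trans le_sup_left) (le_sup_right.trans le_sup_left) ((pt_Om T).cj l)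
      (hf.XC hl) (hf.ECl l) fun h => hN (h (mem_sup_right (mem_zpowers e)))
  obtain ⟨x, hx, y, hy, rfl⟩ := hf.split hT hl hlN hv
  have hxL : x ∈ L := hf.V_le_L hT hx.1
  have hye : ⁅y, e⁆ ∈ 𝐂(L) := by
    have h1 : ⁅y, e⁆ = x⁻¹ * (⁅x * y, e⁆ * ⁅x, e⁆⁻¹) * x⁻¹⁻¹ := by
      simp only [commutatorElement_def]; group
    rw [h1, comm_of_cent hx.2 he, inv_one, mul_one, conj_of_cent (inv_mem hxL) hc]
    exact hc
  have hS : L ≤ SS L y := by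
    refine hgen.ge.trans (sup_le (sup_le ?_ ?_) ((zpowers_le).2 ⟨hf.EL he, hye⟩))
    · intro w hw
      exact ⟨hf.XL hw, by rw [comm_of_cent (hf.V_le_cent hT hy.1) hw]; exact one_mem _⟩
    · intro w hw
      exact ⟨hf.ELl hl hw, by rw [comm_of_cent hy.2 hw]; exact one_mem _⟩
  refine mul_mem hx.2 (cent_of_comm fun w hw => ?_)
  have h2 := hf.conj_eq hT hy.1 l
  have h3 : ⁅y, l * w * l⁻¹⁆ = 1 := comm_of_cent hy.2 (B1a.cj_mem hw)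
  have h4 : ⁅⁅y, l⁆, l * w * l⁻¹⁆ = 1 :=
    comm_of_cent (hS hl).2 (mul_mem (mul_mem hl (hf.EL hw)) (inv_mem hl))
  have h5 := hf.conj_eq hT hy.1 l⁻¹
  have h6 : ⁅y, l⁻¹⁆ ∈ 𝐂(L) := (hS (inv_mem hl)).2
  have h7 : ⁅l⁻¹ * y * l⁻¹⁻¹, w⁆ = 1 := by
    rw [cmm_cj] at h3
    have : ⁅l⁻¹ * y * l⁻¹⁻¹, w⁆ = l⁻¹ * (l * ⁅l⁻¹ * y * l⁻¹⁻¹, w⁆ * l⁻¹) * l := by group
    rw [this, h3]; group
  rw [h5] at h7
  have h8 : ⁅y, w⁆ = (y * ⁅⁅y, l⁻¹⁆, w⁆ * y⁻¹)⁻¹ * ⁅y * ⁅y, l⁻¹⁆, w⁆ := by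
    simp only [commutatorElement_def]; group
  rw [h8, h7, comm_of_cent h6 (hf.EL hw)]
  group

theorem comm_pt {m e y : X} (hm : m ∈ L) (he : e ∈ E) (hN : e ∈ 𝐍(m •ᶜ Om T))
    (hy : y ∈ m •ᶜ Om T) : ⁅y, e⁆ ∈ 𝐂(L) := by
  by_cases hn : m ∈ 𝐍(Om T)
  · rw [norm_iff.1 hn] at hy
    rw [comm_of_cent (lcc hf.EZ hy) he]
    exact one_mem _
  · have h1 := hf.comm_mem hT (le_VL hm hy) he
    exact hf.meet hT hm hn h1.1 h1.2 (lcc (hf.ECl m) (comm_mem_norm hy hN))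

theorem mem_RR_of_norm {l e : X} (hl : l ∈ L) (hn : l ∉ 𝐍(Om T)) (he : e ∈ E)
    (hN : e ∈ 𝐍(l •ᶜ Om T)) : e ∈ RR T L := by
  have h1 : ∀ m ∈ L, e ∈ 𝐍(m •ᶜ Om T) := by
    intro m hm
    by_contra h
    obtain ⟨z, hz, hzL⟩ := hf.Z_notle
    have h2 : l * z * l⁻¹ ∈ l •ᶜ Om T := B1a.cj_mem hz
    have h3 := hf.nons hT hm he h (le_VL hl h2) (hf.comm_pt hT hl he hN h2)
    exact conj_notin hl hzL (hf.meet hT hl hn (le_VL hl h2) h3 (lcc (hf.ECl l) h2))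
  let S : Subgroup X :=
    { carrier := {v | v ∈ L ∧ ⁅v, e⁆ ∈ 𝐂(L)}
      one_mem' := ⟨one_mem _, by simp⟩
      mul_mem' := by
        rintro g h ⟨h1, h2⟩ ⟨h3, h4⟩
        refine ⟨mul_mem h1 h3, ?_⟩
        have : ⁅g * h, e⁆ = (g * ⁅h, e⁆ * g⁻¹) * ⁅g, e⁆ := by
          simp only [commutatorElement_def]; group
        rw [this, conj_of_cent h1 h4]
        exact mul_mem h4 h2
      inv_mem' := by
        rintro g ⟨h1, h2⟩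
        refine ⟨inv_mem h1, ?_⟩
        have : ⁅g⁻¹, e⁆ = g⁻¹ * ⁅g, e⁆⁻¹ * g⁻¹⁻¹ := by simp only [commutatorElement_def]; group
        rw [this, conj_of_cent (inv_mem h1) (inv_mem h2)]
        exact inv_mem h2 }
  have h2 : VL T L ≤ S := VL_le fun m hm y hy =>
    ⟨hf.V_le_L hT (le_VL hm hy), hf.comm_pt hT hm he (h1 m hm) hy⟩
  exact mem_RR.2 ⟨hf.EL he, fun v hv => (h2 hv).2⟩

theorem RR_le_norm : RR T L ≤ 𝐍(Om T) := by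
  intro g hg
  obtain ⟨h1, h2⟩ := mem_RR.1 hg
  obtain ⟨z, hz, hzL⟩ := hf.Z_notle
  have h3 := hf.pt_eq' hT h1 (one_mem L) (B1a.cj_mem hz) (conj_notin h1 hzL) (by
    rw [cj_one, hf.conj_eq hT (Om_le_VL hz)]
    exact mul_mem (lcc hf.EZ hz) (cent_anti hf.EL (h2 z (Om_le_VL hz))))
  rw [cj_one] at h3
  exact norm_iff.2 h3.symm

theorem nons' {a e v : X} (ha : a ∈ L) (he : e ∈ E) (hR : e ∉ RR T L) (hv : v ∈ VL T L)
    (hc : ⁅v, a * e * a⁻¹⁆ ∈ 𝐂(L)) : v ∈ 𝐂(a •ᶜ E) := by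
  obtain ⟨l, hl, hn⟩ : ∃ l ∈ L, l ∉ 𝐍(Om T) := by
    by_contra h
    push Not at h
    exact hf.nN h
  have h1 : ⁅a⁻¹ * v * a⁻¹⁻¹, e⁆ ∈ 𝐂(L) := by
    by_contra h
    exact conj_notin ha h (cmm_cj v a e ▸ hc)
  have h2 := hf.nons hT hl he (fun h => hR (hf.mem_RR_of_norm hT hl hn he h))
    (VL_conj (inv_mem ha) hv) h1
  rw [centralizer_map_conj, mem_map_conj_iff]
  simpa using h2

theorem comm_mem' {a e v : X} (ha : a ∈ L) (he : e ∈ E) (hv : v ∈ VL T L) :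
    ⁅v, a * e * a⁻¹⁆ ∈ VL T L ⊓ 𝐂(a •ᶜ E) := by
  rw [cmm_cj]
  exact cj_mem' ha (hf.comm_mem hT (VL_conj (inv_mem ha) hv) he)

theorem meet' {a b x : X} (ha : a ∈ L) (hb : b ∈ L) (hne : a •ᶜ Om T ≠ b •ᶜ Om T)
    (hx : x ∈ VL T L) (h1 : x ∈ 𝐂(a •ᶜ E)) (h2 : x ∈ 𝐂(b •ᶜ E)) : x ∈ 𝐂(L) := by
  by_contra h
  refine conj_notin (inv_mem ha) h (hf.meet hT (l := a⁻¹ * b) (mul_mem (inv_mem ha) hb)
    (fun k => hne ?_) (VL_conj (inv_mem ha) hx) ?_ ?_)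
  · have := norm_iff.1 k
    rw [map_conj_mul] at this
    conv_lhs => rw [← this]
    rw [map_conj_map_conj_inv]
  · rw [centralizer_map_conj, mem_map_conj_iff] at h1
    simpa using h1
  · rw [map_conj_mul, centralizer_map_conj]
    exact B1a.cj_mem h2

theorem conj_notin_norm {a e : X} (ha : a ∈ L) (hn : a ∉ 𝐍(Om T)) (he : e ∈ E)
    (hR : e ∉ RR T L) : a * e * a⁻¹ ∉ 𝐍(Om T) := by
  intro h
  refine hR (hf.mem_RR_of_norm hT (inv_mem ha) (fun k => hn (inv_mem_iff.1 k)) he ?_)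
  rw [normalizer_map_conj, mem_map_conj_iff]
  simpa using h

theorem fpf {a b e e' v : X} (ha : a ∈ L) (hb : b ∈ L) (hne : a •ᶜ Om T ≠ b •ᶜ Om T)
    (he : e ∈ E) (hR : e ∉ RR T L) (he' : e' ∈ E) (hR' : e' ∉ RR T L) (hv : v ∈ VL T L)
    (hc : ⁅v, (a * e * a⁻¹)⁻¹ * (b * e' * b⁻¹)⁆ ∈ 𝐂(L)) : v ∈ 𝐂(L) := by
  have hfL : a * e * a⁻¹ ∈ L := mul_mem (mul_mem ha (hf.EL he)) (inv_mem ha)
  have h1 := hf.comm_mem' hT ha he hv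
  have h2 := hf.comm_mem' hT hb he' hv
  have h3 : ⁅v, b * e' * b⁻¹⁆ = ⁅v, a * e * a⁻¹⁆ *
      ((a * e * a⁻¹) * ⁅v, (a * e * a⁻¹)⁻¹ * (b * e' * b⁻¹)⁆ * (a * e * a⁻¹)⁻¹) := by
    simp only [commutatorElement_def]; group
  rw [conj_of_cent hfL hc] at h3
  have h4 : ⁅v, b * e' * b⁻¹⁆ ∈ 𝐂(L) := by
    refine hf.meet' hT ha hb hne h2.1 ?_ h2.2
    rw [h3]
    exact mul_mem h1.2 (cent_anti (hf.ELl ha) hc)
  have h5 : ⁅v, a * e * a⁻¹⁆ ∈ 𝐂(L) := by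
    have := mul_mem h4 (inv_mem hc)
    rwa [h3, mul_inv_cancel_right] at this
  exact hf.meet' hT ha hb hne hv (hf.nons' hT ha he hR hv h5) (hf.nons' hT hb he' hR' hv h4)

theorem exists_fpf {e1 e2 : X} (h1 : e1 ∈ E) (k1 : e1 ∉ RR T L) (h2 : e2 ∈ E) (k2 : e2 ∉ RR T L)
    (k3 : e2 * e1 ∉ RR T L) :
    ∃ k ∈ L, k ∈ 𝐍(Om T) ∧ ∀ v ∈ VL T L, ⁅v, k⁆ ∈ 𝐂(L) → v ∈ 𝐂(L) := by
  by_contra hcon
  let Ω := {φ : Subgroup X // ∃ a, a ∈ L ∧ a ∉ 𝐍(Om T) ∧ φ = a •ᶜ Om T}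
  choose r hrL hrN hr using fun φ : Ω => φ.2
  let g : ∀ e, e ∈ E → e ∉ RR T L → Ω → Ω := fun e he hR φ =>
    ⟨(r φ * e * (r φ)⁻¹) •ᶜ Om T, _, mul_mem (mul_mem (hrL φ) (hf.EL he)) (inv_mem (hrL φ)),
      hf.conj_notin_norm hT (hrL φ) (hrN φ) he hR, rfl⟩
  have nrm : ∀ e he hR e' he' hR' φ φ', g e he hR φ = g e' he' hR' φ' →
      (r φ * e * (r φ)⁻¹)⁻¹ * (r φ' * e' * (r φ')⁻¹) ∈ 𝐍(Om T) := by
    intro e he hR e' he' hR' φ φ' h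
    have h3 : (r φ * e * (r φ)⁻¹) •ᶜ Om T = (r φ' * e' * (r φ')⁻¹) •ᶜ Om T :=
      congrArg Subtype.val h
    rw [norm_iff, map_conj_mul, ← h3, map_conj_inv_map_conj]
  have key : ∀ e he hR e' he' hR' φ φ', g e he hR φ = g e' he' hR' φ' → φ = φ' := by
    intro e he hR e' he' hR' φ φ' h
    by_contra hne
    refine hcon ⟨_, mul_mem (inv_mem (mul_mem (mul_mem (hrL φ) (hf.EL he)) (inv_mem (hrL φ))))
      (mul_mem (mul_mem (hrL φ') (hf.EL he')) (inv_mem (hrL φ'))),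
      nrm e he hR e' he' hR' φ φ' h, fun v hv hc => ?_⟩
    exact hf.fpf hT (hrL φ) (hrL φ') (fun k => hne (Subtype.ext (by rw [hr φ, hr φ']; exact k)))
      he hR he' hR' hv hc
  obtain ⟨l, hl, hn⟩ : ∃ l ∈ L, l ∉ 𝐍(Om T) := by
    by_contra h
    push Not at h
    exact hf.nN h
  let φ0 : Ω := ⟨_, l, hl, hn, rfl⟩
  have hinj : Function.Injective (g e1 h1 k1) := fun φ φ' h => key _ h1 k1 _ h1 k1 _ _ h
  obtain ⟨φ, hφ⟩ := Finite.surjective_of_injective hinj (g e2 h2 k2 φ0)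
  obtain rfl := key _ h1 k1 _ h2 k2 _ _ hφ
  have h3 := nrm _ h2 k2 _ h1 k1 _ _ hφ.symm
  refine hf.conj_notin_norm hT (hrL φ0) (hrN φ0) (mul_mem h2 h1) k3 ?_
  have h4 : e2⁻¹ = e2 := hf.ee.el.inv h2
  convert h3 using 1
  rw [mul_inv_rev, mul_inv_rev, h4]
  group

theorem RR_comm {r k y : X} (hr : r ∈ RR T L) (hk : k ∈ L) (hN : k ∈ 𝐍(Om T)) (hy : y ∈ Om T) :
    ⁅y, k⁆ ∈ 𝐂[r] := by
  have le : ∀ r ∈ RR T L, ∀ k ∈ L, k ∈ 𝐍(Om T) →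
      ⁅Om T, zpowers (k * r * k⁻¹)⁆ ≤ ⁅Om T, zpowers r⁆ := by
    intro r hr k hk hN
    rw [commutator_le]
    intro y hy x hx
    obtain ⟨n, rfl⟩ := mem_zpowers_iff.1 hx
    have h1 : k⁻¹ * y * k⁻¹⁻¹ ∈ Om T := norm_conj_mem (inv_mem hN) hy
    rw [conj_zpow, cmm_cj, conj_of_cent hk ((mem_RR.1 (zpow_mem hr n)).2 _ (Om_le_VL h1))]
    exact commutator_mem_commutator h1 (zpow_mem (mem_zpowers r) n)
  have h1 := RR_conj hr hk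
  have h2 := le _ h1 _ (inv_mem hk) (inv_mem hN)
  rw [show k⁻¹ * (k * r * k⁻¹) * k⁻¹⁻¹ = r by group] at h2
  have h3 := hT.qi (RR T L) (hf.RR_le_norm hT) (fun v hv b hb b' hb' =>
    comm_of_cent ((mem_RR.1 hb).2 v (Om_le_VL hv)) (mem_RR.1 hb').1) r hr _ h1
    (le_antisymm h2 (le r hr k hk hN))
  -- `r` and `k r k⁻¹` act in the same way on `k y k⁻¹`
  have h4 : k * y * k⁻¹ ∈ Om T := norm_conj_mem hN hy
  have h5 : ⁅k * y * k⁻¹, r⁆ = ⁅y, r⁆ := by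
    have c1 := comm_of_cent (lcc le_rfl h4 : k * y * k⁻¹ ∈ 𝐂(𝐂(Om T))) h3
    have c2 : ⁅k * y * k⁻¹, k * r * k⁻¹⁆ =
        ⁅k * y * k⁻¹, r⁆ * (r * ⁅k * y * k⁻¹, r⁻¹ * (k * r * k⁻¹)⁆ * r⁻¹) := by
      simp only [commutatorElement_def]; group
    rw [c1, mul_one, mul_inv_cancel, mul_one] at c2
    rw [← c2, ← conj_of_cent hk ((mem_RR.1 hr).2 y (Om_le_VL hy))]
    simp only [commutatorElement_def]; group
  have hyL : y ∈ L := hf.V_le_L hT (Om_le_VL hy)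
  have h6 : ⁅y⁻¹ * (k * y * k⁻¹), r⁆ = 1 := by
    have : ⁅y⁻¹ * (k * y * k⁻¹), r⁆ = y⁻¹ * (⁅k * y * k⁻¹, r⁆ * ⁅y, r⁆⁻¹) * y := by
      simp only [commutatorElement_def]; group
    rw [this, h5]; group
  have h7 : ⁅y, k⁆ = y⁻¹ * (k * y * k⁻¹) := by
    rw [commutatorElement_def, (Om_el T).inv hy]; group
  rw [h7, mem_cent1]
  exact commutatorElement_eq_one_iff_mul_comm.1 h6

theorem RR_le_cent {k : X} (hk : k ∈ L) (hN : k ∈ 𝐍(Om T))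
    (h : ∀ v ∈ VL T L, ⁅v, k⁆ ∈ 𝐂(L) → v ∈ 𝐂(L)) : RR T L ≤ 𝐂(VL T L) := by
  have hY := Om_el T
  let f : Om T →* X := MonoidHom.mk' (fun y => ⁅(y : X), k⁆) fun y y' => by
    have c1 : ⁅(y : X) * y', k⁆ = (y * ⁅(y' : X), k⁆ * (y : X)⁻¹) * ⁅(y : X), k⁆ := by
      simp only [commutatorElement_def]; group
    rw [coe_mul, c1, hY.comm y.2 (comm_mem_norm y'.2 hN), mul_inv_cancel_right]
    exact hY.comm (comm_mem_norm y'.2 hN) (comm_mem_norm y.2 hN)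
  have hfA : f.range ≤ Om T := by
    rintro _ ⟨y, rfl⟩; exact comm_mem_norm y.2 hN
  have hker : f.ker = (Om T ⊓ 𝐂(L)).subgroupOf (Om T) := by
    ext y
    rw [MonoidHom.mem_ker, mem_subgroupOf]
    constructor
    · intro h1
      exact ⟨y.2, h _ (Om_le_VL y.2) (by rw [show ⁅(y : X), k⁆ = 1 from h1]; exact one_mem _)⟩
    · exact fun h1 => comm_of_cent h1.2 hk
  have hinf : f.range ⊓ (Om T ⊓ 𝐂(L)) = ⊥ := by
    refine (eq_bot_iff_forall _).2 ?_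
    rintro _ ⟨⟨y, rfl⟩, h1⟩
    exact comm_of_cent (h _ (Om_le_VL y.2) h1.2) hk
  have hnorm : Om T ⊓ 𝐂(L) ≤ 𝐍(f.range) := inf_le_left.trans (hY.le_norm hfA)
  have c1 := card_sup_inf hnorm
  rw [hinf, card_bot, one_mul] at c1
  have c2 : Nat.card (Om T ⊓ 𝐂(L) : Subgroup X) * Nat.card f.range = Nat.card (Om T) := by
    rw [← index_ker, ← f.ker.card_mul_index, hker,
      Nat.card_congr (subgroupOfEquivOfLe inf_le_left).toEquiv]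
  have heq : f.range ⊔ (Om T ⊓ 𝐂(L)) = Om T :=
    eq_of_le_of_card_ge (sup_le hfA inf_le_left) (by rw [← c1, ← c2, mul_comm])
  have h1 : ∀ r ∈ RR T L, Om T ≤ 𝐂[r] := by
    intro r hr
    refine heq.ge.trans (sup_le ?_ fun x hx => U4.cent_le_cent1 (mem_RR.1 hr).1 hx.2)
    rintro _ ⟨y, rfl⟩
    exact hf.RR_comm hT hr hk hN y.2
  refine lcc (VL_le fun m hm => ?_)
  rintro _ ⟨y, hy, rfl⟩
  refine mem_cent.2 fun r hr => ?_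
  have h2 := mem_cent1.1 (h1 _ (RR_conj hr (inv_mem hm)) hy)
  simp only [MulEquiv.coe_toMonoidHom, MulAut.conj_apply]
  calc r * (m * y * m⁻¹) = m * ((m⁻¹ * r * m⁻¹⁻¹) * y) * m⁻¹ := by group
    _ = _ := by rw [← h2]; group

theorem small (h : ∀ e1 ∈ E, ∀ e2 ∈ E, e1 ∉ RR T L → e2 ∉ RR T L → e2 * e1 ∈ RR T L) :
    RR T L ⊓ E ≤ 𝐂(VL T L) := by
  have hi : (RR T L).relIndex E ≤ 2 := by
    refine Nat.le_of_dvd two_pos ?_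
    rw [relIndex_dvd_two_iff]
    by_cases h1 : ∀ e ∈ E, e ∈ RR T L
    · exact ⟨1, one_mem _, fun b hb => Or.inr (h1 b hb)⟩
    · push Not at h1
      obtain ⟨e, he, hR⟩ := h1
      exact ⟨e, he, fun b hb => (em _).symm.imp (h e he b hb hR) id⟩
  have hc : Nat.card E ≤ Nat.card (RR T L ⊓ E : Subgroup X) * 2 := by
    rw [← CfsgLib.card_inf_mul_relIndex (RR T L) E]
    exact Nat.mul_le_mul_left _ hi
  refine lcc (VL_le fun m hm => lcc ?_)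
  by_contra hn
  have hmN : m ∉ 𝐍(Om T) := fun k => hn (by rw [norm_iff.1 k]; exact inf_le_right.trans hf.EZ)
  set A := RR T L ⊓ E with hAdef
  set φ := m •ᶜ Om T with hφdef
  have hφ : Pt T φ := (pt_Om T).cj m
  have hA : El A := hf.ee.el.mono inf_le_right
  have h1 : A ≤ 𝐍(φ) := by
    intro e he
    rw [hφdef, normalizer_map_conj, mem_map_conj_iff]
    simpa using hf.RR_le_norm hT (RR_conj he.1 (inv_mem hm))
  have h3 := hφ.q1 hT h1 (fun x hx => by rw [hA x hx]; exact one_mem _) hn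
  have hc0 : φ ≤ 𝐂((𝐂(φ) ⊓ A : Subgroup X)) := lcc inf_le_left
  have hel : El ((𝐂(φ) ⊓ A) ⊔ φ) := (hA.mono inf_le_right).sup hφ.el hc0
  have hcm : φ ≤ 𝐂(Om T) := (hf.V_el hT).le_cent' (le_VL hm) Om_le_VL
  have hb : Bad T ((𝐂(φ) ⊓ A) ⊔ φ) := Bad.of_cent hel.isPGroup hφ (pt_Om T)
    (fun k => hmN (norm_iff.2 k)) hcm (sup_le inf_le_left hφ.el.le_cent)
    (sup_le (inf_le_right.trans (inf_le_right.trans hf.EZ)) hcm)
  have h4 := ((hb.card_le hel).trans hf.ee.card).trans hc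
  have h5 := card_sup_inf (hc0.trans (cent_le_norm' _))
  have h6 : Nat.card ((𝐂(φ) ⊓ A) ⊓ φ : Subgroup X) ≤ Nat.card (𝐂(A) ⊓ φ : Subgroup X) :=
    card_le_of_le fun x hx => ⟨hA.le_cent hx.1.2, hx.2⟩
  have h7 := CfsgLib.card_inf_mul_relIndex 𝐂(φ) A
  have h8 := CfsgLib.card_inf_mul_relIndex 𝐂(A) φ
  have p1 : 0 < Nat.card (𝐂(φ) ⊓ A : Subgroup X) := Nat.card_pos
  have p2 : 0 < Nat.card (𝐂(A) ⊓ φ : Subgroup X) := Nat.card_pos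
  have h9 : Nat.card (𝐂(φ) ⊓ A : Subgroup X) * Nat.card φ ≤
      Nat.card (𝐂(A) ⊓ φ : Subgroup X) * (Nat.card A * 2) := h5 ▸ Nat.mul_le_mul h6 h4
  rw [← h7, ← h8] at h9
  generalize Nat.card (𝐂(φ) ⊓ A : Subgroup X) = x at *
  generalize Nat.card (𝐂(A) ⊓ φ : Subgroup X) = y at *
  generalize (𝐂(φ)).relIndex A = a at *
  generalize (𝐂(A)).relIndex φ = b at *
  have : x * y * b ≤ x * y * (2 * a) := by nlinarith
  have := Nat.le_of_mul_le_mul_left this (Nat.mul_pos p1 p2)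
  omega

end FFc

/-- An element of `E` normalizing a second point centralizes `V`. -/
theorem FFc.cent_of_norm (hT : GS T) (hf : FFc T X0 L E) {l e : X} (hl : l ∈ L)
    (hn : l ∉ 𝐍(Om T)) (he : e ∈ E) (hN : e ∈ 𝐍(l •ᶜ Om T)) : e ∈ 𝐂(VL T L) := by
  have hR := hf.mem_RR_of_norm hT hl hn he hN
  by_cases h : ∀ e1 ∈ E, ∀ e2 ∈ E, e1 ∉ RR T L → e2 ∉ RR T L → e2 * e1 ∈ RR T L
  · exact hf.small hT h ⟨hR, he⟩
  · push Not at h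
    obtain ⟨e1, h1, e2, h2, k1, k2, k3⟩ := h
    obtain ⟨k, hk, hkN, hfp⟩ := hf.exists_fpf hT h1 k1 h2 k2 k3
    exact hf.RR_le_cent hT hk hkN hfp hR

end CfsgLib.TG
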