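import Cfsg.Agent.Lib.TG.B3a

set_option autoImplicit false

namespace CfsgLib.TG

open Subgroup Cfsg CfsgLib.FT CfsgLib.FT.BGN CfsgLib.GW CfsgLib.Wal
open CfsgLib.FT.U4 (mem_cent1 mem_cent1' mem_cent mem_cent1_comm cent1_conj conj_mem_conj_iff
  orderOf_conj)
open scoped commutatorElement

variable {X : Type*} [Group X] [Finite X] {T : Subgroup X}

variable {W : Subgroup X} {u : X}

namespace B3b

/-- In the block case an element of `E = T ⊓ 𝐂(W)` normalizing a commuting vertex with the same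
root centralizes it. -/
theorem cent_of_norm (hT : GS T) {W' : Subgroup X} (h : Vx T W u)
    (hb : ¬ T ⊓ 𝐂[u] ≤ 𝐍(W)) (h' : Vx T W' u) (hc : W' ≤ 𝐂(W)) {x : X} (hx : x ∈ T ⊓ 𝐂(W))
    (hn : x ∈ 𝐍(W')) : x ∈ 𝐂(W') := by
  obtain ⟨F, v, v', t, d1, hB⟩ := h.blk hT hb
  obtain ⟨H, A0, d, z0, hD⟩ := h
  obtain ⟨H', A0', d', z0', hD'⟩ := h'
  have hxu : x ∈ 𝐂[u] := hD'.Nu (mem_inf.2 ⟨(mem_inf.1 hx).1, hn⟩)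
  rw [mem_cent]
  intro y hy
  rcases four_conj hD'.elW hD'.cardW hD'.uW hD'.u1 hn hxu hy with e | e
  · calc y * x = x * y * x⁻¹ * x := by rw [e]
      _ = x * y := by group
  · exfalso
    obtain ⟨f, hf, w, hw, rfl⟩ := hB.dec x hx
    obtain ⟨z, hz, w0, hw0, rfl⟩ := hB.dec y (mem_inf.2 ⟨hD'.WT hy, hc hy⟩)
    have k1 : w * z = z * w := mem_cent.1 (mem_inf.1 (hB.FE hz)).2 w hw
    have k2 : w0 * f = f * w0 := mem_cent.1 (mem_inf.1 (hB.FE hf)).2 w0 hw0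
    have k3 : w * w0 = w0 * w := hD.elW.comm hw hw0
    have k4 : u * w0 = w0 * u := hD.elW.comm hD.uW hw0
    have k5 : f * w * (z * w0) * (f * w)⁻¹ = f * z * f⁻¹ * w0 := by
      calc f * w * (z * w0) * (f * w)⁻¹ = f * (w * z) * w0 * w⁻¹ * f⁻¹ := by group
        _ = f * z * (w * w0) * w⁻¹ * f⁻¹ := by rw [k1]; group
        _ = f * z * w0 * f⁻¹ := by rw [k3]; group
        _ = f * z * f⁻¹ * (f * w0) * f⁻¹ := by group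
        _ = f * z * f⁻¹ * w0 := by rw [← k2]; group
    have k6 : u = z⁻¹ * (f * z * f⁻¹) := by
      calc u = z⁻¹ * (z * (u * w0)) * w0⁻¹ := by group
        _ = z⁻¹ * (z * w0 * u) * w0⁻¹ := by rw [k4, mul_assoc z]
        _ = _ := by rw [← e, k5]; group
    have k7 : u ∈ F ⊓ W := mem_inf.2 ⟨by
      rw [k6]; exact mul_mem (inv_mem hz) (mul_mem (mul_mem hf hz) (inv_mem hf)), hD.uW⟩
    rw [hB.FW] at k7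
    exact hD.u1 (mem_bot.1 k7)

theorem exists_x (hT : GS T) {W' Q : Subgroup X} (h : Vx T W u)
    (hb : ¬ T ⊓ 𝐂[u] ≤ 𝐍(W)) (h' : Vx T W' u) (hne : W ≠ W') (hc : W' ≤ 𝐂(W))
    (hQ : Q = T ⊓ 𝐂(W) ⊓ 𝐂(W')) :
    ∃ x ∈ T ⊓ 𝐂(W), x ∈ 𝐍(Q) ∧ x ∉ 𝐍(W') := by
  have hTp : IsPGroup 2 T := hT.isPGroup
  have hlt : Q < T ⊓ 𝐂(W) := by
    rw [hQ]
    refine lt_of_le_of_ne inf_le_left fun e => ?_
    obtain ⟨H, A0, d, z0, hD⟩ := h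
    obtain ⟨y, hy, hy'⟩ := hD.exists_e
    have h1 : T ⊓ 𝐂(W) ≤ 𝐂(W') := e ▸ inf_le_right
    exact hy' (hD.two_vx hT h' hne hc ((WB_le _ _).trans (h1.trans (cent_le_norm _))) hy)
  obtain ⟨x, hx, hx'⟩ := SetLike.exists_of_lt
    (lt_inf_normalizer_of_isPGroup (hTp.to_le inf_le_left) hlt)
  refine ⟨x, (mem_inf.1 hx).1, (mem_inf.1 hx).2, fun hn => hx' ?_⟩
  rw [hQ]
  exact mem_inf.2 ⟨(mem_inf.1 hx).1, cent_of_norm hT h hb h' hc (mem_inf.1 hx).1 hn⟩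

theorem norm_cent {A : Subgroup X} {g : X} (hg : g ∈ 𝐍(A)) : g •ᶜ 𝐂(A) = 𝐂(A) := by
  rw [← centralizer_map_conj, cj_eq hg]

theorem step (hT : GS T) {W' : Subgroup X} (h : Vx T W u)
    (hb : ¬ T ⊓ 𝐂[u] ≤ 𝐍(W)) (h' : Vx T W' u) (hb' : ¬ T ⊓ 𝐂[u] ≤ 𝐍(W')) (hne : W ≠ W')
    (hc : W' ≤ 𝐂(W)) :
    ∃ W'' : Subgroup X, Vx T W'' u ∧ ¬ T ⊓ 𝐂[u] ≤ 𝐍(W'') ∧ W ≠ W'' ∧ W'' ≤ 𝐂(W) ∧
      T ⊓ 𝐍(W) ⊓ 𝐍(W') < T ⊓ 𝐍(W) ⊓ 𝐍(W'') := by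
  have hTp : IsPGroup 2 T := hT.isPGroup
  obtain ⟨Q, hQ⟩ : ∃ Q, Q = T ⊓ 𝐂(W) ⊓ 𝐂(W') := ⟨_, rfl⟩
  obtain ⟨x, hx, hxQ, hxn⟩ := exists_x hT h hb h' hne hc hQ
  obtain ⟨y, hy, hyQ, hyn⟩ := exists_x (Q := Q) hT h' hb' h hne.symm (lcc hc)
    (by rw [hQ, inf_right_comm])
  obtain ⟨H, A0, d, z0, hD⟩ := id h
  obtain ⟨H', A0', d', z0', hD'⟩ := id h'
  obtain ⟨P, hP⟩ : ∃ P, P = T ⊓ 𝐂[u] ⊓ 𝐍(Q) := ⟨_, rfl⟩
  have hPT : P ≤ T := by rw [hP]; exact inf_le_left.trans inf_le_left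
  have hyP : y ∈ P := by
    rw [hP]
    exact mem_inf.2 ⟨mem_inf.2 ⟨(mem_inf.1 hy).1,
      hD'.Nu (mem_inf.2 ⟨(mem_inf.1 hy).1, cent_le_norm _ (mem_inf.1 hy).2⟩)⟩, hyQ⟩
  have hxN : x ∈ T ⊓ 𝐍(W) := mem_inf.2 ⟨(mem_inf.1 hx).1, cent_le_norm _ (mem_inf.1 hx).2⟩
  have hxP : x ∈ P := by
    rw [hP]
    exact mem_inf.2 ⟨mem_inf.2 ⟨(mem_inf.1 hx).1, hD.Nu hxN⟩, hxQ⟩
  have hlt : P ⊓ 𝐍(W) < P :=
    lt_of_le_of_ne inf_le_left fun e => hyn (mem_inf.1 (e.ge hyP)).2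
  obtain ⟨g, hg, hg'⟩ := SetLike.exists_of_lt
    (lt_inf_normalizer_of_isPGroup (hTp.to_le hPT) hlt)
  obtain ⟨hgP, hgN⟩ := mem_inf.1 hg
  have hgW : g ∉ 𝐍(W) := fun e => hg' (mem_inf.2 ⟨hgP, e⟩)
  rw [hP] at hgP
  obtain ⟨hg1, hgQ⟩ := mem_inf.1 hgP
  obtain ⟨hgT, hgu⟩ := mem_inf.1 hg1
  have hI : T ⊓ 𝐍(W) ⊓ 𝐍(W') ≤ P ⊓ 𝐍(W) := fun n hn => by
    obtain ⟨hn1, hn2⟩ := mem_inf.1 hn
    obtain ⟨hn3, hn4⟩ := mem_inf.1 hn1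
    refine mem_inf.2 ⟨?_, hn4⟩
    rw [hP]
    refine mem_inf.2 ⟨mem_inf.2 ⟨hn3, hD.Nu hn1⟩, mem_norm_of_cj ?_⟩
    rw [hQ, map_inf _ _ _ (MulAut.conj n).injective, map_inf _ _ _ (MulAut.conj n).injective,
      norm_cent hn4, norm_cent hn2, cj_eq (le_normalizer hn3)]
  have hR : P ⊓ 𝐍(W) ≤ 𝐍(g •ᶜ W) := by
    have := cj_norm (inf_le_right : P ⊓ 𝐍(W) ≤ 𝐍(W)) g
    rwa [cj_eq hgN] at this
  refine ⟨g •ᶜ W, ?_, fun e => hgW ?_, fun e => hgW (mem_norm_of_cj e.symm), ?_, ?_⟩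
  · have := h.cj (le_normalizer hgT)
    rwa [B3.conj_eq_of_cent1 hgu] at this
  · have h1 := cj_eq (inv_mem (e hg1))
    rw [map_conj_inv_map_conj] at h1
    exact mem_norm_of_cj h1.symm
  · have h1 : W ≤ Q := by
      rw [hQ]; exact le_inf (le_inf hD.WT hD.elW.le_cent) (lcc hc)
    have h2 : g •ᶜ W ≤ g •ᶜ Q := map_mono h1
    rw [cj_eq hgQ, hQ] at h2
    exact h2.trans (inf_le_left.trans inf_le_right)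
  · have h1 : P ⊓ 𝐍(W) ≤ T ⊓ 𝐍(W) ⊓ 𝐍(g •ᶜ W) := le_inf (inf_le_inf_right _ hPT) hR
    refine lt_of_le_of_ne (hI.trans h1) fun e => hxn ?_
    exact (mem_inf.1 (e.ge (h1 (mem_inf.2 ⟨hxP, (mem_inf.1 hxN).2⟩)))).2

theorem no_pair (hT : GS T) (h : Vx T W u) (hb : ¬ T ⊓ 𝐂[u] ≤ 𝐍(W)) :
    ∀ (I W' : Subgroup X), I = T ⊓ 𝐍(W) ⊓ 𝐍(W') → Vx T W' u → ¬ T ⊓ 𝐂[u] ≤ 𝐍(W') → W ≠ W' →
      W' ≤ 𝐂(W) → False := by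
  intro I
  induction I using WellFoundedGT.induction with
  | ind I ih =>
    intro W' hI h' hb' hne hc
    obtain ⟨W'', k1, k2, k3, k4, k5⟩ := step hT h hb h' hb' hne hc
    exact ih _ (hI ▸ k5) W'' rfl k1 k2 k3 k4

end B3b

/-- (R1) in the block case (Lemma C). -/
theorem Vx.block_lc (hT : GS T) (h : Vx T W u) (hb : ¬ T ⊓ 𝐂[u] ≤ 𝐍(W)) :
    LC T W u := by
  intro n hnT hnu hc
  by_contra hn
  refine B3b.no_pair hT h hb _ (n •ᶜ W) rfl ?_ (fun e => hn ?_)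
    (fun e => hn (mem_norm_of_cj e.symm)) hc
  · have := h.cj (le_normalizer hnT)
    rwa [B3.conj_eq_of_cent1 hnu] at this
  · have h1 := cj_eq (inv_mem (e (mem_inf.2 ⟨hnT, hnu⟩)))
    rw [map_conj_inv_map_conj] at h1
    exact mem_norm_of_cj h1.symm

end CfsgLib.TG
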