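import Cfsg.Agent.Lib.TG.VB

set_option autoImplicit false

namespace CfsgLib.TG

open Subgroup Cfsg CfsgLib.FT CfsgLib.FT.BGN CfsgLib.GW CfsgLib.Wal
open CfsgLib.FT.U4 (mem_cent1 mem_cent1' mem_cent mem_cent1_comm cent1_conj conj_mem_conj_iff
  orderOf_conj)
open scoped commutatorElement

variable {X : Type*} [Group X] [Finite X] {T : Subgroup X}

variable {W : Subgroup X} {u : X}

theorem b5b_WB_inf_cent_eq {x : X} (hx : x ∈ 𝐂(WB T T)) : WB T (T ⊓ 𝐂[x]) = WB T T := by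
  refine le_antisymm (WB_mono inf_le_left) ?_
  calc WB T T = WB T (WB T T) := (WB_idem T T).symm
    _ ≤ WB T (T ⊓ 𝐂[x]) := by
      refine WB_mono (le_inf (WB_le T T) fun y hy => ?_)
      exact mem_cent1.2 (mem_cent.1 hx y hy)

theorem Inv.b5mem {𝔄 : Subgroup (MulAut X)} {Y : Subgroup X} (hI : Inv 𝔄 Y) {σ : MulAut X}
    (hσ : σ ∈ 𝔄) {y : X} (hy : y ∈ Y) : σ y ∈ Y := by
  rw [← hI σ hσ]; exact am_mem.2 hy

/-- The product of an orbit inside an invariant elementary abelian subgroup. -/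
theorem b5b_orbit_prod {𝔄 : Subgroup (MulAut X)} {Y : Subgroup X} (hY : El Y) (hI : Inv 𝔄 Y)
    (hu : u ∈ Y) (C : Subgroup X) (hC : ∀ σ ∈ 𝔄, σ u ≠ u → σ u ∈ C) :
    ∃ p ∈ Y, (∀ σ ∈ 𝔄, σ p = p) ∧ u⁻¹ * p ∈ C := by
  classical
  let _ : CommGroup Y :=
    { (inferInstance : Group Y) with mul_comm := fun a b => Subtype.ext (hY.comm a.2 b.2) }
  let s : Finset Y := (Set.toFinite {y : Y | ∃ σ ∈ 𝔄, σ u = y}).toFinset
  have hs : ∀ y : Y, y ∈ s ↔ ∃ σ ∈ 𝔄, σ u = y := fun y => by simp [s]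
  refine ⟨((∏ y ∈ s, y : Y) : X), Subtype.prop _, fun σ hσ => ?_, ?_⟩
  · let φ : Y →* Y := (σ.toMonoidHom.comp Y.subtype).codRestrict Y fun y => hI.b5mem hσ y.2
    have h1 : φ (∏ y ∈ s, y) = ∏ y ∈ s, y := by
      rw [map_prod]
      refine Finset.prod_nbij φ (fun y hy => ?_) (fun y _ z _ h => ?_) (fun y hy => ?_)
        fun _ _ => rfl
      · obtain ⟨τ, hτ, h⟩ := (hs y).1 hy
        exact (hs _).2 ⟨σ * τ, mul_mem hσ hτ, by simp [φ, h]⟩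
      · exact Subtype.ext (σ.injective (congrArg Subtype.val h))
      · obtain ⟨τ, hτ, h⟩ := (hs y).1 hy
        refine ⟨⟨σ⁻¹ y, hI.b5mem (inv_mem hσ) y.2⟩,
          (hs _).2 ⟨σ⁻¹ * τ, mul_mem (inv_mem hσ) hτ, by simp [h]⟩, Subtype.ext ?_⟩
        simp [φ]
    exact congrArg Subtype.val h1
  · have h1 : (⟨u, hu⟩ : Y) ∈ s := (hs _).2 ⟨1, one_mem _, rfl⟩
    rw [← Finset.mul_prod_erase s _ h1]
    have h2 : (∏ y ∈ s.erase ⟨u, hu⟩, y) ∈ C.subgroupOf Y := by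
      refine prod_mem fun y hy => ?_
      obtain ⟨h3, h4⟩ := Finset.mem_erase.1 hy
      obtain ⟨τ, hτ, h⟩ := (hs y).1 h4
      rw [mem_subgroupOf, ← h]
      exact hC τ hτ fun h5 => h3 (Subtype.ext (h.symm.trans h5))
    simpa using mem_subgroupOf.1 h2

/-- Product of the `𝔄`-orbit of `u` inside `Om (WB T T)`. -/
theorem TC.final {P : Subgroup X} {𝔄 : Subgroup (MulAut X)} (hc : TC P 𝔄) (hI : Inv 𝔄 T)
    (hT : GS T) (h : Vx T W u) (ind : Ind T u) (hJ : WB T T ≤ 𝐂[u]) : False := by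
  obtain ⟨H, A0, d, z0, h⟩ := h
  obtain ⟨e, he, hind⟩ := ind
  have hu0 := h.W_le_Om hT h.uW
  have hu : u ∈ Om (WB T T) :=
    ⟨WB_mono inf_le_left hu0.1, mem_cent.2 fun y hy => mem_cent1.1 (hJ hy), hu0.2.2⟩
  have hIJ : Inv 𝔄 (Om (WB T T)) := fun σ hσ => by
    rw [am_Om, ← WB_am (hI σ hσ), hI σ hσ]
  obtain ⟨p, hp, h1, h2⟩ := b5b_orbit_prod (Om_el _) hIJ hu 𝐂[e] fun σ hσ hne => by
    refine mem_cent1_comm.1 (hind σ (hI σ hσ) hne ?_)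
    rw [b5b_WB_inf_cent_eq (hIJ.b5mem hσ hu).2.1, b5b_WB_inf_cent_eq hu.2.1]
  have h3 : p = 1 := hc.fix p hp.2.2 fun σ hσ => ⟨1, by rw [h1 σ hσ]; group⟩
  rw [h3, mul_one, inv_mem_iff] at h2
  exact he (mem_cent1_comm.1 h2)

end CfsgLib.TG
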