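import Cfsg.Agent.Lib.TG.B0
import Cfsg.Agent.Lib.TG.MSd

set_option autoImplicit false
set_option linter.unusedSectionVars false
set_option linter.unusedVariables false

namespace CfsgLib.TG

open Subgroup Cfsg CfsgLib.FT CfsgLib.FT.BGN CfsgLib.GW CfsgLib.Wal
open CfsgLib.FT.U4 (mem_cent1 mem_cent1' mem_cent mem_cent1_comm cent1_conj conj_mem_conj_iff
  orderOf_conj)
open scoped commutatorElement

variable {X : Type*} [Group X] [Finite X] {P T : Subgroup X} {𝔄 : Subgroup (MulAut X)}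

namespace Br

/-- The holomorph of `Y`. -/
abbrev Hol (Y : Subgroup X) : Type _ := ↥Y ⋊[MonoidHom.id (MulAut ↥Y)] MulAut ↥Y

instance (Y : Subgroup X) : Finite (Hol Y) :=
  Finite.of_equiv _ SemidirectProduct.equivProd.symm

/-- The embedding of `Y`. -/
def io (Y : Subgroup X) : ↥Y →* Hol Y := SemidirectProduct.inl

/-- The action of the normalizer. -/
def ka (Y : Subgroup X) : ↥𝐍(Y) →* Hol Y :=
  SemidirectProduct.inr.comp Y.normalizerMonoidHom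

/-- The image of a subgroup of `𝐍(Y)`. -/
def ht (Y A : Subgroup X) : Subgroup (Hol Y) := (A.subgroupOf 𝐍(Y)).map (ka Y)

/-- The image of a subgroup of `Y`. -/
def vt (Y W : Subgroup X) : Subgroup (Hol Y) := (W.subgroupOf Y).map (io Y)

/-- The automorphisms of `Y` induced by `𝔄`. -/
def au (Y : Subgroup X) (𝔄 : Subgroup (MulAut X)) : Subgroup (MulAut ↥Y) where
  carrier := {τ | ∃ σ ∈ 𝔄, ∀ y : Y, (τ y : X) = σ y}
  one_mem' := ⟨1, one_mem _, fun _ => rfl⟩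
  mul_mem' := by
    rintro τ τ' ⟨σ, h1, h2⟩ ⟨σ', h3, h4⟩
    exact ⟨σ * σ', mul_mem h1 h3, fun y => by
      rw [MulAut.mul_apply, MulAut.mul_apply, h2, h4]⟩
  inv_mem' := by
    rintro τ ⟨σ, h1, h2⟩
    refine ⟨σ⁻¹, inv_mem h1, fun y => ?_⟩
    have := h2 (τ⁻¹ y)
    rw [MulAut.apply_inv_self] at this
    rw [this, MulAut.inv_apply_self]

/-- The image of `𝔄` in the holomorph. -/
def bt (Y : Subgroup X) (𝔄 : Subgroup (MulAut X)) : Subgroup (Hol Y) :=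
  (au Y 𝔄).map SemidirectProduct.inr

variable {Y : Subgroup X}

theorem io_inj : Function.Injective (io Y) := SemidirectProduct.inl_injective

theorem inr_io (τ : MulAut ↥Y) (y : Y) :
    (SemidirectProduct.inr τ : Hol Y) * io Y y * (SemidirectProduct.inr τ)⁻¹ = io Y (τ y) := by
  rw [← map_inv]
  exact (SemidirectProduct.inl_aut (φ := MonoidHom.id (MulAut ↥Y)) τ y).symm

theorem ka_io (n : 𝐍(Y)) (y : Y) :
    ka Y n * io Y y * (ka Y n)⁻¹ = io Y ⟨n * y * (n : X)⁻¹, norm_mem n.2 y.2⟩ :=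
  inr_io _ y

theorem ka_eq_one {n : 𝐍(Y)} : ka Y n = 1 ↔ (n : X) ∈ 𝐂(Y) := by
  rw [← mem_subgroupOf, ← normalizerMonoidHom_ker, MonoidHom.mem_ker, ka, MonoidHom.comp_apply,
    map_eq_one_iff _ SemidirectProduct.inr_injective]

theorem ker_ka : (ka Y).ker = 𝐂(Y).subgroupOf 𝐍(Y) := by
  ext n; rw [MonoidHom.mem_ker, ka_eq_one, mem_subgroupOf]

theorem comm_io_ka (y : Y) (n : 𝐍(Y)) (h : ⁅(y : X), (n : X)⁆ ∈ Y) :
    ⁅io Y y, ka Y n⁆ = io Y ⟨⁅(y : X), (n : X)⁆, h⟩ := by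
  have h1 : ⁅io Y y, ka Y n⁆ = io Y y * (ka Y n * io Y y⁻¹ * (ka Y n)⁻¹) := by
    rw [commutatorElement_def, map_inv]; group
  rw [h1, ka_io, ← map_mul]
  congr 1
  ext
  simp [commutatorElement_def, mul_assoc]

theorem comm_mem (y : Y) (n : 𝐍(Y)) : ⁅(y : X), (n : X)⁆ ∈ Y := by
  have := mul_mem y.2 (norm_mem n.2 (inv_mem y.2))
  simpa only [commutatorElement_def, mul_assoc] using this

theorem mem_ht {A : Subgroup X} {x : Hol Y} : x ∈ ht Y A ↔ ∃ n : 𝐍(Y), (n : X) ∈ A ∧ ka Y n = x :=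
  Iff.rfl

theorem mem_vt {W : Subgroup X} {x : Hol Y} : x ∈ vt Y W ↔ ∃ y : Y, (y : X) ∈ W ∧ io Y y = x :=
  Iff.rfl

theorem io_mem_vt {W : Subgroup X} {y : Y} : io Y y ∈ vt Y W ↔ (y : X) ∈ W :=
  ⟨fun ⟨y', h1, h2⟩ => io_inj h2 ▸ h1, fun h => ⟨y, h, rfl⟩⟩

theorem ht_mono {A A' : Subgroup X} (h : A ≤ A') : ht Y A ≤ ht Y A' :=
  map_mono (subgroupOf_mono _ h)

theorem vt_mono {A A' : Subgroup X} (h : A ≤ A') : vt Y A ≤ vt Y A' :=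
  map_mono (subgroupOf_mono _ h)

theorem io_comm_ka {y : Y} {n : 𝐍(Y)} :
    ka Y n * io Y y = io Y y * ka Y n ↔ (n : X) * y = y * n := by
  rw [← mul_inv_eq_iff_eq_mul, ka_io, io_inj.eq_iff, Subtype.ext_iff, mul_inv_eq_iff_eq_mul]

theorem io_mem_cent {A : Subgroup X} (hA : A ≤ 𝐍(Y)) {y : Y} :
    io Y y ∈ 𝐂(ht Y A) ↔ (y : X) ∈ 𝐂(A) := by
  rw [mem_cent, mem_cent]
  constructor
  · intro h a ha
    exact io_comm_ka (n := ⟨a, hA ha⟩) |>.1 (h _ ⟨⟨a, hA ha⟩, ha, rfl⟩)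
  · rintro h _ ⟨n, hn, rfl⟩
    exact io_comm_ka.2 (h n hn)

theorem card_ht {A : Subgroup X} (hA : A ≤ 𝐍(Y)) : Nat.card (ht Y A) = 𝐂(Y).relIndex A := by
  rw [ht, ← relIndex_ker, ker_ka, relIndex_subgroupOf hA]

theorem vt_top : vt Y Y = (io Y).range := by
  rw [vt, subgroupOf_self, MonoidHom.range_eq_map]

theorem relIndex_cent {A : Subgroup X} (hA : A ≤ 𝐍(Y)) :
    𝐂(ht Y A).relIndex (vt Y Y) = 𝐂(A).relIndex Y := by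
  rw [vt_top, ← index_comap, relIndex]
  congr 1
  ext y
  rw [mem_comap, io_mem_cent hA, mem_subgroupOf]

theorem relIndex_vt (W : Subgroup X) : (vt Y W).relIndex (vt Y Y) = W.relIndex Y := by
  rw [vt_top, ← index_comap, relIndex, vt, comap_map_eq_self_of_injective io_inj]

theorem comm_le {A A' : Subgroup X} (hA : A ≤ 𝐍(Y)) (hA' : A' ≤ 𝐍(Y)) (h : ⁅Y, A⁆ ≤ ⁅Y, A'⁆) :
    ⁅vt Y Y, ht Y A⁆ ≤ ⁅vt Y Y, ht Y A'⁆ := by
  have h1 : ⁅Y, A'⁆ ≤ ((⁅vt Y Y, ht Y A'⁆ : Subgroup (Hol Y)).comap (io Y)).map Y.subtype := by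
    refine commutator_le.2 fun y hy a ha => ?_
    refine ⟨⟨_, comm_mem ⟨y, hy⟩ ⟨a, hA' ha⟩⟩, ?_, rfl⟩
    rw [SetLike.mem_coe, mem_comap, ← comm_io_ka]
    exact commutator_mem_commutator (io_mem_vt.2 hy) ⟨_, ha, rfl⟩
  refine commutator_le.2 ?_
  rintro _ ⟨y, -, rfl⟩ _ ⟨n, hn, rfl⟩
  rw [comm_io_ka y n (comm_mem y n)]
  obtain ⟨z, hz, e⟩ := h1 (h (commutator_mem_commutator y.2 hn))
  have : z = ⟨⁅(y : X), (n : X)⁆, comm_mem y n⟩ := Subtype.ext e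
  rw [← this]
  exact hz

theorem ht_zpowers (n : 𝐍(Y)) : ht Y (zpowers (n : X)) = zpowers (ka Y n) := by
  rw [← MonoidHom.map_zpowers, ht]
  congr 1
  have : zpowers (n : X) = (zpowers n).map 𝐍(Y).subtype := by rw [MonoidHom.map_zpowers]; rfl
  rw [this, subgroupOf, comap_map_eq_self_of_injective 𝐍(Y).subtype_injective]

theorem exists_bt {σ : MulAut X} (hσ : σ ∈ 𝔄) (h : σ •ᵃ Y = Y) :
    ∃ τ ∈ au Y 𝔄, ∀ y : Y, (τ y : X) = σ y :=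
  ⟨(σ.subgroupMap Y).trans (MulEquiv.subgroupCongr h), ⟨σ, hσ, fun _ => rfl⟩, fun _ => rfl⟩

theorem inr_ka {σ : MulAut X} {τ : MulAut ↥Y} (h : ∀ y : Y, (τ y : X) = σ y) (n : 𝐍(Y))
    (hn : σ n ∈ 𝐍(Y)) :
    (SemidirectProduct.inr τ : Hol Y) * ka Y n * (SemidirectProduct.inr τ)⁻¹ = ka Y ⟨σ n, hn⟩ := by
  rw [ka, MonoidHom.comp_apply, MonoidHom.comp_apply, ← map_inv, ← map_mul, ← map_mul]
  congr 1
  ext y
  have h1 := h (τ⁻¹ y)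
  rw [MulAut.apply_inv_self] at h1
  rw [MulAut.mul_apply, MulAut.mul_apply, h]
  change σ (n * (τ⁻¹ y : Y) * (n : X)⁻¹) = σ n * y * (σ n)⁻¹
  rw [map_mul, map_mul, map_inv, ← h1]

theorem bt_norm_ht {A : Subgroup X} (hY : Inv 𝔄 Y) (hA : Inv 𝔄 A) : bt Y 𝔄 ≤ 𝐍(ht Y A) := by
  rintro _ ⟨τ, ⟨σ, hσ, h⟩, rfl⟩
  refine mem_norm_of_cj_le ?_
  rintro _ ⟨_, ⟨n, hn, rfl⟩, rfl⟩
  have h1 : σ n ∈ 𝐍(Y) := by
    have := (am_mem (σ := σ)).2 n.2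
    rwa [am_norm, hY σ hσ] at this
  refine ⟨⟨σ n, h1⟩, ?_, (inr_ka h n h1).symm⟩
  change σ n ∈ A
  rw [← hA σ hσ]; exact am_mem.2 hn

end Br

open Br

theorem TS.inv_Om (hT : TS P 𝔄 T) : Inv 𝔄 (Om T) := fun σ hσ => by rw [am_Om, hT.inv σ hσ]

theorem TC.le_norm (h : TC P 𝔄) {D : Subgroup X} (hD : Inv 𝔄 D) : P ≤ 𝐍(D) := fun p hp =>
  mem_norm_of_cj (hD _ (h.inn p (le_normalizer hp)))

theorem TS.P_le (h : TC P 𝔄) (hT : TS P 𝔄 T) : P ≤ 𝐍(Om T) := h.le_norm hT.inv_Om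

theorem TS.inf_cent (h : TC P 𝔄) (hT : TS P 𝔄 T) : P ⊓ 𝐂(Om T) = T :=
  hT.syl.eq_of_le h.syl.isPGroup.to_inf_left (le_inf hT.le (le_cent_Om T)) inf_le_right

theorem TC.norm_ne_top (h : TC P 𝔄) {Y : Subgroup X} (h0 : Y ≠ ⊥) (hY : Y ≤ 𝐂(Y)) :
    𝐍(Y) ≠ ⊤ := by
  intro e
  have := h.simple
  have hn : Y.Normal := normalizer_eq_top_iff.1 e
  rcases hn.eq_bot_or_eq_top with h1 | h1
  · exact h0 h1
  · subst h1
    exact h.nonab ⟨⟨fun a b => mem_cent.1 (hY (mem_top b)) a (mem_top a)⟩⟩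

theorem TS.sol_norm (h : TC P 𝔄) (hT : TS P 𝔄 T) : Group.IsSolvable 𝐍(Om T) :=
  h.sol _ (h.norm_ne_top hT.ne (Om_el T).le_cent) fun σ hσ => by rw [am_norm, hT.inv_Om σ hσ]

/-- The subgroup `T⟨p⟩` for `p` normalizing `T` with `p² ∈ T`. -/
def ext2 (T : Subgroup X) (p : X) (h1 : p ∈ 𝐍(T)) (h2 : p * p ∈ T) : Subgroup X where
  carrier := {x | x ∈ T ∨ x * p ∈ T}
  one_mem' := Or.inl T.one_mem
  mul_mem' := by
    rintro x y (hx | hx) (hy | hy)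
    · exact Or.inl (T.mul_mem hx hy)
    · exact Or.inr (by rw [mul_assoc]; exact T.mul_mem hx hy)
    · refine Or.inr ?_
      have := T.mul_mem hx (norm_mem (inv_mem h1) hy)
      rwa [show x * p * (p⁻¹ * y * p⁻¹⁻¹) = x * y * p by group] at this
    · refine Or.inl ?_
      have := T.mul_mem (T.mul_mem hx (norm_mem (inv_mem h1) hy)) (T.inv_mem h2)
      rwa [show x * p * (p⁻¹ * (y * p) * p⁻¹⁻¹) * (p * p)⁻¹ = x * y by group] at this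
  inv_mem' := by
    rintro x (hx | hx)
    · exact Or.inl (T.inv_mem hx)
    · refine Or.inr ?_
      have := T.mul_mem (norm_mem h1 (T.inv_mem hx)) h2
      rwa [show p * (x * p)⁻¹ * p⁻¹ * (p * p) = x⁻¹ * p by group] at this

theorem TS.fixR (h : TC P 𝔄) (hT : TS P 𝔄 T) {p : X} (hp : p ∈ P) (h2 : p * p ∈ T)
    (h3 : ∀ σ ∈ 𝔄, p⁻¹ * σ p ∈ T) : p ∈ T := by
  by_contra hn
  have h1 : p ∈ 𝐍(T) := h.le_norm hT.inv hp
  refine h.fixq T (ext2 T p h1 h2) (fun x hx => Or.inl hx) ?_ hT.inv ?_ ?_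
  · rintro x (hx | hx)
    · exact hT.le hx
    · exact (mul_mem_cancel_right hp).1 (hT.le hx)
  · intro σ hσ
    refine eq_of_le_of_card_ge ?_ (am_card σ _).ge
    rintro _ ⟨x, hx | hx, rfl⟩
    · refine Or.inl ?_
      rw [← hT.inv σ hσ]; exact am_mem.2 hx
    · refine Or.inr ?_
      have h4 : σ (x * p) ∈ T := by rw [← hT.inv σ hσ]; exact am_mem.2 hx
      have h5 := T.mul_mem h4 (T.inv_mem (h3 σ hσ))
      rwa [map_mul, show σ x * σ p * (p⁻¹ * σ p)⁻¹ = σ x * p by group] at h5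
  · refine relIndex_eq_two_iff.2 ⟨p, Or.inr h2, ?_⟩
    rintro b (hb | hb)
    · exact Or.inr ⟨hb, fun h4 => hn ((mul_mem_cancel_left hb).1 h4)⟩
    · exact Or.inl ⟨hb, fun h4 => hn ((mul_mem_cancel_left h4).1 hb)⟩

theorem TS.ms (h : TC P 𝔄) (hT : TS P 𝔄 T) :
    MS (vt (Om T) (Om T)) (ht (Om T) 𝐍(Om T)) (ht (Om T) P) (bt (Om T) 𝔄) where
  el := by
    rintro _ ⟨y, -, rfl⟩
    rw [← map_mul, show y * y = 1 from Subtype.ext (Om_el T y y.2), map_one]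
  MV := by
    rintro _ ⟨n, -, rfl⟩
    refine mem_norm_of_cj_le ?_
    rintro _ ⟨_, ⟨y, -, rfl⟩, rfl⟩
    exact ⟨⟨_, norm_mem n.2 y.2⟩, norm_mem n.2 y.2, (ka_io n y).symm⟩
  faith := by
    refine le_bot_iff.1 ?_
    rintro _ ⟨⟨n, -, rfl⟩, hc⟩
    refine mem_bot.2 (ka_eq_one.2 (mem_cent.2 fun y hy => ?_))
    exact (io_comm_ka (y := ⟨y, hy⟩).1 (mem_cent.1 hc _ (io_mem_vt.2 hy)).symm).symm
  sol := by
    have := hT.sol_norm h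
    rw [ht, subgroupOf_self, ← MonoidHom.range_eq_map]
    exact Group.isSolvable_of_surjective (ka (Om T)).rangeRestrict_surjective
  red := by
    intro Q h1 h2 h3
    have h4 := hT.red ((Q.comap (ka (Om T))).map 𝐍(Om T).subtype) ?_ (map_subtype_le _) ?_ ?_
    · refine le_bot_iff.1 fun x hx => ?_
      obtain ⟨n, -, rfl⟩ := h1 hx
      exact mem_bot.2 (ka_eq_one.2 (h4 ⟨n, hx, rfl⟩))
    · intro c hc
      refine ⟨⟨c, cent_le_norm _ hc⟩, ?_, rfl⟩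
      rw [SetLike.mem_coe, mem_comap, ka_eq_one.2 hc]
      exact one_mem _
    · intro n hn
      refine mem_norm_of_cj_le ?_
      rintro _ ⟨_, ⟨m, hm, rfl⟩, rfl⟩
      refine ⟨⟨n, hn⟩ * m * ⟨n, hn⟩⁻¹, ?_, rfl⟩
      rw [SetLike.mem_coe, mem_comap, map_mul, map_mul, map_inv]
      exact norm_mem (h3 ⟨⟨n, hn⟩, hn, rfl⟩) hm
    · rintro _ ⟨m, hm, rfl⟩
      obtain ⟨k, hk⟩ := h2 ⟨_, hm⟩
      refine ⟨k, ka_eq_one (n := m ^ 2 ^ k) |>.1 ?_⟩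
      rw [map_pow]
      exact congrArg Subtype.val hk
  syl := ((h.syl.mono (hT.P_le h) le_top).subgroupOf le_rfl).map _
  BV := by
    rintro _ ⟨τ, -, rfl⟩
    refine mem_norm_of_cj_le ?_
    rintro _ ⟨_, ⟨y, -, rfl⟩, rfl⟩
    exact ⟨τ y, (τ y).2, (inr_io τ y).symm⟩
  BM := bt_norm_ht hT.inv_Om fun σ hσ => by rw [am_norm, hT.inv_Om σ hσ]
  BR := bt_norm_ht hT.inv_Om h.inv
  fixV := by
    rintro _ ⟨y, -, rfl⟩ hb
    have h1 : (y : X) = 1 := by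
      refine h.fix y (Om_el T y y.2) fun σ hσ => ?_
      obtain ⟨τ, h1, h2⟩ := exists_bt hσ (hT.inv_Om σ hσ)
      obtain ⟨_, ⟨n, -, rfl⟩, h3⟩ := hb _ ⟨τ, h1, rfl⟩
      rw [inr_io, ka_io] at h3
      exact ⟨n, (h2 y).symm.trans (congrArg Subtype.val (io_inj h3))⟩
    rw [show y = 1 from Subtype.ext h1, map_one]
  fixR := by
    rintro _ ⟨p, hp, rfl⟩ h2 hb
    have hp' : (p : X) ∈ P := hp
    refine ka_eq_one.2 (le_cent_Om T (hT.fixR h hp' ?_ fun σ hσ => ?_))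
    · exact (hT.inf_cent h).le
        ⟨P.mul_mem hp' hp', ka_eq_one (n := p * p) |>.1 (by rw [map_mul, h2])⟩
    · obtain ⟨τ, h3, h4⟩ := exists_bt hσ (hT.inv_Om σ hσ)
      have h5 : σ p ∈ P := by rw [← h.inv σ hσ]; exact am_mem.2 hp'
      have h6 := inr_ka h4 p (hT.P_le h h5)
      rw [U4.conj_eq_of_mem_cent1 (hb ⟨τ, h3, rfl⟩)] at h6
      refine (hT.inf_cent h).le
        ⟨P.mul_mem (P.inv_mem hp') h5, ka_eq_one (n := p⁻¹ * ⟨σ p, hT.P_le h h5⟩) |>.1 ?_⟩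
      rw [map_mul, map_inv, ← h6, inv_mul_cancel]

theorem ht_ne_bot {Y A : Subgroup X} (h1 : A ≤ 𝐍(Y)) (h3 : ¬ A ≤ 𝐂(Y)) : ht Y A ≠ ⊥ :=
  fun e => h3 fun a ha => ka_eq_one (n := ⟨a, h1 ha⟩) |>.1
    (mem_bot.1 (e ▸ (⟨⟨a, h1 ha⟩, ha, rfl⟩ : ka Y ⟨a, h1 ha⟩ ∈ ht Y A)))

theorem ht_el {Y A : Subgroup X} (h2 : ∀ x ∈ A, x * x ∈ 𝐂(Y)) : El (ht Y A) := by
  rintro _ ⟨n, hn, rfl⟩
  rw [← map_mul]
  exact ka_eq_one.2 (h2 n hn)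

/-- Transfer from the holomorph of `Om T`. -/
theorem TS.q1 (h : TC P 𝔄) (hT : TS P 𝔄 T) (A : Subgroup X) (h1 : A ≤ 𝐍(Om T))
    (h2 : ∀ x ∈ A, x * x ∈ 𝐂(Om T)) (h3 : ¬ A ≤ 𝐂(Om T)) :
    2 * (𝐂(Om T)).relIndex A < (𝐂(A)).relIndex (Om T) := by
  have := (hT.ms h).q1 (ht_el h2) (ht_mono h1) (ht_ne_bot h1 h3)
  rwa [card_ht h1, relIndex_cent h1] at this

theorem TS.noK (h : TC P 𝔄) (hT : TS P 𝔄 T) : NoK 𝐍(Om T) (Om T) := by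
  intro K Y0 h1 h2 h3
  rw [← relIndex_vt]
  refine (hT.ms h).noK (ht _ K) (vt _ Y0) (ht_mono h1) ?_ ?_
  · rintro _ ⟨y, hy, rfl⟩
    exact ⟨io_mem_vt.2 y.2, (io_mem_cent h1).2 (h2 hy).2⟩
  · rintro _ ⟨y, -, rfl⟩ hy _ ⟨y', -, rfl⟩ hy'
    rw [io_mem_vt] at hy hy'
    obtain ⟨k, hk, v, hv, e⟩ := h3 y y.2 hy y' y'.2 hy'
    refine ⟨ka _ ⟨k, h1 hk⟩, ⟨_, hk, rfl⟩, io _ ⟨v, (h2 hv).1⟩, io_mem_vt.2 hv, ?_⟩
    rw [ka_io, ← map_mul]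
    exact congrArg _ (Subtype.ext e)

theorem TS.qi (h : TC P 𝔄) (hT : TS P 𝔄 T) (R : Subgroup X) (h1 : R ≤ 𝐍(Om T))
    (h2 : ∀ v ∈ Om T, ∀ b ∈ R, ∀ b' ∈ R, ⁅⁅v, b⁆, b'⁆ = 1) {r r' : X} (hr : r ∈ R) (hr' : r' ∈ R)
    (h3 : ⁅Om T, zpowers r⁆ = ⁅Om T, zpowers r'⁆) : r⁻¹ * r' ∈ 𝐂(Om T) := by
  have h4 := (hT.ms h).qi (A := ht _ R) (ht_mono h1) ?_ (r := ka _ ⟨r, h1 hr⟩)
    (r' := ka _ ⟨r', h1 hr'⟩) ⟨_, hr, rfl⟩ ⟨_, hr', rfl⟩ ?_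
  · refine ka_eq_one (n := (⟨r, h1 hr⟩ : 𝐍(Om T))⁻¹ * ⟨r', h1 hr'⟩) |>.1 ?_
    rw [map_mul, map_inv, h4, inv_mul_cancel]
  · rintro _ ⟨y, -, rfl⟩ _ ⟨b, hb, rfl⟩ _ ⟨b', hb', rfl⟩
    rw [comm_io_ka y b (comm_mem y b), comm_io_ka _ b' (comm_mem _ b'), ← map_one (io (Om T))]
    exact congrArg _ (Subtype.ext (h2 y y.2 b hb b' hb'))
  · rw [← ht_zpowers, ← ht_zpowers]
    exact le_antisymm (comm_le (zpowers_le.2 (h1 hr)) (zpowers_le.2 (h1 hr')) h3.le)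
      (comm_le (zpowers_le.2 (h1 hr')) (zpowers_le.2 (h1 hr)) h3.ge)

theorem TS.sc (h : TC P 𝔄) (hT : TS P 𝔄 T) (A I W : Subgroup X) (h1 : El A)
    (h2 : A ≤ 𝐍(Om T)) (h3 : I ≤ A) (h4 : I ≤ W) (h5 : W ≤ Om T) (h6 : W ≠ Om T) (h7 : ¬ A ≤ I)
    (h8 : ∀ w ∈ W, ∀ t ∈ A, ⁅w, t⁆ ∈ I)
    (h9 : ∀ x ∈ Om T, ∀ t ∈ A, t ∉ I → ⁅x, t⁆ ∈ I → x ∈ W)
    (h10 : ∀ x ∈ Om T, x ∉ W → ∀ w ∈ W, ∃ t ∈ A, w⁻¹ * ⁅x, t⁆ ∈ I) : False := by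
  have hc : ¬ A ≤ 𝐂(Om T) := by
    intro hc
    obtain ⟨t, ht, htI⟩ := SetLike.not_le_iff_exists.1 h7
    refine h6 (le_antisymm h5 fun x hx => h9 x hx t ht htI ?_)
    rw [commutatorElement_eq_one_iff_mul_comm.2 (mem_cent.1 (hc ht) x hx)]
    exact one_mem _
  refine (hT.ms h).sc (A := ht _ A) (I := vt _ I) (W := vt _ W)
    (ht_el fun x hx => h1 x hx ▸ one_mem _) (ht_mono h2) (ht_ne_bot h2 hc) ?_ (vt_mono h4)
    (vt_mono h5) ?_ ?_ ?_ ?_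
  · rintro _ ⟨y, hy, rfl⟩
    exact (io_mem_cent h2).2 (h1.le_cent (h3 hy))
  · intro e
    refine h6 (le_antisymm h5 fun x hx => ?_)
    exact io_mem_vt (y := ⟨x, hx⟩) |>.1 (e ▸ io_mem_vt.2 hx)
  · rintro _ ⟨w, hw, rfl⟩ _ ⟨t, ht, rfl⟩
    rw [comm_io_ka w t (comm_mem w t), io_mem_vt]
    exact h8 w hw t ht
  · rintro _ ⟨x, -, rfl⟩ _ ⟨t, ht, rfl⟩ h11 h12
    rw [comm_io_ka x t (comm_mem x t), io_mem_vt] at h12
    refine io_mem_vt.2 (h9 x x.2 t ht (fun htI => h11 ?_) h12)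
    exact ka_eq_one.2 ((Om_el T).le_cent (h5 (h4 htI)))
  · rintro _ ⟨x, -, rfl⟩ hx _ ⟨w, hw, rfl⟩
    rw [io_mem_vt] at hx
    obtain ⟨t, ht, h11⟩ := h10 x x.2 hx w hw
    refine ⟨ka _ ⟨t, h2 ht⟩, ⟨_, ht, rfl⟩, ?_⟩
    rw [comm_io_ka x _ (comm_mem x _), ← map_inv, ← map_mul, io_mem_vt]
    exact h11

end CfsgLib.TG
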