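import Cfsg.Agent.Lib.Wal.Basic

/-!
# Groups without an invariant class of involutions: definitions

See `notes/tg_plan.md`.
-/

set_option autoImplicit false

namespace CfsgLib.TG

open Subgroup Cfsg CfsgLib.FT CfsgLib.FT.BGN CfsgLib.GW CfsgLib.Wal
open scoped commutatorElement

variable {X : Type*} [Group X]

/-- `Ω₁ Z(T)`. -/
def Om (T : Subgroup X) : Subgroup X where
  carrier := {z | z ∈ T ∧ z ∈ 𝐂(T) ∧ z * z = 1}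
  one_mem' := ⟨one_mem _, one_mem _, one_mul _⟩
  mul_mem' := by
    rintro x y ⟨h1, h2, h3⟩ ⟨k1, k2, k3⟩
    refine ⟨mul_mem h1 k1, mul_mem h2 k2, ?_⟩
    have h : x * y = y * x := mem_centralizer_iff.1 k2 x h1
    calc x * y * (x * y) = x * (y * x) * y := by simp only [mul_assoc]
      _ = x * (x * y) * y := by rw [← h]
      _ = (x * x) * (y * y) := by simp only [mul_assoc]
      _ = 1 := by rw [h3, k3, one_mul]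
  inv_mem' := by
    rintro x ⟨h1, h2, h3⟩
    exact ⟨inv_mem h1, inv_mem h2, by rw [← mul_inv_rev, h3, inv_one]⟩

theorem mem_Om {T : Subgroup X} {z : X} : z ∈ Om T ↔ z ∈ T ∧ z ∈ 𝐂(T) ∧ z * z = 1 := Iff.rfl

/-- The image of a subgroup under an automorphism. -/
scoped notation:75 σ:76 " •ᵃ " H:75 => Subgroup.map (MulEquiv.toMonoidHom σ) H

/-- `H` is invariant under the automorphism group `𝔄`. -/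
def Inv (𝔄 : Subgroup (MulAut X)) (H : Subgroup X) : Prop := ∀ σ ∈ 𝔄, σ •ᵃ H = H

/-- The minimal counterexample: a simple group `X`, a Sylow `2`-subgroup `P`, and the group `𝔄`
of automorphisms induced by the normalizer of `P` in the overgroup. -/
structure TC (P : Subgroup X) (𝔄 : Subgroup (MulAut X)) : Prop where
  simple : IsSimpleGroup X
  nonab : ¬ IsMulCommutative X
  syl : IsSylowIn 2 P ⊤
  inv : Inv 𝔄 P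
  inn : ∀ n ∈ 𝐍(P), MulAut.conj n ∈ 𝔄
  fix : ∀ t : X, t * t = 1 → (∀ σ ∈ 𝔄, ∃ g : X, σ t = g * t * g⁻¹) → t = 1
  fixq : ∀ D0 D : Subgroup X, D0 ≤ D → D ≤ P → Inv 𝔄 D0 → Inv 𝔄 D → D0.relIndex D ≠ 2
  sol : ∀ H : Subgroup X, H ≠ ⊤ → Inv 𝔄 H → Group.IsSolvable H

/-- `Y` is `2`-reduced in its normalizer. -/
def Red (Y : Subgroup X) : Prop :=
  ∀ Q : Subgroup X, 𝐂(Y) ≤ Q → Q ≤ 𝐍(Y) → 𝐍(Y) ≤ 𝐍(Q) →
    (∀ x ∈ Q, ∃ k : ℕ, x ^ 2 ^ k ∈ 𝐂(Y)) → Q ≤ 𝐂(Y)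

/-- The subgroup `T = C_P(Y)`, `Y = Om T` (file `Up`). -/
structure TS (P : Subgroup X) (𝔄 : Subgroup (MulAut X)) (T : Subgroup X) : Prop where
  le : T ≤ P
  inv : Inv 𝔄 T
  ne : Om T ≠ ⊥
  syl : IsSylowIn 2 T 𝐂(Om T)
  red : Red (Om T)
  up : ∀ D : Subgroup X, D ≤ P → Inv 𝔄 D → 𝐍(T) ≤ 𝐍(D) → Om T ≤ Om D → 𝐍(D) ≤ 𝐍(Om T)

/-- No subgroup of `𝐍(Y)` centralizes `Y0` and is transitive on `(Y / Y0)#` of size `> 1`. -/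
def NoK (M Y : Subgroup X) : Prop :=
  ∀ K Y0 : Subgroup X, K ≤ M → Y0 ≤ Y ⊓ 𝐂(K) →
    (∀ y ∈ Y, y ∉ Y0 → ∀ y' ∈ Y, y' ∉ Y0 → ∃ k ∈ K, ∃ v ∈ Y0, y' = k * y * k⁻¹ * v) →
      Y0.relIndex Y ≤ 2

/-- The faithful module setting: `M` solvable with `O₂(M) = 1` acts faithfully on `V`, and `B`
acts on everything without invariant classes. -/
structure MS (V M R B : Subgroup X) : Prop where
  el : El V
  MV : M ≤ 𝐍(V)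
  faith : M ⊓ 𝐂(V) = ⊥
  sol : Group.IsSolvable M
  red : ∀ Q : Subgroup X, Q ≤ M → IsPGroup 2 Q → M ≤ 𝐍(Q) → Q = ⊥
  syl : IsSylowIn 2 R M
  BV : B ≤ 𝐍(V)
  BM : B ≤ 𝐍(M)
  BR : B ≤ 𝐍(R)
  fixV : ∀ v ∈ V, (∀ b ∈ B, ∃ m ∈ M, b * v * b⁻¹ = m * v * m⁻¹) → v = 1
  fixR : ∀ t ∈ R, t * t = 1 → B ≤ 𝐂[t] → t = 1

/-- `Ω₁ Z(T)` is weakly closed in `T`. -/
def WC (T : Subgroup X) : Prop := ∀ g : X, g •ᶜ Om T ≤ T → g •ᶜ Om T = Om T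

/-- Points: the conjugates of `Ω₁ Z(T)`. -/
def Pt (T φ : Subgroup X) : Prop := ∃ g : X, φ = g •ᶜ Om T

/-- Bad groups: `2`-groups normalizing two distinct commuting points. -/
def Bad (T D : Subgroup X) : Prop :=
  IsPGroup 2 D ∧ ∃ φ ψ : Subgroup X, Pt T φ ∧ Pt T ψ ∧ φ ≠ ψ ∧ φ ≤ 𝐂(ψ) ∧ D ≤ 𝐍(φ) ∧ D ≤ 𝐍(ψ)

/-- The largest order of an elementary abelian bad group. -/
noncomputable def KK (T : Subgroup X) : ℕ :=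
  sSup {n | ∃ A : Subgroup X, El A ∧ Bad T A ∧ Nat.card A = n}

/-- Elementary abelian bad groups of the largest order. -/
def BB (T A : Subgroup X) : Prop := El A ∧ Bad T A ∧ Nat.card A = KK T

/-- The weak closure of `BB` in `D`. -/
def WB (T D : Subgroup X) : Subgroup X := sSup {A | BB T A ∧ A ≤ D}

/-- The properties of `T` and `Y = Om T` used in the fusion analysis (they replace
`IsSylowIn 2 T ⊤` of the project `CO`). -/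
structure GS (T : Subgroup X) : Prop where
  isPGroup : IsPGroup 2 T
  syl : IsSylowIn 2 T 𝐂(Om T)
  up : ∀ R : Subgroup X, IsPGroup 2 R → T ≤ R → R ≤ 𝐍(Om T)
  b4 : WB T T ≠ ⊥ → 𝐍(WB T T) ≤ 𝐍(Om T)
  q1 : ∀ A : Subgroup X, A ≤ 𝐍(Om T) → (∀ x ∈ A, x * x ∈ 𝐂(Om T)) → ¬ A ≤ 𝐂(Om T) →
    2 * (𝐂(Om T)).relIndex A < (𝐂(A)).relIndex (Om T)
  noK : NoK 𝐍(Om T) (Om T)
  qi : ∀ R : Subgroup X, R ≤ 𝐍(Om T) → (∀ v ∈ Om T, ∀ b ∈ R, ∀ b' ∈ R, ⁅⁅v, b⁆, b'⁆ = 1) →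
    ∀ r ∈ R, ∀ r' ∈ R, ⁅Om T, zpowers r⁆ = ⁅Om T, zpowers r'⁆ → r⁻¹ * r' ∈ 𝐂(Om T)
  solZ : ∀ R : Subgroup X, IsPGroup 2 R → R ≤ 𝐍(Om T) →
    ∃ Z : Subgroup X, Z ≤ Om T ∧ Z ≤ 𝐂(R) ∧ Group.IsSolvable 𝐂(Z)
  sc : ∀ A I W : Subgroup X, El A → A ≤ 𝐍(Om T) → I ≤ A → I ≤ W → W ≤ Om T → W ≠ Om T →
    ¬ A ≤ I → (∀ w ∈ W, ∀ t ∈ A, ⁅w, t⁆ ∈ I) →
    (∀ x ∈ Om T, ∀ t ∈ A, t ∉ I → ⁅x, t⁆ ∈ I → x ∈ W) →
    (∀ x ∈ Om T, x ∉ W → ∀ w ∈ W, ∃ t ∈ A, w⁻¹ * ⁅x, t⁆ ∈ I) → False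

/-- `X0` is a bad weak closure of the largest order. -/
structure MaxW (T X0 : Subgroup X) : Prop where
  wb : WB T X0 = X0
  bad : Bad T X0
  max : ∀ D : Subgroup X, Bad T D → Nat.card (WB T D) ≤ Nat.card X0

/-- Large elementary abelian groups normalizing `X0`, not inside `X0`. -/
structure EE (T X0 E : Subgroup X) : Prop where
  el : El E
  card : KK T ≤ Nat.card E
  norm : E ≤ 𝐍(X0)
  nle : ¬ E ≤ X0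

/-- The normal closure of `Ω₁ Z(T)` under `L`. -/
def VL (T L : Subgroup X) : Subgroup X := ⨆ l ∈ L, l •ᶜ Om T

/-- The failure-of-factorization configuration (output of `B1b`, input of `B1a`). -/
structure FFc (T X0 L E : Subgroup X) : Prop where
  mx : MaxW T X0
  ee : EE T X0 E
  XL : X0 ≤ L
  EL : E ≤ L
  LN : L ≤ 𝐍(X0)
  XZ : X0 ≤ 𝐂(Om T)
  EZ : E ≤ 𝐂(Om T)
  nN : ¬ L ≤ 𝐍(Om T)
  min : ∀ L' E' φ : Subgroup X, L' ≤ L → EE T X0 E' → X0 ≤ L' → E' ≤ L' → Pt T φ →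
    X0 ≤ 𝐂(φ) → E' ≤ 𝐂(φ) → ¬ L' ≤ 𝐍(φ) → L' = L
  quad : ∀ v ∈ VL T L, ∀ e ∈ E, ∀ e' ∈ E, ⁅⁅v, e⁆, e'⁆ = 1

/-- Output of `B1a`, input of `B1c`. -/
structure Seed (T W P A : Subgroup X) (u z0 d : X) : Prop where
  pP : IsPGroup 2 P
  WP : W ≤ P
  PN : P ≤ 𝐍(W)
  elW : El W
  cardW : Nat.card W = 4
  uW : u ∈ W
  u1 : u ≠ 1
  Pu : P ≤ 𝐂[u]
  AP : A ≤ P
  elA : El A
  cardA : KK T ≤ Nat.card A
  AW : ¬ A ≤ 𝐂(W)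
  zZ : z0 ∈ Om T
  PZ : P ≤ 𝐂(Om T)
  hyp : ∀ y ∈ Om T, y ∈ 𝐂[d] ∨ z0 * y ∈ 𝐂[d]
  dN : d ∈ 𝐍(W)
  du : d ∉ 𝐂[u]
  dz : d ∈ 𝐂[z0 * u]
  max : ∀ D : Subgroup X, Bad T D → Nat.card (WB T D) ≤ Nat.card (WB T (P ⊓ 𝐂(W)))

/-- A vertex with its data.  `E = T ⊓ 𝐂(W)`, `𝒩 = T ⊓ 𝐍(W)`. -/
structure VxD (T W : Subgroup X) (u : X) (H A0 : Subgroup X) (d z0 : X) : Prop where
  WT : W ≤ T
  elW : El W
  cardW : Nat.card W = 4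
  uW : u ∈ W
  u1 : u ≠ 1
  Nu : T ⊓ 𝐍(W) ≤ 𝐂[u]
  HE : H ≤ 𝐍(T ⊓ 𝐂(W))
  HW : H ≤ 𝐍(W)
  NH : T ⊓ 𝐍(W) ≤ H
  two : ∀ D : Subgroup X, IsPGroup 2 D → D ≤ H → D ≤ 𝐂(W) → D ≤ T
  dH : d ∈ H
  du : d ∉ 𝐂[u]
  AN : A0 ≤ T ⊓ 𝐍(W)
  elA : El A0
  cardA : KK T ≤ Nat.card A0
  AW : ¬ A0 ≤ 𝐂(W)
  zZ : z0 ∈ Om T
  Hz : H ≤ 𝐂[z0 * u]
  max : ∀ D : Subgroup X, Bad T D → Nat.card (WB T D) ≤ Nat.card (WB T (T ⊓ 𝐂(W)))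

/-- A vertex. -/
def Vx (T W : Subgroup X) (u : X) : Prop :=
  ∃ (H A0 : Subgroup X) (d z0 : X), VxD T W u H A0 d z0

/-- (R1) No two distinct conjugates of `W` under `T ⊓ 𝐂[u]` commute. -/
def LC (T W : Subgroup X) (u : X) : Prop :=
  ∀ n ∈ T, n ∈ 𝐂[u] → n •ᶜ W ≤ 𝐂(W) → n ∈ 𝐍(W)

/-- (R2) In elementary abelian subgroups of `T ⊓ 𝐂[u]` the centralizer of `W` has index `≤ 2`. -/
def IB (T W : Subgroup X) (u : X) : Prop :=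
  ∀ A : Subgroup X, El A → A ≤ T → A ≤ 𝐂[u] → ∀ x ∈ A, ∀ y ∈ A,
    x ∉ 𝐂(W) → y ∉ 𝐂(W) → x * y ∈ 𝐂(W)

/-- (R3) Independence of `u` from its images with the same weak closure. -/
def Ind (T : Subgroup X) (u : X) : Prop :=
  ∃ e : X, e ∉ 𝐂[u] ∧ ∀ σ : MulAut X, σ •ᵃ T = T → σ u ≠ u →
    WB T (T ⊓ 𝐂[σ u]) = WB T (T ⊓ 𝐂[u]) → e ∈ 𝐂[σ u]

end CfsgLib.TG
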