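import Cfsg.Agent.Lib.TG.Br

set_option autoImplicit false
set_option linter.unusedSectionVars false
set_option linter.unusedVariables false

namespace CfsgLib.TG

open Subgroup Cfsg CfsgLib.FT CfsgLib.FT.BGN CfsgLib.GW CfsgLib.Wal
open CfsgLib.FT.U4 (mem_cent1 mem_cent1' mem_cent mem_cent1_comm cent1_conj conj_mem_conj_iff
  orderOf_conj)
open scoped commutatorElement

variable {X : Type*} [Group X] [Finite X] {P T : Subgroup X} {𝔄 : Subgroup (MulAut X)}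

/-- Replacement: a group acting with small index is not of the largest order. -/
theorem gs_card_lt {Y A : Subgroup X} (hY : El Y) (hA : El A)
    (h : 2 * (𝐂(Y)).relIndex A < (𝐂(A)).relIndex Y) :
    Nat.card A < Nat.card (A ⊓ 𝐂(Y) ⊔ Y : Subgroup X) := by
  have h1 := card_sup_mul_card_inf (H := A ⊓ 𝐂(Y)) (N := Y) (inf_le_right.trans (cent_le_norm _))
  have h2 := card_inf_mul_relIndex 𝐂(Y) A
  have h3 := card_inf_mul_relIndex 𝐂(A) Y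
  have h4 : Nat.card (A ⊓ 𝐂(Y) ⊓ Y : Subgroup X) ≤ Nat.card (𝐂(A) ⊓ Y : Subgroup X) :=
    card_le_of_le (inf_le_inf_right _ (inf_le_left.trans hA.le_cent))
  rw [inf_comm] at h2
  set a := Nat.card (A ⊓ 𝐂(Y) : Subgroup X)
  set b := Nat.card (𝐂(A) ⊓ Y : Subgroup X)
  set c := Nat.card (A ⊓ 𝐂(Y) ⊓ Y : Subgroup X)
  set s := Nat.card (A ⊓ 𝐂(Y) ⊔ Y : Subgroup X)
  have ha : 0 < a := Nat.card_pos
  have hb : 0 < b := Nat.card_pos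
  rw [← h2]
  rw [← h3] at h1
  by_contra hn
  have h5 : s * c ≤ a * (𝐂(Y)).relIndex A * b := Nat.mul_le_mul (not_lt.1 hn) h4
  have h6 : a * b * (𝐂(Y)).relIndex A < a * b * (𝐂(A)).relIndex Y :=
    Nat.mul_lt_mul_of_pos_left (by omega) (Nat.mul_pos ha hb)
  nlinarith

theorem TS.card_lt (h : TC P 𝔄) (hT : TS P 𝔄 T) {φ A : Subgroup X} (hφ : Pt T φ) (hA : El A)
    (h1 : A ≤ 𝐍(φ)) (h2 : ¬ A ≤ 𝐂(φ)) : Nat.card A < Nat.card (A ⊓ 𝐂(φ) ⊔ φ : Subgroup X) := by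
  obtain ⟨g, rfl⟩ := hφ
  have h3 : g⁻¹ •ᶜ A ≤ 𝐍(Om T) := by
    have := cj_norm h1 g⁻¹
    rwa [map_conj_inv_map_conj] at this
  have h4 : ¬ g⁻¹ •ᶜ A ≤ 𝐂(Om T) := fun e => h2 (by
    have := cj_cent e g
    rwa [map_conj_map_conj_inv] at this)
  have h5 := gs_card_lt (Om_el T) (hA.cj g⁻¹)
    (hT.q1 h _ h3 (fun x hx => hA.cj g⁻¹ x hx ▸ one_mem _) h4)
  rw [CfsgLib.card_map_conj, ← CfsgLib.card_map_conj g (_ ⊔ _), Subgroup.map_sup, map_conj_inf,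
    map_conj_map_conj_inv, ← centralizer_map_conj] at h5
  exact h5

/-- The subgroup generated by the elementary abelian subgroups of order `m`. -/
def Jm (m : ℕ) (D : Subgroup X) : Subgroup X := sSup {A | El A ∧ A ≤ D ∧ Nat.card A = m}

theorem Jm_le_of {m : ℕ} {D Y : Subgroup X} (h : ∀ A, El A → A ≤ D → Nat.card A = m → A ≤ Y) :
    Jm m D ≤ Y := sSup_le fun A hA => h A hA.1 hA.2.1 hA.2.2

theorem le_Jm {m : ℕ} {A D : Subgroup X} (h1 : El A) (h2 : A ≤ D) (h3 : Nat.card A = m) :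
    A ≤ Jm m D := le_sSup (show A ∈ {A | El A ∧ A ≤ D ∧ Nat.card A = m} from ⟨h1, h2, h3⟩)

theorem Jm_mono {m : ℕ} {D D' : Subgroup X} (h : D ≤ D') : Jm m D ≤ Jm m D' :=
  Jm_le_of fun _ h1 h2 h3 => le_Jm h1 (h2.trans h) h3

theorem am_Jm_le (m : ℕ) (σ : MulAut X) (D : Subgroup X) : σ •ᵃ Jm m D ≤ Jm m (σ •ᵃ D) := by
  rw [map_le_iff_le_comap]
  exact Jm_le_of fun A h1 h2 h3 => map_le_iff_le_comap.1
    (le_Jm (El.am h1 σ) (am_le_am.2 h2) (by rw [am_card, h3]))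

theorem am_Jm_eq {m : ℕ} {σ : MulAut X} {D : Subgroup X} (h : σ •ᵃ D ≤ D) :
    σ •ᵃ Jm m D = Jm m D :=
  eq_of_le_of_card_ge ((am_Jm_le m σ D).trans (Jm_mono h)) (am_card σ _).ge

theorem TS.up' (h : TC P 𝔄) (hT : TS P 𝔄 T) (R : Subgroup X) (hR : IsPGroup 2 R) (hTR : T ≤ R) :
    R ≤ 𝐍(Om T) := by
  obtain ⟨A0, ⟨hA0, hA0P⟩, hmax⟩ := Set.exists_max_image {A : Subgroup X | El A ∧ A ≤ P}
    (fun A => Nat.card A) (Set.toFinite _) ⟨⊥, el_bot, bot_le⟩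
  have hYP : Om T ≤ P := (Om_le T).trans hT.le
  have h1 : ∀ A, El A → A ≤ P → Nat.card A = Nat.card A0 → A ≤ T := by
    intro A h2 h3 h4
    rw [← hT.inf_cent h]
    refine le_inf h3 ?_
    by_contra h5
    have h6 := hT.card_lt h (pt_Om T) h2 (h3.trans (hT.P_le h)) h5
    have h7 := hmax (A ⊓ 𝐂(Om T) ⊔ Om T) ⟨(h2.mono inf_le_left).sup (Om_el T) (lcc inf_le_right),
      sup_le (inf_le_left.trans h3) hYP⟩
    omega
  have h2 : Jm (Nat.card A0) P = Jm (Nat.card A0) T :=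
    le_antisymm (Jm_le_of fun A k1 k2 k3 => le_Jm k1 (h1 A k1 k2 k3) k3) (Jm_mono hT.le)
  have hJT : Jm (Nat.card A0) T ≤ T := Jm_le_of fun _ _ k _ => k
  have hA0T := h1 A0 hA0 hA0P rfl
  have hYA : Om T ≤ A0 := by
    have h3 : Om T ≤ 𝐂(A0) := (Om_le_cent T).trans (cent_anti hA0T)
    exact le_sup_right.trans (eq_of_le_of_card_ge le_sup_left
      (hmax _ ⟨hA0.sup (Om_el T) h3, sup_le hA0P hYP⟩)).ge
  have h3 := hT.up (Jm (Nat.card A0) T) (hJT.trans hT.le)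
    (fun σ hσ => am_Jm_eq (hT.inv σ hσ).le)
    (fun g hg => mem_norm_of_cj (am_Jm_eq (σ := MulAut.conj g) (cj_eq hg).le))
    (fun y hy => ⟨le_Jm hA0 hA0T rfl (hYA hy), cent_anti hJT hy.2.1, hy.2.2⟩)
  obtain ⟨g, -, hg⟩ := h.syl.exists_conj_le hR le_top
  have h4 : g ∈ 𝐍(Om T) := by
    refine h3 (mem_norm_of_cj_le ((am_Jm_le _ (MulAut.conj g) T).trans ?_))
    rw [← h2]
    exact Jm_mono ((map_mono hTR).trans hg)
  intro r hr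
  have h5 : g * r * g⁻¹ ∈ 𝐍(Om T) := hT.P_le h (hg (cj_mem hr))
  have h6 := mul_mem (mul_mem (inv_mem h4) h5) h4
  rwa [show g⁻¹ * (g * r * g⁻¹) * g = r by group] at h6

theorem TS.bb_cent (h : TC P 𝔄) (hT : TS P 𝔄 T) {φ ψ A : Subgroup X} (hφ : Pt T φ) (hψ : Pt T ψ)
    (hne : φ ≠ ψ) (hc : φ ≤ 𝐂(ψ)) (hA : El A) (h1 : A ≤ 𝐍(φ)) (h2 : A ≤ 𝐍(ψ))
    (hk : KK T ≤ Nat.card A) : A ≤ 𝐂(φ) := by
  by_contra hn
  have h3 := hT.card_lt h hφ hA h1 hn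
  have h4 : El (A ⊓ 𝐂(φ) ⊔ φ) := (hA.mono inf_le_left).sup hφ.el (lcc inf_le_right)
  have h5 : Bad T (A ⊓ 𝐂(φ) ⊔ φ) := ⟨h4.isPGroup, φ, ψ, hφ, hψ, hne, hc,
    sup_le (inf_le_left.trans h1) le_normalizer,
    sup_le (inf_le_left.trans h2) (hc.trans (cent_le_norm _))⟩
  have h6 := h5.card_le h4
  omega

theorem TS.bb_le (h : TC P 𝔄) (hT : TS P 𝔄 T) {A B : Subgroup X} (hA : BB T A) (hB : El B)
    (hc : B ≤ 𝐂(A)) : B ≤ A := by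
  obtain ⟨h1, φ, ψ, h2, h3, h4, h5, k6, k7⟩ := hA.2.1
  have h6 := hT.bb_cent h h2 h3 h4 h5 hA.1 k6 k7 hA.2.2.ge
  have h7 := hT.bb_cent h h3 h2 h4.symm (lcc h5) hA.1 k7 k6 hA.2.2.ge
  have h8 : φ ≤ A := hA.le_of_bad h2.el (lcc h6) (Bad.of_cent (hA.1.sup h2.el (lcc h6)).isPGroup
    h2 h3 h4 h5 (sup_le h6 h2.el.le_cent) (sup_le h7 h5))
  have h9 : ψ ≤ A := hA.le_of_bad h3.el (lcc h7) (Bad.of_cent (hA.1.sup h3.el (lcc h7)).isPGroup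
    h2 h3 h4 h5 (sup_le h6 (lcc h5)) (sup_le h7 h3.el.le_cent))
  exact hA.le_of_bad hB hc (Bad.of_cent (hA.1.sup hB hc).isPGroup h2 h3 h4 h5
    (sup_le h6 (hc.trans (cent_anti h8))) (sup_le h7 (hc.trans (cent_anti h9))))

theorem TS.b4 (h : TC P 𝔄) (hT : TS P 𝔄 T) (hne : WB T T ≠ ⊥) : 𝐍(WB T T) ≤ 𝐍(Om T) := by
  obtain ⟨A, hA, hAT⟩ := exists_BB_le_of_ne_bot hne
  have h1 := hT.bb_le h hA (Om_el T) ((Om_le_cent T).trans (cent_anti hAT))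
  exact hT.up (WB T T) ((WB_le T T).trans hT.le)
    (fun σ hσ => by rw [← WB_am (hT.inv σ hσ), hT.inv σ hσ]) (norm_le_norm_WB T T)
    (fun y hy => ⟨hA.le_WB hAT (h1 hy), cent_anti (WB_le T T) hy.2.1, hy.2.2⟩)

theorem gs_Om_ne_bot {D : Subgroup X} (hD : IsPGroup 2 D) (h0 : D ≠ ⊥) : Om D ≠ ⊥ := by
  obtain ⟨c, hc, hc1, hc2⟩ := U4.inf_cent_ne_bot_iff.1 (inf_centralizer_ne_bot_of_isNilpotent
    hD.isNilpotent le_rfl le_normalizer h0)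
  obtain ⟨m, hm⟩ := hD ⟨c, hc⟩
  have hm' : c ^ 2 ^ m = 1 := by simpa using congrArg Subtype.val hm
  classical
  have hex : ∃ j : ℕ, c ^ 2 ^ j = 1 := ⟨m, hm'⟩
  obtain ⟨k, hk⟩ : ∃ k, Nat.find hex = k + 1 := Nat.exists_eq_succ_of_ne_zero fun e => hc1 (by
    have h1 := Nat.find_spec hex
    rwa [e, pow_zero, pow_one] at h1)
  have h1 := Nat.find_min hex (m := k) (by omega)
  have h2 := Nat.find_spec hex
  rw [hk] at h2
  exact U4.ne_bot_of_mem (x := c ^ 2 ^ k) ⟨pow_mem hc _, pow_mem hc2 _, by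
    rw [← pow_add, ← h2]; congr 1; ring⟩ h1

theorem TS.solZ (h : TC P 𝔄) (hT : TS P 𝔄 T) (R : Subgroup X) (hR : IsPGroup 2 R)
    (hN : R ≤ 𝐍(Om T)) : ∃ Z : Subgroup X, Z ≤ Om T ∧ Z ≤ 𝐂(R) ∧ Group.IsSolvable 𝐂(Z) := by
  obtain ⟨g, hg, hle⟩ := (h.syl.mono (hT.P_le h) le_top).exists_conj_le hR hN
  have hYP : Om T ≤ P := (Om_le T).trans hT.le
  have h1 : Om P ≤ Om T := fun z hz =>
    ⟨(hT.inf_cent h).le ⟨hz.1, cent_anti hYP hz.2.1⟩, cent_anti hT.le hz.2.1, hz.2.2⟩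
  have h2 : Om P ≠ ⊥ := gs_Om_ne_bot h.syl.isPGroup fun e => hT.ne (le_bot_iff.1 (e ▸ hYP))
  have h3 : Group.IsSolvable 𝐂(Om P) := by
    refine h.sol _ (fun e => h.norm_ne_top h2 (Om_el P).le_cent ?_) fun σ hσ => by
      rw [am_cent, am_Om, h.inv σ hσ]
    exact top_le_iff.1 (e ▸ cent_le_norm _)
  refine ⟨g⁻¹ •ᶜ Om P, ?_, ?_, ?_⟩
  · rw [← cj_eq (inv_mem hg)]
    exact map_mono h1
  · have := cj_cent ((Om_le_cent P).trans (cent_anti hle)) g⁻¹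
    rwa [map_conj_inv_map_conj] at this
  · rw [centralizer_map_conj]
    exact Group.isSolvable_of_surjective
      (f := (((MulAut.conj g⁻¹).subgroupMap 𝐂(Om P))).toMonoidHom) (MulEquiv.surjective _)

theorem TS.gs (h : TC P 𝔄) (hT : TS P 𝔄 T) : GS T where
  isPGroup := hT.syl.isPGroup
  syl := hT.syl
  up := hT.up' h
  b4 := hT.b4 h
  q1 := hT.q1 h
  noK := hT.noK h
  qi := fun R h1 h2 r hr r' hr' h3 => hT.qi h R h1 h2 hr hr' h3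
  solZ := hT.solZ h
  sc := hT.sc h

end CfsgLib.TG
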