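import Cfsg.Agent.Lib.CO.B0

/-!
# The product lemma
-/

set_option autoImplicit false
set_option linter.unusedSectionVars false

namespace CfsgLib.TG.PR

open Subgroup Cfsg CfsgLib.FT CfsgLib.FT.BGN CfsgLib.GW CfsgLib.Wal
open scoped commutatorElement IsMulCommutative

variable {X : Type*} [Group X] [Finite X]

/-- The class of `x` under `N`. -/
def cls (N : Subgroup X) (x : X) : Set X := {y | ∃ n ∈ N, y = n * x * n⁻¹}

theorem self_mem (N : Subgroup X) (x : X) : x ∈ cls N x := ⟨1, one_mem _, by simp⟩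

theorem conj_mem {N : Subgroup X} {x y n : X} (h : y ∈ cls N x) (hn : n ∈ N) :
    n * y * n⁻¹ ∈ cls N x := by
  obtain ⟨m, hm, rfl⟩ := h
  exact ⟨n * m, mul_mem hn hm, by group⟩

theorem cls_eq {N : Subgroup X} {x y : X} (h : y ∈ cls N x) : cls N y = cls N x := by
  obtain ⟨m, hm, rfl⟩ := h
  ext z
  constructor
  · rintro ⟨n, hn, rfl⟩
    exact ⟨n * m, mul_mem hn hm, by group⟩
  · rintro ⟨n, hn, rfl⟩
    exact ⟨n * m⁻¹, mul_mem hn (inv_mem hm), by group⟩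

theorem exists_local {𝒢 S : Set X}
    (hg : ∀ g ∈ 𝒢, ∃ x0, ∀ x ∈ S, x ∉ cls (closure 𝒢) x0 → g * x * g⁻¹ = x)
    (hS : ∀ n ∈ closure 𝒢, ∀ x ∈ S, n * x * n⁻¹ ∈ S) {c : X} (hc : c ∈ S) {n : X}
    (hn : n ∈ closure 𝒢) : ∃ m ∈ closure 𝒢,
      (∀ x ∈ cls (closure 𝒢) c, m * x * m⁻¹ = n * x * n⁻¹) ∧
      ∀ y ∈ S, y ∉ cls (closure 𝒢) c → m * y * m⁻¹ = y := by
  induction hn using closure_induction with
  | mem g h =>
    obtain ⟨x0, h0⟩ := hg g h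
    by_cases e : cls (closure 𝒢) x0 = cls (closure 𝒢) c
    · exact ⟨g, subset_closure h, fun _ _ => rfl, fun y hy hy' => h0 y hy (e ▸ hy')⟩
    · refine ⟨1, one_mem _, fun x hx => ?_, fun _ _ _ => by simp⟩
      obtain ⟨m, hm, rfl⟩ := id hx
      rw [h0 _ (hS m hm c hc) fun h1 => e ((cls_eq h1).symm.trans (cls_eq hx))]
      simp
  | one => exact ⟨1, one_mem _, fun _ _ => rfl, fun _ _ _ => by simp⟩
  | mul a b ha hb iha ihb =>
    obtain ⟨m, hm, h1, h2⟩ := iha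
    obtain ⟨m', hm', h1', h2'⟩ := ihb
    refine ⟨m * m', mul_mem hm hm', fun x hx => ?_, fun y hy hy' => ?_⟩
    · calc m * m' * x * (m * m')⁻¹ = m * (m' * x * m'⁻¹) * m⁻¹ := by group
        _ = a * (b * x * b⁻¹) * a⁻¹ := by rw [h1' x hx, h1 _ (conj_mem hx hb)]
        _ = _ := by group
    · calc m * m' * y * (m * m')⁻¹ = m * (m' * y * m'⁻¹) * m⁻¹ := by group
        _ = _ := by rw [h2' y hy hy', h2 y hy hy']
  | inv a ha iha =>
    obtain ⟨m, hm, h1, h2⟩ := iha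
    refine ⟨m⁻¹, inv_mem hm, fun x hx => ?_, fun y hy hy' => ?_⟩
    · have := h1 _ (conj_mem hx (inv_mem ha))
      calc m⁻¹ * x * m⁻¹⁻¹ = m⁻¹ * (a * (a⁻¹ * x * a⁻¹⁻¹) * a⁻¹) * m := by group
        _ = _ := by rw [← this]; group
    · calc m⁻¹ * y * m⁻¹⁻¹ = m⁻¹ * (m * y * m⁻¹) * m := by rw [h2 y hy hy', inv_inv]
        _ = y := by group

/-- Conjugation on `V`. -/
def cv {V : Subgroup X} {g : X} (hg : g ∈ 𝐍(V)) : V →* V :=
  MonoidHom.mk' (fun v => ⟨g * v * g⁻¹, CO.norm_mem hg v.2⟩) fun a b => Subtype.ext (by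
    simp only [coe_mul]; group)

theorem product {V : Subgroup X} (hV : IsMulCommutative V) {𝒢 S : Set X} (hSV : S ⊆ V)
    (hN : closure 𝒢 ≤ 𝐍(V))
    (hg : ∀ g ∈ 𝒢, ∃ x0, ∀ x ∈ S, x ∉ cls (closure 𝒢) x0 → g * x * g⁻¹ = x)
    (hS : ∀ n ∈ closure 𝒢, ∀ x ∈ S, n * x * n⁻¹ ∈ S)
    {x x' : X} (hx : x ∈ S) (hx' : x' ∈ cls (closure 𝒢) x) (hne : x' ≠ x) :
    ∃ v ∈ V, v ≠ 1 ∧ ∀ l ∈ 𝐍(V), l ∈ 𝐍(closure 𝒢) → (∀ x ∈ S, l * x * l⁻¹ ∈ S) →
      (∀ x ∈ S, l⁻¹ * x * l ∈ S) → ∃ n ∈ closure 𝒢, l * v * l⁻¹ = n * v * n⁻¹ := by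
  classical
  set N := closure 𝒢 with hNd
  have hcS : ∀ c ∈ S, cls N c ⊆ S := by
    rintro c hc _ ⟨n, hn, rfl⟩
    exact hS n hn c hc
  let 𝒞 : Finset (Set X) := (Set.toFinite (cls N '' S)).toFinset
  have h𝒞 : ∀ C, C ∈ 𝒞 ↔ ∃ c ∈ S, cls N c = C := fun C => by
    simp only [𝒞, Set.Finite.mem_toFinset, Set.mem_image]
  have key : ∀ r r' : Set X → V, (∀ C ∈ 𝒞, (r C : X) ∈ C) → (∀ C ∈ 𝒞, (r' C : X) ∈ C) →
      ∃ n ∈ N, n * ((∏ C ∈ 𝒞, r C : V) : X) * n⁻¹ = ((∏ C ∈ 𝒞, r' C : V) : X) := by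
    intro r r' hr hr'
    have h1 : ∀ s : Finset (Set X), s ⊆ 𝒞 → ∃ n ∈ N, (∀ D ∈ s, n * (r D : X) * n⁻¹ = r' D) ∧
        ∀ D ∈ 𝒞, D ∉ s → ∀ y ∈ D, n * y * n⁻¹ = y := by
      intro s
      induction s using Finset.induction_on with
      | empty => exact fun _ => ⟨1, one_mem _, by simp, fun _ _ _ _ _ => by simp⟩
      | insert C s hC ih =>
        intro hs
        obtain ⟨n, hn, h2, h3⟩ := ih ((Finset.subset_insert _ _).trans hs)
        have hC' := hs (Finset.mem_insert_self _ _)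
        obtain ⟨c, hc, rfl⟩ := (h𝒞 C).1 hC'
        obtain ⟨k, hk, e⟩ : (r' (cls N c) : X) ∈ cls N (r (cls N c)) := by
          rw [cls_eq (hr _ hC')]; exact hr' _ hC'
        obtain ⟨m, hm, h4, h5⟩ := exists_local hg hS hc hk
        have h6 : ∀ D ∈ 𝒞, D ≠ cls N c → ∀ y ∈ D, m * y * m⁻¹ = y := by
          intro D hD hne y hy
          obtain ⟨d, hd, rfl⟩ := (h𝒞 D).1 hD
          exact h5 y (hcS d hd hy) fun h7 => hne ((cls_eq hy).symm.trans (cls_eq h7))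
        refine ⟨m * n, mul_mem hm hn, fun D hD => ?_, fun D hD hD' y hy => ?_⟩
        · rw [show m * n * (r D : X) * (m * n)⁻¹ = m * (n * r D * n⁻¹) * m⁻¹ by group]
          rcases Finset.mem_insert.1 hD with rfl | hD'
          · rw [h3 _ hC' hC _ (hr _ hC'), h4 _ (hr _ hC'), e]
          · rw [h2 D hD', h6 D (hs hD) (fun e => hC (e ▸ hD')) _ (hr' D (hs hD))]
        · rw [Finset.mem_insert, not_or] at hD'
          rw [show m * n * y * (m * n)⁻¹ = m * (n * y * n⁻¹) * m⁻¹ by group, h3 D hD hD'.2 y hy,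
            h6 D hD hD'.1 y hy]
    obtain ⟨n, hn, h2, -⟩ := h1 𝒞 le_rfl
    refine ⟨n, hn, ?_⟩
    have h3 := map_prod (cv (hN hn)) r 𝒞
    rw [Finset.prod_congr rfl fun C hC => (Subtype.ext (h2 C hC) : cv (hN hn) (r C) = r' C)] at h3
    exact congrArg Subtype.val h3
  have hex : ∀ C : Set X, ∃ v : V, C ∈ 𝒞 → (v : X) ∈ C := fun C => by
    by_cases hC : C ∈ 𝒞
    · obtain ⟨c, hc, rfl⟩ := (h𝒞 C).1 hC
      exact ⟨⟨c, hSV hc⟩, fun _ => self_mem N c⟩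
    · exact ⟨1, fun h => absurd h hC⟩
  choose r hr using hex
  refine ⟨_, (∏ C ∈ 𝒞, r C).2, fun h1 => ?_, fun l hl hlN hlS hlS' => ?_⟩
  · have hC : cls N x ∈ 𝒞 := (h𝒞 _).2 ⟨x, hx, rfl⟩
    have h2 : ∀ y ∈ cls N x, y = r (cls N x) := by
      intro y hy
      obtain ⟨n, -, e⟩ := key r (Function.update r (cls N x) ⟨y, hSV (hcS x hx hy)⟩) hr
        fun C hC' => by
          by_cases e : C = cls N x
          · subst e; rw [Function.update_self]; exact hy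
          · rw [Function.update_of_ne e]; exact hr C hC'
      rw [h1, mul_one, mul_inv_cancel, ← h1, Finset.prod_update_of_mem hC,
        ← Finset.mul_prod_erase _ _ hC, Finset.sdiff_singleton_eq_erase] at e
      exact (congrArg Subtype.val (mul_right_cancel (Subtype.ext e))).symm
    exact hne ((h2 x' hx').trans (h2 x (self_mem N x)).symm)
  · have hcl : ∀ {l : X}, l ∈ 𝐍(N) → ∀ c, (fun y => l * y * l⁻¹) '' cls N c =
        cls N (l * c * l⁻¹) := by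
      intro l hl c
      ext z
      constructor
      · rintro ⟨_, ⟨n, hn, rfl⟩, rfl⟩
        exact ⟨_, CO.norm_mem hl hn, by group⟩
      · rintro ⟨n, hn, rfl⟩
        exact ⟨_, ⟨_, CO.norm_mem (inv_mem hl) hn, rfl⟩, by group⟩
    have hm1 : ∀ C ∈ 𝒞, (fun y => l * y * l⁻¹) '' C ∈ 𝒞 := fun C hC => by
      obtain ⟨c, hc, rfl⟩ := (h𝒞 C).1 hC
      exact (h𝒞 _).2 ⟨_, hlS c hc, (hcl hlN c).symm⟩
    have hm2 : ∀ C ∈ 𝒞, (fun y => l⁻¹ * y * l⁻¹⁻¹) '' C ∈ 𝒞 := fun C hC => by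
      obtain ⟨c, hc, rfl⟩ := (h𝒞 C).1 hC
      exact (h𝒞 _).2 ⟨_, by rw [inv_inv]; exact hlS' c hc, (hcl (inv_mem hlN) c).symm⟩
    have hi1 : ∀ C : Set X, (fun y => l⁻¹ * y * l⁻¹⁻¹) '' ((fun y => l * y * l⁻¹) '' C) = C :=
      fun C => by simp [Set.image_image, mul_assoc]
    have hi2 : ∀ C : Set X, (fun y => l * y * l⁻¹) '' ((fun y => l⁻¹ * y * l⁻¹⁻¹) '' C) = C :=
      fun C => by simp [Set.image_image, mul_assoc]
    obtain ⟨n, hn, e⟩ := key r (fun C => cv hl (r ((fun y => l⁻¹ * y * l⁻¹⁻¹) '' C))) hr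
      fun C hC => by
        have := Set.mem_image_of_mem (fun y => l * y * l⁻¹) (hr _ (hm2 C hC))
        rwa [hi2] at this
    refine ⟨n, hn, ?_⟩
    rw [e]
    refine (congrArg Subtype.val (map_prod (cv hl) r 𝒞)).trans (congrArg Subtype.val ?_)
    exact Finset.prod_bij' (fun C _ => (fun y => l * y * l⁻¹) '' C)
      (fun C _ => (fun y => l⁻¹ * y * l⁻¹⁻¹) '' C) hm1 hm2 (fun C _ => hi1 C) (fun C _ => hi2 C)
      fun C _ => by rw [hi1]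

end CfsgLib.TG.PR
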