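import Cfsg.Agent.Lib.TG.Defs
import Cfsg.Agent.Lib.TG.MSa0
import Cfsg.Agent.Lib.SE.Gen2

set_option autoImplicit false
set_option linter.unusedSectionVars false

namespace CfsgLib.TG

open Subgroup Cfsg CfsgLib.FT CfsgLib.FT.BGN CfsgLib.GW CfsgLib.Wal
open CfsgLib.FT.U4 (mem_cent1 mem_cent1' mem_cent mem_cent1_comm cent1_conj conj_mem_conj_iff
  orderOf_conj)
open scoped commutatorElement

variable {X : Type*} [Group X] [Finite X] {V M R B : Subgroup X}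

namespace MSa

/-- The odd group `K` is transitive on the (at least two) non-trivial elements of `[V, K]`. -/
structure Tr (V K : Subgroup X) : Prop where
  nm : K ≤ 𝐍(V)
  odd : Odd (Nat.card K)
  two : ∃ y ∈ ⁅V, K⁆, ∃ y' ∈ ⁅V, K⁆, y ≠ 1 ∧ y' ≠ 1 ∧ y ≠ y'
  tr : ∀ y ∈ ⁅V, K⁆, y ≠ 1 → ∀ y' ∈ ⁅V, K⁆, y' ≠ 1 → ∃ k ∈ K, y' = k * y * k⁻¹

variable {K K' : Subgroup X}

theorem comm_le (h : K ≤ 𝐍(V)) : ⁅V, K⁆ ≤ V := commutator_le.2 fun v hv k hk => by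
  have := mul_mem hv (CO.norm_mem (h hk) (inv_mem hv))
  simpa only [commutatorElement_def, mul_assoc] using this

theorem split (hV : El V) (h : K ≤ 𝐍(V)) (ho : Odd (Nat.card K)) {v : X} (hv : v ∈ V) :
    ∃ y ∈ ⁅V, K⁆, ∃ c ∈ V ⊓ 𝐂(K), y * c = v := by
  rw [← Cop.commutator_sup_centralizer h (hV.coprime ho).symm (Or.inr hV.solv)] at hv
  exact mem_sup_norm (inf_le_left.trans (hV.le_norm (comm_le h))) hv

theorem eq_one (hV : El V) (h : K ≤ 𝐍(V)) (ho : Odd (Nat.card K)) {y : X} (h1 : y ∈ ⁅V, K⁆)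
    (h2 : y ∈ 𝐂(K)) : y = 1 := by
  rw [← mem_bot, ← Cop.commutator_inf_centralizer_eq_bot h (hV.coprime ho).symm hV.mulComm]
  exact ⟨h1, h2⟩

theorem conj_cent {k c : X} (hk : k ∈ K) (hc : c ∈ 𝐂(K)) : k * c * k⁻¹ = c := by
  rw [mem_cent.1 hc k hk, mul_inv_cancel_right]

theorem conj_eq (hV : El V) {v k : X} (hv : v ∈ V) (hk : k ∈ K) :
    ∃ y ∈ ⁅V, K⁆, k * v * k⁻¹ = v * y :=
  ⟨⁅v⁻¹, k⁆, commutator_mem_commutator (inv_mem hv) hk, by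
    simp only [commutatorElement_def]; group⟩

theorem norm_comm (K : Subgroup X) {k y : X} (hk : k ∈ K) (hy : y ∈ ⁅V, K⁆) :
    k * y * k⁻¹ ∈ ⁅V, K⁆ := CO.norm_mem (normalizer_commutator_ge_right V K hk) hy

theorem Tr.cj (h : Tr V K) {g : X} (hg : g ∈ 𝐍(V)) : Tr V (g •ᶜ K) := by
  have e : ⁅V, g •ᶜ K⁆ = g •ᶜ ⁅V, K⁆ := by rw [cj_commutator, CO.cj_eq hg]
  refine ⟨?_, by rw [card_map_conj]; exact h.odd, ?_, ?_⟩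
  · have := CO.cj_norm h.nm g
    rwa [CO.cj_eq hg] at this
  · obtain ⟨y, hy, y', hy', h1, h2, h3⟩ := h.two
    rw [e]
    exact ⟨_, CO.cj_mem hy, _, CO.cj_mem hy', U4.conj_ne_one_iff.2 h1, U4.conj_ne_one_iff.2 h2,
      fun e => h3 (mul_left_cancel (mul_right_cancel e))⟩
  · rw [e]
    rintro _ ⟨y, hy, rfl⟩ h1 _ ⟨y', hy', rfl⟩ h2
    obtain ⟨k, hk, rfl⟩ := h.tr y hy (fun e => h1 (by rw [e, map_one])) y' hy'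
      (fun e => h2 (by rw [e, map_one]))
    refine ⟨_, CO.cj_mem hk, ?_⟩
    simp only [MulEquiv.coe_toMonoidHom, MulAut.conj_apply]
    group

theorem Tr.move (hV : El V) (h : Tr V K) {v y : X} (hv : v ∈ V) (h1 : v ∉ 𝐂(K))
    (hy : y ∈ ⁅V, K⁆) (h2 : y * v ∉ 𝐂(K)) : ∃ k ∈ K, y * v = k * v * k⁻¹ := by
  obtain ⟨y0, h0, c, hc, rfl⟩ := split hV h.nm h.odd hv
  obtain ⟨k, hk, e⟩ := h.tr y0 h0 (by rintro rfl; exact h1 (by simpa using hc.2)) (y * y0)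
    (mul_mem hy h0) (fun e => h2 (by rw [← mul_assoc, e, one_mul]; exact hc.2))
  refine ⟨k, hk, ?_⟩
  calc y * (y0 * c) = k * y0 * k⁻¹ * (k * c * k⁻¹) := by rw [← mul_assoc, e, conj_cent hk hc.2]
    _ = _ := by group

theorem Tr.uniq (hV : El V) (h : Tr V K) {a a' b : X} (ha : a ∈ ⁅V, K⁆) (ha' : a' ∈ ⁅V, K⁆)
    (h1 : a * b ∈ 𝐂(K)) (h2 : a' * b ∈ 𝐂(K)) : a = a' := by
  have := mul_mem h1 (inv_mem h2)
  rw [show a * b * (a' * b)⁻¹ = a * a'⁻¹ by group] at this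
  exact mul_inv_eq_one.1 (eq_one hV h.nm h.odd (mul_mem ha (inv_mem ha')) this)

theorem grid1 (hV : El V) (h : Tr V K) (h' : Tr V K') {a : X} (ha : a ∈ ⁅V, K⁆)
    (hi : ∀ d ∈ ⁅V, K'⁆, d ∈ 𝐂(K) → d = 1) :
    ∃ b ∈ ⁅V, K'⁆, b ∉ 𝐂(K) ∧ a * b ∉ 𝐂(K) ∧ a * b ∉ 𝐂(K') := by
  have hle := comm_le h.nm
  have hle' := comm_le h'.nm
  obtain ⟨y, hy, y', hy', h1, h2, h3⟩ := h'.two
  have u1 : ∀ b ∈ ⁅V, K'⁆, ∀ b' ∈ ⁅V, K'⁆, a * b ∈ 𝐂(K) → a * b' ∈ 𝐂(K) → b = b' := by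
    intro b hb b' hb' k1 k2
    have := mul_mem (inv_mem k1) k2
    rw [show (a * b)⁻¹ * (a * b') = b⁻¹ * b' by group] at this
    exact inv_mul_eq_one.1 (hi _ (mul_mem (inv_mem hb) hb') this)
  have u2 : ∀ b ∈ ⁅V, K'⁆, ∀ b' ∈ ⁅V, K'⁆, a * b ∈ 𝐂(K') → a * b' ∈ 𝐂(K') → b = b' := by
    intro b hb b' hb' k1 k2
    rw [hV.comm (hle ha) (hle' hb)] at k1
    rw [hV.comm (hle ha) (hle' hb')] at k2
    exact h'.uniq hV hb hb' k1 k2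
  have hyy := mul_mem hy hy'
  have h4 : y * y' ≠ 1 := fun e => h3 (by rw [eq_inv_of_mul_eq_one_left e, hV.inv (hle' hy')])
  have h5 : y * y' ≠ y := fun e => h2 (mul_eq_left.1 e)
  have h6 : y * y' ≠ y' := fun e => h1 (mul_eq_right.1 e)
  by_contra! hc
  have k : ∀ b ∈ ⁅V, K'⁆, b ≠ 1 → a * b ∈ 𝐂(K) ∨ a * b ∈ 𝐂(K') := fun b hb hb1 => by
    by_cases e : a * b ∈ 𝐂(K)
    · exact Or.inl e
    · exact Or.inr (hc b hb (fun e => hb1 (hi b hb e)) e)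
  rcases k y hy h1 with k1 | k1 <;> rcases k y' hy' h2 with k2 | k2 <;>
    rcases k _ hyy h4 with k3 | k3
  · exact h3 (u1 _ hy _ hy' k1 k2)
  · exact h3 (u1 _ hy _ hy' k1 k2)
  · exact h5 (u1 _ hyy _ hy k3 k1)
  · exact h6 (u2 _ hyy _ hy' k3 k2)
  · exact h6 (u1 _ hyy _ hy' k3 k2)
  · exact h5 (u2 _ hyy _ hy k3 k1)
  · exact h3 (u2 _ hy _ hy' k1 k2)
  · exact h3 (u2 _ hy _ hy' k1 k2)

theorem grid (hV : El V) (h : Tr V K) (h' : Tr V K') (h1 : ¬ ⁅V, K⁆ ≤ 𝐂(K'))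
    (h2 : ¬ ⁅V, K'⁆ ≤ 𝐂(K)) : ∃ a ∈ ⁅V, K⁆, ∃ b ∈ ⁅V, K'⁆, a ∉ 𝐂(K') ∧ b ∉ 𝐂(K) ∧
      a * b ∉ 𝐂(K) ∧ a * b ∉ 𝐂(K') := by
  have hle := comm_le h.nm
  have hle' := comm_le h'.nm
  obtain ⟨a0, ha0, ha1⟩ := SetLike.not_le_iff_exists.1 h1
  obtain ⟨b0, hb0, hb1⟩ := SetLike.not_le_iff_exists.1 h2
  by_cases hi : ∀ d ∈ ⁅V, K'⁆, d ∈ 𝐂(K) → d = 1
  · obtain ⟨b, hb, k1, k2, k3⟩ := grid1 hV h h' ha0 hi
    exact ⟨a0, ha0, b, hb, ha1, k1, k2, k3⟩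
  by_cases hi' : ∀ d ∈ ⁅V, K⁆, d ∈ 𝐂(K') → d = 1
  · obtain ⟨a, ha, k1, k2, k3⟩ := grid1 hV h' h hb0 hi'
    rw [hV.comm (hle' hb0) (hle ha)] at k2 k3
    exact ⟨a, ha, b0, hb0, k1, hb1, k3, k2⟩
  push Not at hi hi'
  obtain ⟨d, hd, hdc, hd1⟩ := hi
  obtain ⟨d', hd', hdc', hd1'⟩ := hi'
  obtain ⟨a, ha, k1, k2⟩ : ∃ a ∈ ⁅V, K⁆, a ∉ 𝐂(K') ∧ a * b0 ∉ 𝐂(K) := by
    by_cases e : a0 * b0 ∈ 𝐂(K)
    · exact ⟨a0 * d', mul_mem ha0 hd', fun k => ha1 ((mul_mem_cancel_right hdc').1 k),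
        fun k => hd1' (mul_eq_left.1 (h.uniq hV (mul_mem ha0 hd') ha0 k e))⟩
    · exact ⟨a0, ha0, ha1, e⟩
  by_cases e : a * b0 ∈ 𝐂(K')
  · refine ⟨a, ha, b0 * d, mul_mem hb0 hd, k1, fun k => hb1 ((mul_mem_cancel_right hdc).1 k),
      fun k => k2 ?_, fun k => hd1 ?_⟩
    · rw [← mul_assoc] at k
      exact (mul_mem_cancel_right hdc).1 k
    · rw [hV.comm (hle ha) (hle' (mul_mem hb0 hd))] at k
      rw [hV.comm (hle ha) (hle' hb0)] at e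
      exact mul_eq_left.1 (h'.uniq hV (mul_mem hb0 hd) hb0 k e)
  · exact ⟨a, ha, b0, hb0, k1, hb1, k2, e⟩

theorem one_sided (hV : El V) {H : Subgroup X} (hH : Odd (Nat.card H)) (hK : K ≤ H)
    (hK' : K' ≤ H) (hN : H ≤ 𝐍(V)) (h1 : ⁅V, K⁆ ≤ 𝐂(K')) : ⁅V, K'⁆ ≤ 𝐂(K) := by
  have hle := comm_le (hK.trans hN)
  refine commutator_le.2 fun v hv k' hk' => mem_cent.2 fun k hk => ?_
  have hg : k * k' * k⁻¹ * k'⁻¹ ∈ H :=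
    mul_mem (mul_mem (mul_mem (hK hk) (hK' hk')) (inv_mem (hK hk))) (inv_mem (hK' hk'))
  have f1 : ∀ y ∈ ⁅V, K⁆, k * k' * k⁻¹ * k'⁻¹ * y * (k * k' * k⁻¹ * k'⁻¹)⁻¹ = y := fun y hy => by
    have e1 := conj_cent (inv_mem hk') (h1 hy)
    have e2 := conj_cent hk' (h1 (norm_comm K (inv_mem hk) hy))
    calc _ = k * (k' * (k⁻¹ * (k'⁻¹ * y * k'⁻¹⁻¹) * k⁻¹⁻¹) * k'⁻¹) * k⁻¹ := by group
      _ = y := by rw [e1, e2]; group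
  have f2 : ∀ w ∈ V, ∃ y ∈ ⁅V, K⁆,
      k * k' * k⁻¹ * k'⁻¹ * w * (k * k' * k⁻¹ * k'⁻¹)⁻¹ = w * y := fun w hw => by
    obtain ⟨y1, hy1, e1⟩ := conj_eq hV (CO.norm_mem (hN (hK' (inv_mem hk'))) hw) (inv_mem hk)
    obtain ⟨y2, hy2, e2⟩ := conj_eq hV hw hk
    refine ⟨y2 * (k * y1 * k⁻¹), mul_mem hy2 (norm_comm K hk hy1), ?_⟩
    calc _ = k * (k' * (k⁻¹ * (k'⁻¹ * w * k'⁻¹⁻¹) * k⁻¹⁻¹) * k'⁻¹) * k⁻¹ := by group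
      _ = k * w * k⁻¹ * (k * (k' * y1 * k'⁻¹) * k⁻¹) := by rw [e1]; group
      _ = _ := by rw [e2, conj_cent hk' (h1 hy1), mul_assoc]
  have f3 : k * k' * k⁻¹ * k'⁻¹ ∈ 𝐂(V) := by
    refine SE.mem_of_sq_mem (hH.of_dvd_nat (orderOf_dvd_natCard _ hg)) (mem_cent.2 fun w hw => ?_)
    obtain ⟨y, hy, e⟩ := f2 w hw
    have e2 := f1 y hy
    generalize k * k' * k⁻¹ * k'⁻¹ = g at e e2
    symm
    rw [← mul_inv_eq_iff_eq_mul]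
    calc g * g * w * (g * g)⁻¹ = g * (g * w * g⁻¹) * g⁻¹ := by group
      _ = g * (w * y) * g⁻¹ := by rw [e]
      _ = g * w * g⁻¹ * (g * y * g⁻¹) := by group
      _ = w := by rw [e, e2, mul_assoc, hV y (hle hy), mul_one]
  obtain ⟨y, hy, e⟩ := conj_eq hV hv hk
  have e1 := conj_cent hk' (h1 (inv_mem hy))
  have hw : k' * (v * y)⁻¹ * k'⁻¹ ∈ V :=
    CO.norm_mem (hN (hK' hk')) (inv_mem (mul_mem hv (hle hy)))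
  have e2 : k * k' * k⁻¹ * k'⁻¹ * (k' * (v * y)⁻¹ * k'⁻¹) * (k * k' * k⁻¹ * k'⁻¹)⁻¹ =
      k' * (v * y)⁻¹ * k'⁻¹ := by rw [← mem_cent.1 f3 _ hw, mul_inv_cancel_right]
  rw [← mul_inv_eq_iff_eq_mul]
  calc k * ⁅v, k'⁆ * k⁻¹ = k * v * k⁻¹ * (k * k' * k⁻¹ * k'⁻¹ * (k' * (k * v * k⁻¹)⁻¹ * k'⁻¹) *
        (k * k' * k⁻¹ * k'⁻¹)⁻¹) := by simp only [commutatorElement_def]; group
    _ = v * y * (k' * y⁻¹ * k'⁻¹) * (k' * v⁻¹ * k'⁻¹) := by rw [e, e2]; group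
    _ = _ := by rw [e1]; simp only [commutatorElement_def]; group

theorem exists_tr (hV : El V) (hK : K ≤ 𝐍(V)) (hs : Group.IsSolvable K) {Y0 : Subgroup X}
    (h0 : Y0 ≤ V ⊓ 𝐂(K))
    (tr : ∀ y ∈ V, y ∉ Y0 → ∀ y' ∈ V, y' ∉ Y0 → ∃ k ∈ K, ∃ v ∈ Y0, y' = k * y * k⁻¹ * v)
    (hi : ¬ Y0.relIndex V ≤ 2) : ∃ H, H ≤ K ∧ Tr V H := by
  have := Fact.mk Nat.prime_two
  obtain ⟨H, hH⟩ := Hall.exists_isPiHallOf hs {2}ᶜ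
  obtain ⟨P, hP⟩ := Hall.exists_isPiHallOf hs {2}
  have hP2 := (Cop.isPiHallOf_singleton_iff.1 hP).2.1
  have hHo : Odd (Nat.card H) := Nat.coprime_two_right.1 (coprime_iff_isPiSubgroup.2 hH.2.1)
  have hHN := hH.1.trans hK
  have h0V : Y0 ≤ V := h0.trans inf_le_left
  have h0K : Y0 ≤ 𝐂(K) := h0.trans inf_le_right
  obtain ⟨v1, hv1, v2, hv2, n1, n2, n3⟩ : ∃ v1 ∈ V, ∃ v2 ∈ V, v1 ∉ Y0 ∧ v2 ∉ Y0 ∧
      v1⁻¹ * v2 ∉ Y0 := by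
    by_contra! hc
    apply hi
    by_cases e : V ≤ Y0
    · rw [relIndex_eq_one.2 e]; norm_num
    obtain ⟨x, hx, hx0⟩ := SetLike.not_le_iff_exists.1 e
    refine (relIndex_eq_two_iff.2 ⟨x, hx, fun b hb => ?_⟩).le
    by_cases hb' : b ∈ Y0
    · exact Or.inr ⟨hb', fun h' => hx0 ((mul_mem_cancel_left hb').1 h')⟩
    · exact Or.inl ⟨by simpa only [hV.inv hb] using hc b hb x hx hb' hx0, hb'⟩
  have hPV : IsPGroup 2 (P ⊔ V : Subgroup X) :=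
    H1.isPGroup_sup_of_le_normalizer hP2 hV.isPGroup (hP.1.trans hK)
  obtain ⟨x, hx, hx0, hc⟩ := Cop.exists_commutator_mem_of_lt hPV.isNilpotent le_sup_right
    (sup_le ((hP.1.trans (CO.lcc h0K)).trans (U4.cent_le_norm _)) (hV.le_norm h0V))
    (sup_le (hP.1.trans hK) le_normalizer) (fun e => n1 (e hv1))
  have key : ∀ y ∈ V, y ∉ Y0 → ∃ k ∈ H, ∃ v ∈ Y0, y = k * x * k⁻¹ * v := by
    intro y hy hy0
    obtain ⟨k, hk, v, hv, e⟩ := tr x hx hx0 y hy hy0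
    obtain ⟨k2, hk2, p, hp, rfl⟩ := exists_mul_of_hallOf hH (by rwa [compl_compl]) hk
    refine ⟨k2, hk2, ⁅x, p⁆ * v, mul_mem (hc p (mem_sup_left hp)) hv, ?_⟩
    rw [e, ← conj_cent (hH.1 hk2) (h0K (hc p (mem_sup_left hp))), commutatorElement_def, hV.inv hx]
    calc k2 * p * x * (k2 * p)⁻¹ * v = k2 * ((x * x) * p * x * p⁻¹) * k2⁻¹ * v := by
          rw [hV x hx]; group
      _ = _ := by group
  have key2 : ∀ y ∈ V, y ∉ Y0 → ∀ y' ∈ V, y' ∉ Y0 → ∃ k ∈ H, (k * y * k⁻¹)⁻¹ * y' ∈ Y0 := by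
    intro y hy hy0 y' hy' hy0'
    obtain ⟨k, hk, v, hv, e⟩ := key y hy hy0
    obtain ⟨k', hk', v', hv', e'⟩ := key y' hy' hy0'
    have hkk := mul_mem hk' (inv_mem hk)
    refine ⟨_, hkk, ?_⟩
    have := mul_mem (inv_mem hv) hv'
    rw [← conj_cent (hH.1 hkk) (h0K hv)] at this
    convert this using 1
    rw [e, e']
    group
  have hC : ∀ c ∈ V ⊓ 𝐂(H), c ∈ Y0 := fun c hc => by
    by_contra hc0
    obtain ⟨k, hk, e⟩ := key2 c hc.1 hc0 v1 hv1 n1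
    obtain ⟨k', hk', e'⟩ := key2 c hc.1 hc0 v2 hv2 n2
    rw [conj_cent hk hc.2] at e
    rw [conj_cent hk' hc.2] at e'
    exact n3 (by simpa [mul_assoc] using mul_mem (inv_mem e) e')
  have h1 : ∀ y ∈ ⁅V, H⁆, y ∈ Y0 → y = 1 := fun y hy hy0 =>
    eq_one hV hHN hHo hy (centralizer_le hH.1 (h0K hy0))
  refine ⟨H, hH.1, hHN, hHo, ?_, fun y hy hy1 y' hy' hy1' => ?_⟩
  · obtain ⟨y1, hy1, c1, hc1, rfl⟩ := split hV hHN hHo hv1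
    obtain ⟨y2, hy2, c2, hc2, rfl⟩ := split hV hHN hHo hv2
    refine ⟨y1, hy1, y2, hy2, ?_, ?_, ?_⟩
    · rintro rfl; exact n1 (by simpa using hC _ hc1)
    · rintro rfl; exact n2 (by simpa using hC _ hc2)
    · rintro rfl; exact n3 (by simpa [mul_assoc] using mul_mem (inv_mem (hC _ hc1)) (hC _ hc2))
  · obtain ⟨k, hk, e⟩ := key2 y (comm_le hHN hy) (fun e => hy1 (h1 y hy e)) y' (comm_le hHN hy')
      (fun e => hy1' (h1 y' hy' e))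
    exact ⟨k, hk, (inv_mul_eq_one.1 (h1 _ (mul_mem (inv_mem (norm_comm H hk hy)) hy') e)).symm⟩

theorem noK (hV : El V) (hM : M ≤ 𝐍(V)) (hs : Group.IsSolvable M) (hBV : B ≤ 𝐍(V))
    (hBM : B ≤ 𝐍(M)) (fixV : ∀ v ∈ V, (∀ b ∈ B, ∃ m ∈ M, b * v * b⁻¹ = m * v * m⁻¹) → v = 1) :
    NoK M V := by
  intro K Y0 hK h0 tr
  by_contra hi
  have := Fact.mk Nat.prime_two
  obtain ⟨K1, hK1, t1⟩ := exists_tr hV (hK.trans hM) (isSolvable_of_le hs hK) h0 tr hi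
  obtain ⟨H, hH, hK1H⟩ := Hall.exists_hallOf_ge hs
    (coprime_iff_isPiSubgroup.1 (Nat.coprime_two_right.2 t1.odd)) (hK1.trans hK)
  have hHo : Odd (Nat.card H) := Nat.coprime_two_right.1 (coprime_iff_isPiSubgroup.2 hH.2.1)
  have hHN := hH.1.trans hM
  let 𝒢 : Set X := {g | ∃ L, L ≤ H ∧ Tr V L ∧ g ∈ L}
  let S : Set X := {x | ∃ L, L ≤ H ∧ Tr V L ∧ x ∈ ⁅V, L⁆ ∧ x ≠ 1}
  have hNH : closure 𝒢 ≤ H := (closure_le _).2 fun g ⟨L, h1, _, h2⟩ => h1 h2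
  have hLN : ∀ L, L ≤ H → Tr V L → L ≤ closure 𝒢 := fun L h1 h2 g hg =>
    subset_closure ⟨L, h1, h2, hg⟩
  have hS : ∀ l ∈ 𝐍(V), l ∈ 𝐍(H) → ∀ x ∈ S, l * x * l⁻¹ ∈ S := by
    rintro l hl hl' x ⟨L, h1, h2, h3, h4⟩
    refine ⟨l •ᶜ L, cj_le_of_norm h1 hl', h2.cj hl, ?_, U4.conj_ne_one_iff.2 h4⟩
    rw [← CO.cj_eq hl, ← cj_commutator]
    exact CO.cj_mem h3
  have hg : ∀ g ∈ 𝒢, ∃ x0, ∀ x ∈ S, x ∉ PR.cls (closure 𝒢) x0 → g * x * g⁻¹ = x := by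
    rintro g ⟨L, h1, h2, hg⟩
    obtain ⟨x0, hx0, -, -, m1, -, -⟩ := h2.two
    refine ⟨x0, ?_⟩
    rintro x ⟨L', h1', h2', hx, hx1⟩ hn
    refine conj_cent hg ((show ⁅V, L'⁆ ≤ 𝐂(L) from ?_) hx)
    by_cases c1 : ⁅V, L⁆ ≤ 𝐂(L')
    · exact one_sided hV hHo h1 h1' hHN c1
    by_contra c2
    obtain ⟨a, ha, b, hb, k1, k2, k3, k4⟩ := grid hV h2 h2' c1 c2
    obtain ⟨k, hk, e⟩ := h2.move hV (comm_le h2'.nm hb) k2 ha k3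
    rw [hV.comm (comm_le h2.nm ha) (comm_le h2'.nm hb)] at k4 e
    obtain ⟨k', hk', e'⟩ := h2'.move hV (comm_le h2.nm ha) k1 hb k4
    obtain ⟨p, hp, e1⟩ := h2.tr x0 hx0 m1 a ha (by rintro rfl; exact k1 (one_mem _))
    obtain ⟨q, hq, e2⟩ := h2'.tr b hb (by rintro rfl; exact k2 (one_mem _)) x hx hx1
    refine hn ⟨q * k⁻¹ * k' * p, mul_mem (mul_mem (mul_mem (hLN _ h1' h2' hq)
      (inv_mem (hLN _ h1 h2 hk))) (hLN _ h1' h2' hk')) (hLN _ h1 h2 hp), ?_⟩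
    calc x = q * k⁻¹ * (k * b * k⁻¹) * (q * k⁻¹)⁻¹ := by rw [e2]; group
      _ = _ := by rw [← e, e', e1]; group
  obtain ⟨y, hy, y', hy', n1, n2, n3⟩ := t1.two
  obtain ⟨v, hv, hv1, hv2⟩ := PR.product hV.mulComm (𝒢 := 𝒢) (S := S)
    (fun x ⟨L, _, h2, h3, _⟩ => comm_le h2.nm h3) (hNH.trans hHN) hg
    (fun n hn => hS n (hHN (hNH hn)) (le_normalizer (hNH hn))) ⟨K1, hK1H, t1, hy, n1⟩
    (by
      obtain ⟨k, hk, e⟩ := t1.tr y hy n1 y' hy' n2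
      exact ⟨k, hLN K1 hK1H t1 hk, e⟩) n3.symm
  · refine hv1 (fixV v hv fun b hb => ?_)
    have h1 := U4.hallOf_conj hH b
    rw [CO.cj_eq (hBM hb)] at h1
    obtain ⟨m, hm, h2⟩ := Hall.exists_conj_le_hallOf hs h1.2.1 h1.1 hH
    rw [← map_conj_mul] at h2
    have h3 := CO.mem_norm_of_cj_le h2
    have h4 : m * b ∈ 𝐍(V) := mul_mem (hM hm) (hBV hb)
    obtain ⟨n, hn, e⟩ := hv2 (m * b) h4 (CO.mem_norm_of_cj_le (by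
        rw [map_le_iff_le_comap, closure_le]
        rintro g ⟨L, k1, k2, k3⟩
        exact hLN _ (cj_le_of_norm k1 h3) (k2.cj h4) (CO.cj_mem k3)))
      (hS _ h4 h3) (fun x hx => by simpa using hS _ (inv_mem h4) (inv_mem h3) x hx)
    refine ⟨m⁻¹ * n, mul_mem (inv_mem hm) (hH.1 (hNH hn)), ?_⟩
    calc b * v * b⁻¹ = m⁻¹ * (m * b * v * (m * b)⁻¹) * m := by group
      _ = _ := by rw [e]; group

end MSa

/-- Lemma S. -/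
theorem MS.noK (h : MS V M R B) : NoK M V := MSa.noK h.el h.MV h.sol h.BV h.BM h.fixV

end CfsgLib.TG
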