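import Cfsg.Agent.Lib.TG.MSc0

set_option autoImplicit false
set_option linter.unusedSectionVars false

namespace CfsgLib.TG

open Subgroup Cfsg CfsgLib.FT CfsgLib.FT.BGN CfsgLib.GW CfsgLib.Wal
open CfsgLib.FT.U4 (mem_cent1 mem_cent1' mem_cent mem_cent1_comm cent1_conj conj_mem_conj_iff
  orderOf_conj)
open scoped commutatorElement

variable {X : Type*} [Group X] [Finite X] {V M R B : Subgroup X}

namespace Msc

theorem el_two {s t : X} (hs : s * s = 1) (ht : t * t = 1) (h : s * t = t * s) :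
    El (zpowers s ⊔ zpowers t) :=
  (el_zpowers hs).sup (el_zpowers ht) (by
    rw [H1.centralizer_zpowers_eq]; exact zpowers_le.2 (mem_cent1.2 h.symm))

theorem mul_sq {s t : X} (hs : s * s = 1) (ht : t * t = 1) (h : s * t = t * s) :
    s * t * (s * t) = 1 := by
  calc s * t * (s * t) = s * (t * s) * t := by group
    _ = (s * s) * (t * t) := by rw [← h]; group
    _ = 1 := by rw [hs, ht, one_mul]

theorem not_W_le (h : MS V M R B) {s t f : X} (hs : Sm V M s) (ht : Sm V M t) (hne : s ≠ t)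
    (hf : Fi M f) (h1 : s * f * s⁻¹ = f⁻¹) (h2 : t * f * t⁻¹ = f⁻¹) :
    ¬ ⁅V, zpowers f⁆ ≤ 𝐂[s * t] := fun e => by
  obtain ⟨-, -, -, h3⟩ := stepA h hs hf h1
  obtain ⟨-, -, -, h4⟩ := stepA h ht hf h2
  have h5 : V ≤ 𝐂[s * t] := by
    rw [← (h.split hf.mem hf.odd).2]
    exact sup_le e fun v hv => mem_cent1_comm.1
      (mul_mem (mem_cent1_comm.1 (h3 hv)) (mem_cent1_comm.1 (h4 hv)))
  have h6 := eq_one h (mul_mem hs.mem ht.mem) h5
  exact hne (by rw [eq_inv_of_mul_eq_one_left h6, inv_eq_of_mul_eq_one_right ht.sq])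

theorem lemK (h : MS V M R B) {s t f : X} (hs : Sm V M s) (ht : Sm V M t) (hne : s ≠ t)
    (hc : s * t = t * s) (hf : Fi M f) (h1 : s * f * s⁻¹ = f⁻¹) (h2 : t ∈ 𝐂[f]) :
    ⁅V, zpowers f⁆ ≤ 𝐂[t] := by
  by_contra hn
  obtain ⟨a1, a2, a3, -⟩ := stepA h hs hf h1
  obtain ⟨b1, b2, b3⟩ := ord3 h hs hf h1 ht.mem ht.sq h2 (mem_cent1.2 hc.symm) hn
  have hWV : ⁅V, zpowers f⁆ ≤ V := cm_le (h.MV hf.mem)
  have b4 : ⁅⁅V, zpowers f⁆, zpowers t⁆ = ⁅V, zpowers t⁆ :=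
    eq_of_le_of_card_ge (commutator_mono hWV le_rfl) (b1 ▸ ht.card)
  have b5 : ⁅V, zpowers t⁆ ≤ ⁅V, zpowers f⁆ :=
    b4 ▸ cm_le (norm_cm (h.MV ht.mem) (norm_zp_cent h2))
  rw [b4] at b1 b3
  have b6 : ⁅V, zpowers s⁆ ≤ ⁅V, zpowers f⁆ := a2.le.trans inf_le_left
  have b7 : 8 ≤ Nat.card ↥(⁅V, zpowers t⁆ ⊔ ⁅V, zpowers s⁆) := by
    have c1 := card_sup_mul_card_inf (H := ⁅V, zpowers t⁆) (N := ⁅V, zpowers s⁆)
      ((b5.trans hWV).trans (h.el.le_norm (b6.trans hWV)))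
    have c2 : Nat.card ↥(⁅V, zpowers t⁆ ⊓ ⁅V, zpowers s⁆) ≤ 2 :=
      b3 ▸ card_le_of_le (inf_le_inf_left _ (a2.le.trans inf_le_right))
    rw [b1, a3] at c1
    nlinarith
  obtain ⟨g, hg, g1, g2⟩ := exists_fi h (el_two hs.sq ht.sq hc)
    (sup_le (zpowers_le.2 hs.mem) (zpowers_le.2 ht.mem)) (mem_sup_right (mem_zpowers t)) ht.ne
  obtain ⟨c1, c2, -, -⟩ := stepA h ht hg g1
  have c3 : ⁅V, zpowers t⁆ ≤ ⁅V, zpowers g⁆ := c2.le.trans inf_le_left
  have hWV' : ⁅V, zpowers g⁆ ≤ V := cm_le (h.MV hg.mem)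
  have c4 : ⁅V, zpowers s⁆ ≤ ⁅V, zpowers g⁆ ∧ orderOf g = 3 := by
    rcases g2 s (mem_sup_left (mem_zpowers s)) with e | e
    · obtain ⟨d1, d2, -⟩ := ord3 h ht hg g1 hs.mem hs.sq e (mem_cent1.2 hc) fun e' => by
        rw [inf_eq_left.2 (c3.trans e')] at b3
        omega
      have d3 : ⁅⁅V, zpowers g⁆, zpowers s⁆ = ⁅V, zpowers s⁆ :=
        eq_of_le_of_card_ge (commutator_mono hWV' le_rfl) (d1 ▸ hs.card)
      exact ⟨d3 ▸ cm_le (norm_cm (h.MV hs.mem) (norm_zp_cent e)), d2⟩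
    · have d0 := inv_of_mul ht.sq g1 e
      obtain ⟨-, d1, -, -⟩ := stepA h hs hg d0
      obtain ⟨-, d2, -⟩ := ord3 h ht hg g1 (mul_mem ht.mem hs.mem) (mul_sq ht.sq hs.sq hc.symm) e
        (mem_cent1.2 (by rw [mul_assoc, hc])) (not_W_le h ht hs hne.symm hg g1 d0)
      exact ⟨d1.le.trans inf_le_left, d2⟩
  have c5 := p33 h hf hg b2 c4.2 a1 c1
    (b7.trans (card_le_of_le (sup_le (le_inf b5 c3) (le_inf b6 c4.1))))
  exact hg.not_both (mem_cent1_comm.1 (zpowers_le.2 (mem_cent1_comm.1 h2) c5)) g1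

theorem lemK2 (h : MS V M R B) {s t f : X} (hs : Sm V M s) (ht : Sm V M t) (hne : s ≠ t)
    (hc : s * t = t * s) (hf : Fi M f) (h1 : s * f * s⁻¹ = f⁻¹) (h2 : t * f * t⁻¹ = f⁻¹) :
    False := by
  have hn := not_W_le h hs ht hne hf h1 h2
  have hr := cent_of_inv h1 h2
  have hrs : s * (s * t) = s * t * s := by rw [mul_assoc, ← hc]
  have hsq := mul_sq hs.sq ht.sq hc
  have hrM := mul_mem hs.mem ht.mem
  obtain ⟨b1, -, -⟩ := ord3 h hs hf h1 hrM hsq hr (mem_cent1.2 hrs.symm) hn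
  obtain ⟨-, -, -, h3⟩ := stepA h hs hf h1
  obtain ⟨-, -, -, h4⟩ := stepA h ht hf h2
  have hWV : ⁅V, zpowers f⁆ ≤ V := cm_le (h.MV hf.mem)
  have h5 : ⁅V, zpowers (s * t)⁆ ≤ ⁅⁅V, zpowers f⁆, zpowers (s * t)⁆ := fun v hv => by
    obtain ⟨w, hw, rfl⟩ := cm_ex h.el (h.MV hrM) hv
    obtain ⟨u, hu, c, hc', rfl⟩ := (mem_sup_iff_of_le_normalizer'
      ((inf_le_left : V ⊓ 𝐂[f] ≤ V).trans (h.el.le_norm hWV))).1
        ((h.split hf.mem hf.odd).2.ge hw)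
    have h6 : c * (s * t) = s * t * c := mem_cent1.1 (mem_cent1_comm.1
      (mul_mem (mem_cent1_comm.1 (h3 hc')) (mem_cent1_comm.1 (h4 hc'))))
    have h7 : ⁅u * c, s * t⁆ = ⁅u, s * t⁆ := by
      simp only [commutatorElement_def]
      calc u * c * (s * t) * (u * c)⁻¹ * (s * t)⁻¹ = u * (c * (s * t)) * c⁻¹ * u⁻¹ * (s * t)⁻¹ := by
            group
        _ = _ := by rw [h6]; group
    rw [h7]
    exact cm_mem hu
  have hS : Sm V M (s * t) := ⟨hrM, hsq, fun e => hn (by rw [e]; exact fun v _ => mem_cent1.2 (by simp)),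
    b1 ▸ card_le_of_le h5⟩
  exact hn (lemK h hs hS (fun e => ht.ne (mul_eq_left.1 e.symm)) hrs hf h1 hr)

theorem Sm.cj {t g : X} (ht : Sm V M t) (h1 : g ∈ 𝐍(V)) (h2 : g ∈ 𝐍(M)) :
    Sm V M (g * t * g⁻¹) := by
  refine ⟨nm h2 ht.mem, Invol.conj_mul_self ht.sq g, fun e => ht.ne (conj_eq_one_iff.1 e), ?_⟩
  have h3 : g •ᶜ ⁅V, zpowers t⁆ = ⁅V, zpowers (g * t * g⁻¹)⁆ := by
    rw [map_commutator, map_conj_eq_of_mem_normalizer h1, MonoidHom.map_zpowers]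
    rfl
  rw [← h3, card_map_conj]
  exact ht.card

theorem cent_of_comm (h : MS V M R B) {s t f : X} (hs : Sm V M s) (ht : Sm V M t) (hne : s ≠ t)
    (hc : s * t = t * s) (hf : Fi M f) (h1 : s * f * s⁻¹ = f⁻¹)
    (h2 : t ∈ 𝐂[f] ∨ s * t ∈ 𝐂[f]) : t ∈ 𝐂[f] :=
  h2.resolve_right fun e => lemK2 h hs ht hne hc hf h1 (inv_of_mul hs.sq h1 e)

theorem comm_of_pow (h : MS V M R B) (k : ℕ) : ∀ s t : X, Sm V M s → Sm V M t →
    (s * t) ^ 2 ^ k = 1 → s * t = t * s := by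
  induction k with
  | zero =>
    intro s t hs ht e
    rw [pow_zero, pow_one] at e
    rw [eq_inv_of_mul_eq_one_left e]; simp
  | succ k ih =>
    intro s t hs ht e
    have hti : t⁻¹ = t := inv_eq_of_mul_eq_one_right ht.sq
    have hs' := hs.cj (h.MV ht.mem) (le_normalizer ht.mem)
    have hc := ih s _ hs hs' (by
      rw [← e, pow_succ', pow_mul, hti]; simp [sq, mul_assoc])
    by_cases hne : s = t * s * t⁻¹
    · exact (mul_inv_eq_iff_eq_mul.1 hne.symm).symm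
    exfalso
    obtain ⟨f, hf, f1, f2⟩ := exists_fi h (el_two hs.sq hs'.sq hc)
      (sup_le (zpowers_le.2 hs.mem) (zpowers_le.2 hs'.mem)) (mem_sup_left (mem_zpowers s)) hs.ne
    have f3 := cent_of_comm h hs hs' hne hc hf f1 (f2 _ (mem_sup_right (mem_zpowers _)))
    have f4 := lemK h hs hs' hne hc hf f1 f3
    obtain ⟨a1, a2, -, -⟩ := stepA h hs hf f1
    obtain ⟨h0, h1⟩ := h.split hf.mem hf.odd
    have hWV : ⁅V, zpowers f⁆ ≤ V := cm_le (h.MV hf.mem)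
    have f5 : ⁅V, zpowers f⁆ ⊓ 𝐂[t] = ⊥ := by
      rw [eq_bot_iff, ← h0]
      intro w hw
      refine ⟨hw.1, ?_⟩
      have g1 : w ∈ 𝐂[s] := by
        have := mul_mem (mul_mem (inv_mem (mem_cent1_comm.1 hw.2)) (mem_cent1_comm.1 (f4 hw.1)))
          (mem_cent1_comm.1 hw.2)
        rw [show t⁻¹ * (t * s * t⁻¹) * t = s by group] at this
        exact mem_cent1_comm.1 this
      obtain ⟨v, hv, g2⟩ := cm_ex h.el (h.MV hs.mem) (a2.ge ⟨hw.1, g1⟩)
      have g3 : w = ⁅t * v * t⁻¹, t * s * t⁻¹⁆ := by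
        rw [← conjugate_commutatorElement, g2, ← mem_cent1.1 hw.2, mul_inv_cancel_right]
      obtain ⟨u, hu, c, hc', g4⟩ := (mem_sup_iff_of_le_normalizer
        (hWV.trans (h.el.le_norm (inf_le_left : V ⊓ 𝐂[f] ≤ V)))).1 (h1.ge (nm (h.MV ht.mem) hv))
      have g5 := mem_cent1.1 (f4 hu)
      have g6 := h.el.comm (hWV hu) hc'.1
      have g7 : w = ⁅c, t * s * t⁻¹⁆ := by
        rw [g3, ← g4, g6]
        generalize t * s * t⁻¹ = y at g5
        simp only [commutatorElement_def]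
        calc c * u * y * (c * u)⁻¹ * y⁻¹ = c * (u * y) * u⁻¹ * c⁻¹ * y⁻¹ := by group
          _ = _ := by rw [g5]; group
      rw [g7]
      exact (cm_le (norm_inf (h.MV hs'.mem) (norm_cent1 (norm_zp_cent f3))) (cm_mem hc')).2
    have f6 := card_inf_mul_relIndex (𝐂[t]) ⁅V, zpowers f⁆
    have f7 := relIndex_le_of_le_right (H := 𝐂[t]) hWV index_ne_zero_of_finite
    have f8 := ht.card
    rw [inf_comm, f5, card_bot, a1] at f6
    rw [cm_card h.el (h.MV ht.mem)] at f8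
    omega

open scoped IsMulCommutative in
theorem exists_prod {E : Subgroup X} (hE : El E) (S : Set X) (hS : S ⊆ E) {t : X} (ht : t ∈ S) :
    ∃ p ∈ E, (∀ b ∈ 𝐍(E), (∀ s ∈ S, b * s * b⁻¹ ∈ S) → b * p * b⁻¹ = p) ∧
      ∀ D : Subgroup X, (∀ s ∈ S, s ≠ t → s ∈ D) → t⁻¹ * p ∈ D := by
  classical
  have := hE.mulComm
  have := Fintype.ofFinite S
  let ι : S → E := fun s => ⟨s, hS s.2⟩
  refine ⟨(∏ s, ι s : E), SetLike.coe_mem _, fun b hb hbS => ?_, fun D hD => ?_⟩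
  · let φ : E →* E := (E.normalizerMonoidHom ⟨b, hb⟩).toMonoidHom
    let σ : S → S := fun s => ⟨b * s * b⁻¹, hbS s s.2⟩
    have hσ : Function.Bijective σ := (Finite.injective_iff_bijective).1 fun x y e =>
      Subtype.ext (by simpa [σ] using e)
    have h1 : φ (∏ s, ι s) = ∏ s, ι s := by
      rw [map_prod]
      exact Fintype.prod_bijective σ hσ _ _ fun s => rfl
    exact congrArg Subtype.val h1
  · rw [← Finset.mul_prod_erase Finset.univ ι (Finset.mem_univ ⟨t, ht⟩)]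
    have h1 : ∏ x ∈ Finset.univ.erase ⟨t, ht⟩, ι x ∈ D.subgroupOf E :=
      Subgroup.prod_mem _ fun s hs => hD s s.2 fun e => (Finset.mem_erase.1 hs).1 (Subtype.ext e)
    rw [coe_mul]
    simpa [ι] using mem_subgroupOf.1 h1

theorem el_closure {S : Set X} (h1 : ∀ s ∈ S, s * s = 1) (h2 : ∀ s ∈ S, ∀ t ∈ S, s * t = t * s) :
    El (closure S) := by
  have h3 : closure S ≤ 𝐂(closure S) := by
    rw [centralizer_closure, closure_le]
    exact fun s hs t ht => h2 t ht s hs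
  intro x hx
  induction hx using closure_induction with
  | mem x hx => exact h1 x hx
  | one => simp
  | mul x y hx hy a b => exact mul_sq a b (h3 hy x hx)
  | inv x _ a => rw [← mul_inv_rev, a, inv_one]

end Msc

open Msc

/-- Involutions have centralizers of index at least `8` in `V`. -/
theorem MS.d3 (h : MS V M R B) {t : X} (ht : t ∈ M) (h2 : t * t = 1) (h1 : t ≠ 1) :
    8 ≤ (𝐂[t]).relIndex V := by
  have := Fact.mk Nat.prime_two
  by_contra hn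
  rw [← cm_card h.el (h.MV ht)] at hn
  obtain ⟨j, hj⟩ := el_card (h.el.mono (cm_le (h.MV ht)))
  have hj2 : j < 3 := by
    by_contra hc
    have : 2 ^ 3 ≤ 2 ^ j := Nat.pow_le_pow_right (by norm_num) (by omega)
    omega
  have hS0 : Sm V M t := ⟨ht, h2, h1, by rw [hj]; interval_cases j <;> norm_num⟩
  obtain ⟨x, hx, hle⟩ := h.syl.exists_conj_le (el_zpowers h2).isPGroup (zpowers_le.2 ht)
  have hS := hS0.cj (h.MV hx) (le_normalizer hx)
  have hR : x * t * x⁻¹ ∈ R := hle ⟨t, mem_zpowers t, rfl⟩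
  generalize x * t * x⁻¹ = r at hS hR
  let S : Set X := {s | s ∈ R ∧ Sm V M s}
  have hcm : ∀ s ∈ S, ∀ s' ∈ S, s * s' = s' * s := fun s hs s' hs' => by
    obtain ⟨k, hk⟩ := h.syl.isPGroup ⟨s * s', mul_mem hs.1 hs'.1⟩
    exact comm_of_pow h k s s' hs.2 hs'.2 (congrArg Subtype.val hk)
  have hE := el_closure (fun s hs => hs.2.sq) hcm
  have hER : closure S ≤ R := (closure_le _).2 fun s hs => hs.1
  have hrS : r ∈ S := ⟨hR, hS⟩
  obtain ⟨p, hp, p1, p2⟩ := exists_prod hE S subset_closure hrS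
  have hB : ∀ b ∈ B, ∀ s ∈ S, b * s * b⁻¹ ∈ S := fun b hb s hs =>
    ⟨nm (h.BR hb) hs.1, hs.2.cj (h.BV hb) (h.BM hb)⟩
  have hp1 := h.fixR p (hER hp) (hE p hp) fun b hb => mem_cent1.2 (mul_inv_eq_iff_eq_mul.1
    (p1 b (mem_normalizer_fintype fun y hy => by
      have : closure S ≤ (closure S).comap (MulAut.conj b).toMonoidHom :=
        (closure_le _).2 fun s hs => subset_closure (hB b hb s hs)
      exact this hy) (hB b hb)))
  obtain ⟨f, hf, f1, f2⟩ := exists_fi h hE (hER.trans h.syl.le) (subset_closure hrS) hS.ne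
  have f3 := p2 𝐂[f] fun s hs hne => cent_of_comm h hS hs.2 hne.symm (hcm r hrS s hs) hf f1
    (f2 s (subset_closure hs))
  rw [hp1, mul_one, inv_mem_iff] at f3
  exact hf.not_both f3 f1

end CfsgLib.TG
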