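import Cfsg.Agent.Lib.TG.Red0

set_option autoImplicit false

namespace CfsgLib.TG

open Subgroup Cfsg CfsgLib.FT CfsgLib.FT.BGN CfsgLib.GW CfsgLib.Wal CfsgLib.PCompl
open CfsgLib.FT.U4 (mem_cent1 mem_cent1' mem_cent mem_cent1_comm cent1_conj conj_mem_conj_iff
  orderOf_conj)
open scoped commutatorElement

universe u

attribute [local instance] Cit.factTwo

def NoTC : Prop := ∀ (X : Type u) [Group X] [Finite X] (P : Subgroup X)
  (𝔄 : Subgroup (MulAut X)), TC P 𝔄 → False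

/-- The main theorem. -/
def Thm : Prop := ∀ (X : Type u) [Group X] [Finite X] (G : Subgroup X) [G.Normal],
  HasNormalPComplement 2 (X ⧸ G) →
    (∀ t ∈ G, t * t = 1 → (∀ x : X, ∃ g ∈ G, x * t * x⁻¹ = g * t * g⁻¹) → t = 1) →
      Group.IsSolvable G

/-- The theorem for groups of order `n`. -/
def RdN (n : ℕ) : Prop := ∀ (X : Type u) [Group X] [Finite X] (G B : Subgroup X), Nat.card G = n →
  B ≤ 𝐍(G) → HasNormalPComplement 2 B → Nc G B → Group.IsSolvable G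

section

variable {X : Type u} [Group X] [Finite X] {G B P : Subgroup X}

theorem rd_min [G.Normal] (ih : ∀ m < Nat.card G, RdN.{u} m) (h2 : HasNormalPComplement 2 B)
    (hc : Nc G B) (hns : ¬ Group.IsSolvable G) (N : Subgroup X) (h3 : N ≤ G) (h4 : N.Normal)
    (h5 : N ≠ ⊥) : N = G := by
  by_contra h6
  have h7 := ih _ (card_lt_card_of_lt (lt_of_le_of_ne h3 h6)) X N B rfl le_normalizer_of_normal h2
    (hc.sub h3)
  let f := QuotientGroup.mk' N
  have hk : f.ker = N := QuotientGroup.ker_mk' N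
  have h8 : Nat.card (G.map f) * Nat.card N = Nat.card G := by
    rw [← relIndex_ker, hk, ← Nat.card_congr (subgroupOfEquivOfLe h3).toEquiv, mul_comm]
    exact card_mul_index _
  have h9 : Group.IsSolvable (G.map f) := by
    refine ih _ ?_ _ (G.map f) (B.map f) rfl
      ((map_mono le_normalizer_of_normal).trans (le_normalizer_map f)) (hnpc_map h2 f)
      (hc.quot le_normalizer_of_normal h2 h3)
    rw [← h8]
    exact lt_mul_of_one_lt_right Nat.card_pos (one_lt_card_iff_ne_bot N |>.2 h5)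
  refine hns (solvable_of_ker_le_range (inclusion h3) (f.subgroupMap G) fun x hx => ?_)
  exact ⟨⟨x, hk ▸ (congrArg Subtype.val hx : f x = 1)⟩, rfl⟩

theorem rd_simple [hG : G.Normal] (ih : ∀ m < Nat.card G, RdN.{u} m)
    (h2 : HasNormalPComplement 2 B) (hc : Nc G B) (hs : G ⊔ B = ⊤) (hns : ¬ Group.IsSolvable G)
    (L₀ : Subgroup X) (a1 : L₀ ≤ G) (a2 : G ≤ 𝐍(L₀)) (a3 : L₀ ≠ ⊥) : L₀ = G := by
  have mn := rd_min ih h2 hc hns
  obtain ⟨L, ⟨b1, b2, b3⟩, hL⟩ := (wellFounded_lt (α := Subgroup X)).has_min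
    {L | L ≤ L₀ ∧ G ≤ 𝐍(L) ∧ L ≠ ⊥} ⟨L₀, le_rfl, a2, a3⟩
  have b4 := b1.trans a1
  have mL : ∀ Y ≤ L, G ≤ 𝐍(Y) → Y ≠ ⊥ → Y = L := fun Y c1 c2 c3 =>
    eq_of_le_of_not_lt c1 (hL _ ⟨c1.trans b1, c2, c3⟩)
  suffices L = G from le_antisymm a1 (this.ge.trans b1)
  by_contra hLG
  have hgN : ∀ g : X, g •ᶜ G = G := fun g => Cit.cj_eq (IG.mem_norm_of_normal hG g)
  have c1 : ∀ g : X, g •ᶜ L ≤ G := fun g => hgN g ▸ map_mono b4
  have c2 : ∀ g : X, G ≤ 𝐍(g •ᶜ L) := fun g => by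
    rw [Cit.norm_cj, ← hgN g]
    exact map_mono b2
  have c0 : ∀ g : X, g •ᶜ L ≠ L → g •ᶜ L ≤ 𝐂(L) := fun g hj v hv x hx => by
    have c3 : L ⊓ g •ᶜ L = ⊥ := by
      by_contra c4
      exact hj (eq_of_le_of_card_ge (inf_eq_left.1
        (mL _ inf_le_left (H1.le_normalizer_inf b2 (c2 g)) c4)) (card_map_conj g L).le).symm
    have c5 : x * v * x⁻¹ * v⁻¹ ∈ L ⊓ g •ᶜ L :=
      ⟨by simpa [mul_assoc] using mul_mem hx (Cit.cmem (b2 (c1 g hv)) (inv_mem hx)),
        (g •ᶜ L).mul_mem (Cit.cmem (c2 g (b4 hx)) hv) (inv_mem hv)⟩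
    rw [c3, mem_bot, mul_inv_eq_one, mul_inv_eq_iff_eq_mul] at c5
    exact c5
  have cc : ∀ g k : X, g •ᶜ L ≠ k •ᶜ L → g •ᶜ L ≤ 𝐂(k •ᶜ L) := fun g k hj v hv => by
    rintro _ ⟨x, hx, rfl⟩
    have := c0 (k⁻¹ * g) (fun e => hj (by
      conv_rhs => rw [← e, cj_cj, mul_inv_cancel_left])) (by
      rw [← cj_cj]; exact Cit.cj_mem (g := k⁻¹) hv) x hx
    change k * x * k⁻¹ * v = v * (k * x * k⁻¹)
    calc k * x * k⁻¹ * v = k * (x * (k⁻¹ * v * k⁻¹⁻¹)) * k⁻¹ := by group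
      _ = _ := by rw [this]; group
  have hZ : ∀ x ∈ G, (∀ b ∈ B, x ∈ 𝐂(b •ᶜ L)) → x = 1 := fun x hx h => by
    have d1 : G ≤ 𝐂[x] := by
      refine (mn (normalClosure L) (normalClosure_le_normal b4) inferInstance fun e =>
        b3 (eq_bot_iff.2 (le_normalClosure.trans e.le))).ge.trans (closure_le _ |>.2 ?_)
      intro y hy
      obtain ⟨l, hl, hy⟩ := Group.mem_conjugatesOfSet_iff.1 hy
      obtain ⟨k, rfl⟩ := isConj_iff.1 hy
      obtain ⟨b, hb, g, hg, rfl⟩ := mem_sup_of_normal_right.1 ((sup_comm G B ▸ hs) ▸ mem_top k)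
      refine mem_centralizer_singleton_iff.2 (h b hb _ ?_)
      have := Cit.cj_mem (g := b) (Cit.cmem (b2 hg) hl)
      rwa [show b * (g * l * g⁻¹) * b⁻¹ = b * g * l * (b * g)⁻¹ by group] at this
    by_contra h1
    have d2 := mn (G ⊓ 𝐂(G)) inf_le_left inferInstance fun e => h1 (mem_bot.1 (e ▸ ⟨hx,
      fun y hy => mem_centralizer_singleton_iff.1 (d1 hy)⟩))
    exact hns (isSolvable_of_comm fun a b => Subtype.ext ((d2.ge b.2).2 a a.2))
  have hLZ : ∀ k : X, ∀ x ∈ k •ᶜ L, x ∈ 𝐂(k •ᶜ L) → x = 1 := fun k x hx h => hZ x (c1 k hx)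
    fun b _ => by
      by_cases e : k •ᶜ L = b •ᶜ L
      · exact e ▸ h
      · exact cc k b e hx
  have hnc : ¬ Nc L (B ⊓ 𝐍(L)) := fun h => by
    have := ih _ (card_lt_card_of_lt (lt_of_le_of_ne b4 hLG)) X L _ rfl inf_le_right
      (hnpc_of_le h2 inf_le_left) h
    have : Nontrivial L := (nontrivial_iff_ne_bot L).2 b3
    have hlt : ⁅L, L⁆ < L := by
      rw [← L.range_subtype, MonoidHom.range_eq_map, ← map_commutator, map_subtype_lt_map_subtype]
      exact Group.IsSolvable.commutator_lt_top_of_nontrivial L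
    have hab : L ≤ 𝐂(L) := commutator_eq_bot_iff_le_centralizer.1 (by
      by_contra e'
      exact hlt.ne (mL _ hlt.le (Cop.le_normalizer_commutator b2 b2) e'))
    have e1 : (1 : X) •ᶜ L = L := cj_eq_of_mem (one_mem L)
    exact b3 (eq_bot_iff.2 fun x hx => hLZ 1 x (e1.symm ▸ hx) (e1.symm ▸ hab hx))
  simp only [Nc, not_forall] at hnc
  obtain ⟨t, ht, ht2, hti, ht1⟩ := hnc
  let ι := {K : Subgroup X // ∃ b ∈ B, K = b •ᶜ L}
  choose β hβ hβ' using fun i : ι => i.2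
  have hH : ∀ i : ι, i.1 ≤ G := fun i => hβ' i ▸ c1 _
  have hcm : ∀ i j : ι, i ≠ j → i.1 ≤ 𝐂(j.1) := fun i j e => by
    rw [hβ' i, hβ' j]
    exact cc _ _ fun e' => e (Subtype.ext (by rw [hβ' i, hβ' j, e']))
  have hti' : ∀ i : ι, β i * t * (β i)⁻¹ ∈ i.1 := fun i => by
    have := Cit.cj_mem (g := β i) ht
    rwa [← hβ' i] at this
  have hZ' : ∀ x ∈ G, (∀ i : ι, x ∈ 𝐂(i.1)) → x = 1 := fun x hx h =>
    hZ x hx fun b hb => h ⟨_, b, hb, rfl⟩
  obtain ⟨s, hsG, hs'⟩ := rd_crt (fun i : ι => i.1) hH hcm _ hti'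
  have e1 : s = 1 := by
    refine hc s hsG (hZ' _ (mul_mem hsG hsG) fun i => ?_) fun b hb => ?_
    · obtain ⟨c, h3, e⟩ := hs' i
      have h4 := h3 _ (hti' i)
      have : s * s = c * c := by
        rw [e]
        calc _ = c * ((β i * t * (β i)⁻¹) * c) * (β i * t * (β i)⁻¹) := by group
          _ = c * c * (β i * (t * t) * (β i)⁻¹) := by rw [h4]; group
          _ = _ := by rw [ht2]; group
      exact this ▸ mul_mem h3 h3
    have key : ∀ i : ι, ∃ l ∈ i.1, ∃ c ∈ 𝐂(i.1),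
        b * s * b⁻¹ = c * (l * (β i * t * (β i)⁻¹) * l⁻¹) := fun i => by
      let j : ι := ⟨_, b⁻¹ * β i, mul_mem (inv_mem hb) (hβ i), rfl⟩
      have f1 : β j •ᶜ L = (b⁻¹ * β i) •ᶜ L := (hβ' j).symm
      obtain ⟨c, h3, e⟩ := hs' j
      obtain ⟨l, hl, e'⟩ := hti ((β i)⁻¹ * b * β j)
        ⟨B.mul_mem (mul_mem (inv_mem (hβ i)) hb) (hβ j), Cit.mem_norm (by
          rw [← cj_cj, f1, cj_cj, show (β i)⁻¹ * b * (b⁻¹ * β i) = 1 by group]
          exact cj_eq_of_mem (one_mem L))⟩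
      refine ⟨β i * l * (β i)⁻¹, by
        have := Cit.cj_mem (g := β i) hl
        rwa [← hβ' i] at this, b * c * b⁻¹, fun y hy => ?_, ?_⟩
      · have f2 : b⁻¹ * y * b⁻¹⁻¹ ∈ j.1 := by
          change _ ∈ (b⁻¹ * β i) •ᶜ L
          rw [← cj_cj, ← hβ' i]
          exact Cit.cj_mem hy
        calc y * (b * c * b⁻¹) = b * (b⁻¹ * y * b⁻¹⁻¹ * c) * b⁻¹ := by group
          _ = _ := by rw [h3 _ f2]; group
      · rw [e]
        calc _ = b * c * b⁻¹ * (β i * ((β i)⁻¹ * b * β j * t * ((β i)⁻¹ * b * β j)⁻¹) *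
              (β i)⁻¹) := by group
          _ = _ := by rw [e']; group
    choose l hl c hcc e using key
    obtain ⟨g, hg, hg'⟩ := rd_crt (fun i : ι => i.1) hH hcm _ hl
    refine ⟨g, hg, mul_inv_eq_one.1 (hZ' _ (mul_mem (hG.conj_mem s hsG b)
      (inv_mem (hG.conj_mem s hsG g))) fun i => ?_)⟩
    obtain ⟨c', h3, e2⟩ := hg' i
    obtain ⟨c2, h4, e3⟩ := hs' i
    have f3 := h4 _ (hl i)
    have f4 := (𝐂(i.1)).inv_mem h3 _ (mul_mem (mul_mem (hl i) (hti' i)) (inv_mem (hl i)))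
    have : g * s * g⁻¹ = c' * c2 * c'⁻¹ * (l i * (β i * t * (β i)⁻¹) * (l i)⁻¹) := by
      rw [e2, e3]
      calc _ = c' * (l i * c2) * ((β i * t * (β i)⁻¹) * (l i)⁻¹ * c'⁻¹) := by group
        _ = c' * c2 * (l i * (β i * t * (β i)⁻¹) * (l i)⁻¹ * c'⁻¹) := by rw [f3]; group
        _ = _ := by rw [f4]; group
    rw [this, e i, mul_inv_rev, mul_assoc, mul_inv_cancel_left]
    exact mul_mem (hcc i) (inv_mem (mul_mem (mul_mem h3 h4) (inv_mem h3)))
  let i : ι := ⟨_, 1, one_mem B, rfl⟩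
  obtain ⟨c, h3, e⟩ := hs' i
  rw [e1, eq_comm, mul_eq_one_iff_inv_eq] at e
  have := hLZ (β i) _ (Cit.cj_mem ht) (by
    rw [← hβ' i, ← e]; exact inv_mem h3)
  exact ht1 (by simpa [mul_inv_eq_one, mul_eq_left] using this)

theorem rd_step (h : NoTC.{u}) [hG : G.Normal] (ih : ∀ m < Nat.card G, RdN.{u} m)
    (h2 : HasNormalPComplement 2 B) (hc : Nc G B) (hs : G ⊔ B = ⊤) (hP : IsSylowIn 2 P G)
    (hBP : B ≤ 𝐍(P)) : Group.IsSolvable G := by
  by_contra hns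
  have hsim := rd_simple ih h2 hc hs hns
  have hG0 : G ≠ ⊥ := fun e => hns (e ▸ inferInstance)
  have := (nontrivial_iff_ne_bot G).2 hG0
  have hinv : ∀ (n : X) (H : Subgroup G),
      (MulAut.conjNormal n : MulAut G) •ᵃ H = H ↔ n ∈ 𝐍(H.map G.subtype) := fun n H => by
    have e : ((MulAut.conjNormal n : MulAut G) •ᵃ H).map G.subtype = n •ᶜ H.map G.subtype := by
      rw [map_map, map_map]; rfl
    refine ⟨fun e' => Cit.mem_norm (by rw [← e, e']), fun e' => ?_⟩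
    exact map_injective G.subtype_injective (e.trans (Cit.cj_eq e'))
  have hPm : (P.subgroupOf G).map G.subtype = P := map_subgroupOf_eq_of_le hP.le
  have hB : ∀ H : Subgroup G, Inv ((𝐍(P)).map MulAut.conjNormal) H → B ≤ 𝐍(H.map G.subtype) :=
    fun H hH b hb => (hinv b H).1 (hH _ (mem_map_of_mem _ (hBP hb)))
  refine h G (P.subgroupOf G) ((𝐍(P)).map MulAut.conjNormal)
    ⟨⟨fun H hH => or_iff_not_imp_left.2 fun h0 => ?_⟩,
      fun hc => hns (isSolvable_of_comm hc.is_comm.comm), ?_, ?_, fun n hn => ?_,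
      fun t ht h3 => ?_, fun D0 D h3 h4 h5 h6 h7 => ?_, fun H h3 h4 => ?_⟩
  · have := hsim _ (map_subtype_le H) (fun g hg => le_normalizer_map G.subtype
      ⟨⟨g, hg⟩, IG.mem_norm_of_normal hH _, rfl⟩)
      (by rwa [Ne, map_eq_bot_iff_of_injective _ G.subtype_injective])
    exact map_injective G.subtype_injective (this.trans (by simp [← MonoidHom.range_eq_map]))
  · simpa using hP.subgroupOf le_rfl
  · rintro _ ⟨n, hn, rfl⟩
    exact (hinv n _).2 (hPm.symm ▸ hn)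
  · exact ⟨n, hPm ▸ le_normalizer_map G.subtype (mem_map_of_mem _ hn), MulAut.conjNormal_val⟩
  · refine Subtype.ext (hc t t.2 (congrArg Subtype.val ht) fun b hb => ?_)
    obtain ⟨g, hg⟩ := h3 _ (mem_map_of_mem _ (hBP hb))
    exact ⟨g, g.2, congrArg Subtype.val hg⟩
  · refine rd_key le_normalizer_of_normal h2 hc (map_mono h3) (map_subtype_le D)
      (hP.isPGroup.to_le (hPm ▸ map_mono h4)) ?_ le_sup_right (hB D h6) (hB D0 h5) le_sup_right
    rwa [relIndex_map_map_of_injective _ _ G.subtype_injective]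
  · have h5 : H.map G.subtype < G := lt_of_le_of_ne (map_subtype_le H) fun e => h3
      (map_injective G.subtype_injective (e.trans (by simp [← MonoidHom.range_eq_map])))
    have := ih _ (card_lt_card_of_lt h5) X _ B rfl (hB H h4) h2 (hc.sub h5.le)
    exact solvable_of_solvable_injective
      (f := (equivMapOfInjective H _ G.subtype_injective).toMonoidHom) (MulEquiv.injective _)

end

theorem rdN_of_noTC (h : NoTC.{u}) (n : ℕ) : RdN.{u} n := by
  induction n using Nat.strong_induction_on with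
  | _ n ih =>
  intro X _ _ G B hn hB h2 hc
  have h1 : G ≤ G ⊔ B := le_sup_left
  have e := subgroupOfEquivOfLe h1
  have h3 := Nat.card_congr e.toEquiv
  have hG : (G.subgroupOf (G ⊔ B)).Normal :=
    normal_subgroupOf_of_le_normalizer (sup_le le_normalizer hB)
  have h4 : G.subgroupOf (G ⊔ B) ⊔ B.subgroupOf (G ⊔ B) = ⊤ := by
    rw [← subgroupOf_sup le_sup_left le_sup_right, subgroupOf_self]
  have h5 : Nc (G.subgroupOf (G ⊔ B)) (B.subgroupOf (G ⊔ B)) := fun t ht b1 b2 =>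
    Subtype.ext (hc t ht (congrArg Subtype.val b1) fun b hb => by
      obtain ⟨g, hg, e⟩ := b2 ⟨b, mem_sup_right hb⟩ hb
      exact ⟨g, hg, congrArg Subtype.val e⟩)
  obtain ⟨P, hP⟩ := IsSylowIn.exists_in (p := 2) (G.subgroupOf (G ⊔ B))
  obtain ⟨B', a1, a2, a3⟩ := rd_ms le_normalizer_of_normal
    (hnpc_of_mulEquiv h2 (subgroupOfEquivOfLe (le_sup_right : B ≤ G ⊔ B)).symm) (L := 𝐍(P))
    (h4 ▸ le_top)
  have a4 : G.subgroupOf (G ⊔ B) ⊔ B' = ⊤ := eq_top_iff.2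
    ((hP.frattini_le le_top le_normalizer_of_normal).trans
      (sup_le le_sup_left (inf_le_right.trans a3)))
  have := rd_step h (by rwa [h3, hn]) a2 (h5.mono le_normalizer_of_normal (a4 ▸ le_top)) a4 hP a1
  exact solvable_of_solvable_injective (f := e.symm.toMonoidHom) e.symm.injective

theorem thm_of_noTC (h : NoTC.{u}) : Thm.{u} := by
  intro X _ _ G _ h2 hc
  obtain ⟨B, -, hmin⟩ := exists_minimal_le_of_wellFoundedLT (fun K => G ⊔ K = ⊤) ⊤ (sup_top_eq G)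
  let f := (QuotientGroup.mk' G).comp B.subtype
  have hk : ∀ x : B, x ∈ f.ker ↔ (x : X) ∈ G := fun x => QuotientGroup.eq_one_iff _
  refine rdN_of_noTC h _ X G B rfl le_normalizer_of_normal
    (hnpc_of_quotient_le_frattini f.ker (le_iInf₂ fun M hM => ?_)
      (hnpc_of_injective h2 _ (QuotientGroup.kerLift_injective f))) fun t ht b1 b2 =>
    hc t ht b1 fun x => ?_
  · by_contra hne
    have h1 : f.ker ⊔ M = ⊤ := hM.2 _ (right_lt_sup.2 hne)
    have h2 : B ≤ G ⊔ M.map B.subtype := fun x hx => by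
      obtain ⟨k, hk', m, hm, e⟩ := mem_sup_of_normal_left.1 (h1 ▸ mem_top (⟨x, hx⟩ : B))
      have e' : (k : X) * m = x := congrArg Subtype.val e
      exact e' ▸ mul_mem_sup ((hk k).1 hk') (mem_map_of_mem _ hm)
    have h3 := hmin.2 (eq_top_iff.2 (hmin.1.ge.trans (sup_le le_sup_left h2))) (map_subtype_le M)
    refine hM.1 (eq_top_iff.2 fun x _ => ?_)
    obtain ⟨m, hm, e⟩ := h3 x.2
    exact (Subtype.ext e : m = x) ▸ hm
  · obtain ⟨g, hg, b, hb, rfl⟩ := mem_sup_of_normal_left.1 (hmin.1 ▸ mem_top x)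
    obtain ⟨g', hg', e⟩ := b2 b hb
    refine ⟨g * g', mul_mem hg hg', ?_⟩
    calc g * b * t * (g * b)⁻¹ = g * (b * t * b⁻¹) * g⁻¹ := by group
      _ = _ := by rw [e]; group

end CfsgLib.TG
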