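import Cfsg.Agent.Lib.TG.Up
import Cfsg.Agent.Lib.TG.Gs
import Cfsg.Agent.Lib.TG.A2
import Cfsg.Agent.Lib.TG.B1a
import Cfsg.Agent.Lib.TG.B1b
import Cfsg.Agent.Lib.TG.B1c
import Cfsg.Agent.Lib.TG.B3b
import Cfsg.Agent.Lib.TG.B3c
import Cfsg.Agent.Lib.TG.B5a
import Cfsg.Agent.Lib.TG.B5b
import Cfsg.Agent.Lib.TG.Red

set_option autoImplicit false

namespace CfsgLib.TG

open Subgroup Cfsg CfsgLib.FT CfsgLib.FT.BGN CfsgLib.GW CfsgLib.Wal

universe u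

theorem TC.false {X : Type*} [Group X] [Finite X] {P : Subgroup X} {𝔄 : Subgroup (MulAut X)}
    (h0 : TC P 𝔄) : False := by
  obtain ⟨T, hS⟩ := h0.exists_TS
  have h := hS.gs h0
  refine h.false_of_wc h0.simple h0.nonab hS.ne ?_
  by_contra nwc
  obtain ⟨X0, L, E, hf⟩ := h.exists_FFc nwc
  obtain ⟨W, P', A, u, z0, d, hs⟩ := h.seed hf
  obtain ⟨W', u', hv⟩ := hs.vx h
  have key : LC T W' u' ∧ IB T W' u' ∧ Ind T u' := by
    by_cases hb : T ⊓ 𝐂[u'] ≤ 𝐍(W')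
    · exact hv.nonblock h hb
    · have lc := hv.block_lc h hb
      exact ⟨lc, hv.block_ib h hb lc, hv.block_ind h hb lc⟩
  exact h0.final hS.inv h hv key.2.2 (hv.WB_le_cent h key.1 key.2.1 key.2.2)

theorem thm : Thm.{u} := thm_of_noTC fun _ _ _ _ _ h => h.false

end CfsgLib.TG
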