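import Cfsg.Agent.Lib.TG.VB

set_option autoImplicit false

namespace CfsgLib.TG

open Subgroup Cfsg CfsgLib.FT CfsgLib.FT.BGN CfsgLib.GW CfsgLib.Wal
open CfsgLib.FT.U4 (mem_cent1 mem_cent1' mem_cent mem_cent1_comm cent1_conj conj_mem_conj_iff
  orderOf_conj)
open scoped commutatorElement

variable {X : Type*} [Group X] [Finite X] {T : Subgroup X}

variable {W H A0 : Subgroup X} {u d z0 : X}

omit [Finite X] in
theorem np_mem_zpowers {y z : X} (hy : y * y = 1) (hz : z ∈ zpowers y) : z = 1 ∨ z = y := by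
  obtain ⟨k, rfl⟩ := mem_zpowers_iff.1 hz
  have h2 : y ^ (2 : ℤ) = 1 := by rw [zpow_two, hy]
  rcases Int.even_or_odd' k with ⟨m, rfl | rfl⟩
  · left; rw [zpow_mul, h2, one_zpow]
  · right; rw [zpow_add, zpow_mul, h2, one_zpow, one_mul, zpow_one]

/-- The core of (N'): an abstract version. -/
theorem np_core (hT : GS T) {Y B : Subgroup X} (hY : Bad T Y) (hB : BB T B)
    (hBY : B ≤ Y) {y y' ρ ρ' : X} (hy : y ∈ Y) (hy' : y' ∈ Y) (hy2 : y * y = 1)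
    (hy2' : y' * y' = 1) (hρ : ρ * ρ = 1) (hρc : ρ ∈ 𝐂(Y)) (hρc' : ρ' ∈ 𝐂(Y)) (hne : ρ' ≠ ρ)
    (hall : ∀ x ∈ Y, x * y * x⁻¹ = y ∨ x * y * x⁻¹ = y * ρ)
    (hall' : ∀ x ∈ Y, x * y' * x⁻¹ = y' ∨ x * y' * x⁻¹ = y' * ρ')
    (hex : y ∉ 𝐂(Y)) (hiff : ∀ b ∈ B, b ∈ 𝐂[y] ↔ b ∈ 𝐂[y'])
    (hin : y ∈ B → y * y' ∈ 𝐂(Y)) : False := by
  obtain ⟨x0, hx0, hx0y⟩ : ∃ x ∈ Y, x * y ≠ y * x := by
    by_contra hcon
    push Not at hcon
    exact hex (mem_cent.2 hcon)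
  have hx0' : x0 * y * x0⁻¹ = y * ρ := by
    rcases hall x0 hx0 with h | h
    · exact absurd (by rw [← mul_inv_eq_iff_eq_mul]; exact h) hx0y
    · exact h
  have hρ1 : ρ ≠ 1 := by
    rintro rfl
    exact hx0y (by rw [← mul_inv_eq_iff_eq_mul, hx0', mul_one])
  have hρρ : ρ * ρ' ≠ 1 := by
    intro h
    exact hne (mul_left_cancel (h.trans hρ.symm))
  have c1 : y' * ρ = ρ * y' := mem_cent.1 hρc y' hy'
  have c2 : y * ρ' = ρ' * y := mem_cent.1 hρc' y hy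
  have hcomm : y * y' = y' * y := by
    rcases hall y' hy' with h | h
    · rw [mul_inv_eq_iff_eq_mul] at h; exact h.symm
    · rw [mul_inv_eq_iff_eq_mul] at h
      rcases hall' y hy with h' | h'
      · rw [mul_inv_eq_iff_eq_mul] at h'; exact h'
      · exfalso
        rw [mul_inv_eq_iff_eq_mul] at h'
        apply hρρ
        have : y * y' = y * y' * (ρ * ρ') := by
          calc y * y' = y' * (ρ' * y) := by rw [h', mul_assoc]
            _ = y' * y * ρ' := by rw [← c2, mul_assoc]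
            _ = y * (ρ * y') * ρ' := by rw [h, mul_assoc y ρ]
            _ = y * y' * (ρ * ρ') := by rw [← c1]; simp only [mul_assoc]
        exact left_eq_mul.1 this
  have hyy : y * y' ∉ 𝐂(Y) := by
    intro hc
    have h1 : x0 * (y * y') * x0⁻¹ = y * y' := by
      rw [mul_inv_eq_iff_eq_mul]; exact mem_cent.1 hc x0 hx0
    have h2 : x0 * (y * y') * x0⁻¹ = (x0 * y * x0⁻¹) * (x0 * y' * x0⁻¹) := by group
    rw [h1, hx0'] at h2
    rcases hall' x0 hx0 with h | h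
    · rw [h, mul_assoc, ← c1, ← mul_assoc] at h2
      exact hρ1 (left_eq_mul.1 h2)
    · rw [h] at h2
      apply hρρ
      have : y * y' = y * y' * (ρ * ρ') := by
        calc y * y' = y * (ρ * y') * ρ' := by rw [h2]; simp only [mul_assoc]
          _ = y * y' * (ρ * ρ') := by rw [← c1]; simp only [mul_assoc]
      exact left_eq_mul.1 this
  have hyB : y ∉ B := fun h => hyy (hin h)
  have hyC : y ∉ 𝐂(B) := fun h => hyB (hB.mem_of_cent hT hy2 h)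
  obtain ⟨x, hx, hxy⟩ : ∃ x ∈ B, x ∉ 𝐂[y] := by
    by_contra hcon
    push Not at hcon
    exact hyC (mem_cent.2 fun b hb => mem_cent1.1 (hcon b hb))
  have hmv : ∀ b ∈ B, b ∉ 𝐂[y] → b * y * b⁻¹ = y * ρ := fun b hb hby =>
    (hall b (hBY hb)).resolve_left fun h => hby (U4.mem_cent1_of_conj_eq h)
  have hidx : (𝐂[y]).relIndex B = 2 := by
    refine relIndex_eq_two_iff_exists_notMem_and.2 ⟨x, hx, hxy, fun b hb => ?_⟩
    by_cases hby : b ∈ 𝐂[y]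
    · exact Or.inr hby
    · left
      refine U4.mem_cent1_of_conj_eq ?_
      have c3 : b * ρ = ρ * b := mem_cent.1 hρc b (hBY hb)
      calc b * x * y * (b * x)⁻¹ = b * (x * y * x⁻¹) * b⁻¹ := by group
        _ = b * y * b⁻¹ * (b * ρ * b⁻¹) := by rw [hmv x hx hxy]; group
        _ = y := by rw [hmv b hb hby, c3, mul_inv_cancel_right, mul_assoc, hρ, mul_one]
  have hcard := card_inf_mul_relIndex (𝐂[y]) B
  rw [hidx, hB.2.2] at hcard
  have hc1 : zpowers y ≤ 𝐂(𝐂[y] ⊓ B) := by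
    rw [zpowers_le]
    exact mem_cent.2 fun b hb => mem_cent1.1 hb.1
  have hM : El ((𝐂[y] ⊓ B) ⊔ zpowers y) := (hB.1.mono inf_le_right).sup (el_zpowers hy2) hc1
  have hMY : (𝐂[y] ⊓ B) ⊔ zpowers y ≤ Y :=
    sup_le (inf_le_right.trans hBY) (zpowers_le.2 hy)
  have hMc : KK T ≤ Nat.card ((𝐂[y] ⊓ B) ⊔ zpowers y : Subgroup X) := by
    have h1 := card_mul_relIndex (le_sup_left : 𝐂[y] ⊓ B ≤ (𝐂[y] ⊓ B) ⊔ zpowers y)
    have h2 : (𝐂[y] ⊓ B).relIndex ((𝐂[y] ⊓ B) ⊔ zpowers y) ≠ 1 := by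
      rw [Ne, relIndex_eq_one]
      exact fun h => hyB (h (mem_sup_right (mem_zpowers y))).2
    have h3 : (𝐂[y] ⊓ B).relIndex ((𝐂[y] ⊓ B) ⊔ zpowers y) ≠ 0 := by
      intro h0
      rw [h0, mul_zero] at h1
      exact Nat.card_pos.ne h1
    rw [← hcard, ← h1]
    exact Nat.mul_le_mul_left _ (by omega)
  have hMB := BB.of_le hM (hY.mono hMY) hMc
  have hy'M : y' ∈ (𝐂[y] ⊓ B) ⊔ zpowers y := by
    refine hMB.mem_of_cent hT hy2' ?_
    have : (𝐂[y] ⊓ B) ⊔ zpowers y ≤ 𝐂[y'] :=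
      sup_le (fun b hb => (hiff b hb.2).1 hb.1) (zpowers_le.2 (mem_cent1.2 hcomm))
    exact mem_cent.2 fun b hb => mem_cent1.1 (this hb)
  obtain ⟨b, hb, z, hz, hbz⟩ := (mem_sup_iff_of_le_normalizer
    ((le_centralizer_iff.1 hc1).trans (U4.cent_le_norm _))).1 hy'M
  have hxb : x * b = b * x := hB.1.comm hx hb.2
  have hxy' : x ∉ 𝐂[y'] := fun h => hxy ((hiff x hx).2 h)
  rcases np_mem_zpowers hy2 hz with rfl | rfl
  · rw [mul_one] at hbz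
    exact hxy' (mem_cent1.2 (hbz ▸ hxb))
  · have h1 : x * y' * x⁻¹ = y' * ρ' :=
      (hall' x (hBY hx)).resolve_left fun h => hxy' (U4.mem_cent1_of_conj_eq h)
    have h2 : x * y' * x⁻¹ = y' * ρ := by
      rw [← hbz, ← mul_assoc, hxb, mul_assoc b x, mul_assoc b, hmv x hx hxy, mul_assoc]
    exact hne (mul_left_cancel (h1.symm.trans h2))

/-- (N') -/
theorem VxD.nprime (hT : GS T) (h : VxD T W u H A0 d z0) {y ρ : X}
    (hy : y ∈ WB T (T ⊓ 𝐂(W))) (hy2 : y * y = 1) (hρ : ρ * ρ = 1)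
    (hρc : ρ ∈ 𝐂(WB T (T ⊓ 𝐂(W))))
    (hall : ∀ x ∈ WB T (T ⊓ 𝐂(W)), x * y * x⁻¹ = y ∨ x * y * x⁻¹ = y * ρ)
    (hex : y ∉ 𝐂(WB T (T ⊓ 𝐂(W)))) : d •ᶜ A0 ≤ 𝐂[ρ] := by
  have hA : El (d •ᶜ A0) := h.elA.cj d
  have hAH : d •ᶜ A0 ≤ H := by
    rw [← U4.conj_eq_of_mem h.dH]; exact map_mono (h.AN.trans h.NH)
  have hAW : ¬ d •ᶜ A0 ≤ 𝐂(W) := by
    rw [← map_conj_eq_of_mem_normalizer (h.HW h.dH), centralizer_map_conj, U4.conj_le_conj_iff]
    exact h.AW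
  obtain ⟨hB, hBE, -⟩ := h.bb hT hA (by rw [card_map_conj]; exact h.cardA) hAH hAW
  have hBY := hB.le_WB hBE
  have hYW : WB T (T ⊓ 𝐂(W)) ≤ 𝐂(W) := (WB_le _ _).trans inf_le_right
  intro e he
  by_contra hne
  have heN : e ∈ 𝐍(WB T (T ⊓ 𝐂(W))) := h.H_le (hAH he)
  have heW : e ∈ 𝐍(W) := h.HW (hAH he)
  have hy' : e * y * e⁻¹ ∈ WB T (T ⊓ 𝐂(W)) := conj_mem_of_mem_normalizer heN hy
  have hdec : ∀ b ∈ (d •ᶜ A0 ⊓ 𝐂(W)) ⊔ W, ∃ a1 ∈ d •ᶜ A0 ⊓ 𝐂(W), ∃ w ∈ W, a1 * w = b :=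
    fun b hb => (mem_sup_iff_of_le_normalizer (inf_le_right.trans (U4.cent_le_norm W))).1 hb
  refine np_core hT ((h.bad hT).mono (WB_le _ _)) hB hBY hy hy' hy2 (ρ' := e * ρ * e⁻¹)
    (by calc _ = e * (y * y) * e⁻¹ := by group
      _ = 1 := by rw [hy2]; group) hρ hρc
    (conj_mem_of_mem_normalizer (Cop.normalizer_le_normalizer_centralizer _ heN) hρc)
    (fun h1 => hne (U4.mem_cent1_of_conj_eq h1)) hall ?_ hex ?_ ?_
  · intro x hx
    have hx' : e⁻¹ * x * e⁻¹⁻¹ ∈ WB T (T ⊓ 𝐂(W)) := conj_mem_of_mem_normalizer (inv_mem heN) hx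
    have key : x * (e * y * e⁻¹) * x⁻¹ =
        e * (e⁻¹ * x * e⁻¹⁻¹ * y * (e⁻¹ * x * e⁻¹⁻¹)⁻¹) * e⁻¹ := by group
    rcases hall _ hx' with h1 | h1
    · left; rw [key, h1]
    · right; rw [key, h1]; group
  · intro b hb
    obtain ⟨a1, ha1, w, hw, rfl⟩ := hdec b hb
    have hw1 : w ∈ 𝐂[y] := mem_cent1.2 (mem_cent.1 (hYW hy) w hw)
    have hw2 : w ∈ 𝐂[e * y * e⁻¹] := mem_cent1.2 (mem_cent.1 (hYW hy') w hw)
    rw [mul_mem_cancel_right hw1, mul_mem_cancel_right hw2, cent1_conj]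
    have h1 : e * a1 * e⁻¹ = a1 := by rw [hA.comm he ha1.1, mul_inv_cancel_right]
    conv_rhs => rw [← h1]
    exact conj_mem_conj_iff.symm
  · intro hyB
    obtain ⟨a1, ha1, w, hw, rfl⟩ := hdec y hyB
    have h1 : e * a1 = a1 * e := hA.comm he ha1.1
    have h2 : w * a1 = a1 * w := mem_cent.1 ha1.2 w hw
    have h3 : a1 * w * (e * (a1 * w) * e⁻¹) = w * (e * w * e⁻¹) := by
      calc a1 * w * (e * (a1 * w) * e⁻¹) = a1 * w * (e * a1) * w * e⁻¹ := by group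
        _ = w * (a1 * a1) * (e * w * e⁻¹) := by rw [h1, ← h2]; group
        _ = w * (e * w * e⁻¹) := by rw [hA a1 ha1.1, mul_one]
    rw [h3]
    exact le_centralizer_iff.1 hYW (mul_mem hw (conj_mem_of_mem_normalizer heW hw))

end CfsgLib.TG
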