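import Cfsg.Agent.Lib.TG.Defs
import Cfsg.Agent.Lib.CO.A0a
import Cfsg.Agent.Lib.PComplementMore
import Cfsg.Agent.Lib.Sig.Big

/-! Operator groups with a normal `2`-complement: supplements and sections. -/

set_option autoImplicit false

namespace CfsgLib.TG

open Subgroup Cfsg CfsgLib.FT CfsgLib.FT.BGN CfsgLib.GW CfsgLib.Wal CfsgLib.PCompl
open scoped commutatorElement

attribute [local instance] Cit.factTwo

variable {X : Type*} [Group X] [Finite X] {G B : Subgroup X}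

/-- no involution of `G` has a `B`-invariant class -/
def Nc (G B : Subgroup X) : Prop :=
  ∀ t ∈ G, t * t = 1 → (∀ b ∈ B, ∃ g ∈ G, b * t * b⁻¹ = g * t * g⁻¹) → t = 1

omit [Finite X] in
theorem Nc.mono (h : Nc G B) {B' : Subgroup X} (hB' : B' ≤ 𝐍(G)) (hle : B ≤ G ⊔ B') :
    Nc G B' := by
  intro t ht h2 h3
  refine h t ht h2 fun b hb => ?_
  obtain ⟨g, hg, b', hb', rfl⟩ := mem_sup_norm hB' (hle hb)
  obtain ⟨g', hg', e⟩ := h3 b' hb'
  refine ⟨g * g', mul_mem hg hg', ?_⟩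
  calc g * b' * t * (g * b')⁻¹ = g * (b' * t * b'⁻¹) * g⁻¹ := by group
    _ = _ := by rw [e]; group

omit [Finite X] in
theorem Nc.sub (h : Nc G B) {H : Subgroup X} (hH : H ≤ G) : Nc H B := fun t ht h2 h3 =>
  h t (hH ht) h2 fun b hb => (h3 b hb).imp fun _ hg => ⟨hH hg.1, hg.2⟩

theorem rd_ms (hB : B ≤ 𝐍(G)) (h : HasNormalPComplement 2 B) {L : Subgroup X} (hL : L ≤ G ⊔ B) :
    ∃ B' ≤ L, HasNormalPComplement 2 B' ∧ L ≤ G ⊔ B' := by
  obtain ⟨B', hB'L, hmin⟩ := exists_minimal_le_of_wellFoundedLT (fun K => L ≤ G ⊔ K) L le_sup_right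
  have hN : B' ≤ 𝐍(G) := hB'L.trans (hL.trans (sup_le le_normalizer hB))
  refine ⟨B', hB'L, ?_, hmin.1⟩
  have := normal_subgroupOf_of_le_normalizer (le_refl 𝐍(G))
  let π := QuotientGroup.mk' (G.subgroupOf 𝐍(G))
  let f := π.comp (inclusion hN)
  have hk : ∀ x : B', x ∈ f.ker ↔ (x : X) ∈ G := fun x => QuotientGroup.eq_one_iff _
  refine hnpc_of_quotient_le_frattini f.ker (le_iInf₂ fun M hM => ?_)
    (hnpc_of_mulEquiv ?_ (QuotientGroup.quotientKerEquivRange f).symm)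
  · by_contra hne
    have h1 : f.ker ⊔ M = ⊤ := hM.2 _ (right_lt_sup.2 hne)
    have h2 : B' ≤ G ⊔ M.map B'.subtype := fun x hx => by
      obtain ⟨k, hk', m, hm, e⟩ := mem_sup_of_normal_left.1 (h1 ▸ mem_top (⟨x, hx⟩ : B'))
      have e' : (k : X) * m = x := congrArg Subtype.val e
      exact e' ▸ mul_mem_sup ((hk k).1 hk') (mem_map_of_mem _ hm)
    have h3 := hmin.2 (hmin.1.trans (sup_le le_sup_left h2)) (map_subtype_le M)
    refine hM.1 (eq_top_iff.2 fun x _ => ?_)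
    obtain ⟨m, hm, e⟩ := h3 x.2
    exact (Subtype.ext e : m = x) ▸ hm
  · refine hnpc_of_le (K := (π.comp (inclusion hB)).range)
      (hnpc_of_surjective h _ (MonoidHom.rangeRestrict_surjective _)) ?_
    rintro _ ⟨x, rfl⟩
    obtain ⟨g, hg, b, hb, e⟩ := mem_sup_norm hB (hL (hB'L x.2))
    refine ⟨⟨b, hb⟩, QuotientGroup.eq.2 ?_⟩
    change b⁻¹ * (x : X) ∈ G
    rw [← e, ← mul_assoc]
    exact conj_mem_of_mem_normalizer' (hB hb) hg

theorem rd_key (hB : B ≤ 𝐍(G)) (h2 : HasNormalPComplement 2 B) (hc : Nc G B)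
    {D0 D L : Subgroup X} (h0 : D0 ≤ D) (hD : D ≤ G) (hp : IsPGroup 2 D) (hi : D0.relIndex D = 2)
    (h3 : L ≤ G ⊔ B) (h4 : L ≤ 𝐍(D)) (h5 : L ≤ 𝐍(D0)) (h6 : B ≤ G ⊔ L) : False := by
  obtain ⟨B', a1, a2, a3⟩ := rd_ms hB h2 h3
  have hc' := hc.mono (a1.trans (h3.trans (sup_le le_normalizer hB)))
    (h6.trans (sup_le le_sup_left a3))
  obtain ⟨K', hK', b1, k, b2⟩ := hnpc_exists_normal a2
  have b3 : K'.map B'.subtype ≤ B' := map_subtype_le K'
  have b4 : B' ≤ 𝐍(K'.map B'.subtype) := fun g hg =>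
    le_normalizer_map B'.subtype ⟨⟨g, hg⟩, IG.mem_norm_of_normal hK' _, rfl⟩
  have b5 : (Nat.card (K'.map B'.subtype)).Coprime 2 := by
    rwa [card_map_of_injective B'.subtype_injective]
  have b6 : (K'.map B'.subtype).relIndex B' = 2 ^ k := by
    rwa [relIndex, subgroupOf, comap_map_eq_self_of_injective B'.subtype_injective]
  generalize K'.map B'.subtype = K at b3 b4 b5 b6
  obtain ⟨R, hR⟩ := IsSylowIn.exists_in (p := 2) B'
  have c1 : ⁅D, K⁆ ≤ D0 := commutator_le.2 fun d hd x hx => by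
    have e1 : x * d⁻¹ * x⁻¹ ∈ D := Cit.cmem (h4 (a1 (b3 hx))) (inv_mem hd)
    have := (mul_mem_iff_of_index_two (H := D0.subgroupOf D) hi (a := ⟨d, hd⟩) (b := ⟨_, e1⟩)).2
      (by
        change d ∈ D0 ↔ x * d⁻¹ * x⁻¹ ∈ D0
        rw [← mem_normalizer_iff.1 (h5 (a1 (b3 hx))), inv_mem_iff])
    simpa [commutatorElement_def, mul_assoc, mem_subgroupOf] using this
  obtain ⟨j, hj⟩ := (hp.to_le h0).exists_card_eq
  have c2 := Cop.sup_centralizer_eq_of_commutator_le h0 c1 (hj ▸ b5.pow_right j)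
    (Or.inr (by have := (hp.to_le h0).isNilpotent; infer_instance))
  have c3 : D ⊓ 𝐂(K) ≠ ⊥ := fun e => by
    rw [e, sup_bot_eq] at c2
    rw [c2, relIndex_self] at hi
    exact absurd hi (by decide)
  have c4 := Sig.inf_centralizer_ne_bot_of_isPGroup (hp.to_le inf_le_left) hR.isPGroup
    (Cop.le_normalizer_inf_centralizer (hR.le.trans (a1.trans h4)) (hR.le.trans b4)) c3
  obtain ⟨s, hs, hs2⟩ := exists_inv_of_not_odd (H := D ⊓ 𝐂(K) ⊓ 𝐂(R)) fun ho => by
    obtain ⟨i, hi⟩ := (hp.to_le (inf_le_left.trans inf_le_left :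
      D ⊓ 𝐂(K) ⊓ 𝐂(R) ≤ D)).exists_card_eq
    rcases i with _ | i
    · exact c4 (card_eq_one.1 hi)
    · rw [hi] at ho
      exact Nat.not_even_iff_odd.2 ho (by simp [Nat.even_pow])
  have c5 : B' ≤ 𝐂[s] := by
    rw [← hR.sup_eq_of_relIndex_eq_pow b3 b6]
    exact sup_le (fun x hx => mem_centralizer_singleton_iff.2 (hs.1.2 x hx))
      fun x hx => mem_centralizer_singleton_iff.2 (hs.2 x hx)
  refine ne_one_of_inv hs2 (hc' s (hD hs.1.1) (mul_self_of_inv hs2) fun b hb => ⟨1, one_mem _, ?_⟩)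
  rw [mem_centralizer_singleton_iff.1 (c5 hb)]
  group

theorem Nc.quot (hc : Nc G B) (hB : B ≤ 𝐍(G)) (h2 : HasNormalPComplement 2 B) {N : Subgroup X}
    [N.Normal] (hN : N ≤ G) : Nc (G.map (QuotientGroup.mk' N)) (B.map (QuotientGroup.mk' N)) := by
  rintro _ ⟨e, he, rfl⟩ h3 h4
  by_contra h1
  set π := QuotientGroup.mk' N with hπ
  have hk : π.ker = N := QuotientGroup.ker_mk' N
  let M := (zpowers (π e)).comap π
  let L := (G ⊔ B) ⊓ (𝐂[π e]).comap π
  have a1 : N ≤ M := hk ▸ ker_le_comap _ _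
  have a2 : M ≤ G := by
    have : M ≤ (G.map π).comap π := comap_mono (zpowers_le.2 (mem_map_of_mem _ he))
    rwa [comap_map_eq, hk, sup_eq_left.2 hN] at this
  have a3 : M ≤ L := le_inf (a2.trans le_sup_left)
    (comap_mono (zpowers_le.2 (mem_centralizer_singleton_iff.2 rfl)))
  have a4 : L ≤ 𝐍(M) := inf_le_right.trans ((comap_mono (by
    rw [← U4.cent_zpowers]; exact centralizer_le_normalizer _)).trans (le_normalizer_comap π))
  have a5 : N.relIndex M = 2 := by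
    conv_lhs => rw [← hk]
    rw [relIndex_ker, map_comap_eq_self_of_surjective (QuotientGroup.mk'_surjective N),
      Nat.card_zpowers]
    exact orderOf_eq_prime (by rw [sq, h3]) h1
  obtain ⟨S, hS⟩ := IsSylowIn.exists_in (p := 2) M
  have a6 := hS.sup_eq_of_relIndex_eq_pow a1 (k := 1) a5
  refine rd_key hB h2 hc (D0 := N ⊓ S) (D := S) (L := L ⊓ 𝐍(S)) inf_le_right (hS.le.trans a2)
    hS.isPGroup (by rw [inf_relIndex_right, ← relIndex_sup_left, a6, a5])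
    (inf_le_left.trans inf_le_left) inf_le_right
    (H1.le_normalizer_inf (fun g _ => IG.mem_norm_of_normal inferInstance g) inf_le_right) ?_
  refine le_trans (fun b hb => ?_) (sup_le le_sup_left ((hS.frattini_le a3 a4).trans
    (sup_le_sup_right a2 _)))
  obtain ⟨_, ⟨g, hg, rfl⟩, h5⟩ := h4 _ (mem_map_of_mem _ hb)
  have : g⁻¹ * b ∈ L := ⟨(G ⊔ B).mul_mem (inv_mem (mem_sup_left hg)) (mem_sup_right hb),
    mem_centralizer_singleton_iff.2 (by
      rw [mul_inv_eq_iff_eq_mul] at h5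
      rw [map_mul, map_inv, mul_assoc, h5]; group)⟩
  simpa using mul_mem_sup hg this

omit [Finite X] in
theorem rd_crt {ι : Type*} [Finite ι] (H : ι → Subgroup X) (hH : ∀ i, H i ≤ G)
    (hc : ∀ i j, i ≠ j → H i ≤ 𝐂(H j)) (f : ι → X) (hf : ∀ i, f i ∈ H i) :
    ∃ s ∈ G, ∀ i, ∃ c ∈ 𝐂(H i), s = c * f i := by
  classical
  have := Fintype.ofFinite ι
  have key : ∀ J : Finset ι, ∃ s ∈ G, (∀ i ∈ J, ∃ c ∈ 𝐂(H i), s = c * f i) ∧
      ∀ i ∉ J, s ∈ 𝐂(H i) := by
    intro J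
    induction J using Finset.induction_on with
    | empty => exact ⟨1, one_mem _, by simp, fun _ _ => one_mem _⟩
    | insert i J hi ih =>
      obtain ⟨s, h1, h2, h3⟩ := ih
      refine ⟨s * f i, mul_mem h1 (hH i (hf i)), fun j hj => ?_, fun j hj => ?_⟩
      · rcases Finset.mem_insert.1 hj with rfl | hj
        · exact ⟨s, h3 j hi, rfl⟩
        · obtain ⟨c, h4, rfl⟩ := h2 j hj
          have h5 := hc i j (fun e => hi (e ▸ hj)) (hf i)
          exact ⟨c * f i, mul_mem h4 h5, by rw [mul_assoc, mul_assoc, h5 _ (hf j)]⟩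
      · rw [Finset.mem_insert, not_or] at hj
        exact mul_mem (h3 j hj.2) (hc i j (Ne.symm hj.1) (hf i))
  obtain ⟨s, h1, h2, -⟩ := key Finset.univ
  exact ⟨s, h1, fun i => h2 i (Finset.mem_univ i)⟩

end CfsgLib.TG
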