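import Cfsg.Agent.Lib.TG.B0

set_option autoImplicit false

namespace CfsgLib.TG

open Subgroup Cfsg CfsgLib.FT CfsgLib.FT.BGN CfsgLib.GW CfsgLib.Wal
open CfsgLib.FT.U4 (mem_cent1 mem_cent1' mem_cent mem_cent1_comm cent1_conj conj_mem_conj_iff
  orderOf_conj)
open scoped commutatorElement

variable {X : Type*} [Group X] [Finite X] {P T : Subgroup X} {𝔄 : Subgroup (MulAut X)}

theorem scl_eq_of_cent (hT : GS T) (wc : WC T) {φ ψ : Subgroup X} (hφ : Pt T φ) (hψ : Pt T ψ)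
    (h : ψ ≤ 𝐂(φ)) : ψ = φ := by
  obtain ⟨g, rfl, hg⟩ := hφ.exists_syl hT hψ.el.isPGroup h
  obtain ⟨k, hk⟩ := hψ.cj g⁻¹
  have := wc k (hk ▸ U4.le_conj_iff.1 hg)
  rw [← hk] at this
  rw [← this, map_conj_map_conj_inv]

theorem scl_eq_of_norm2 (hT : GS T) (wc : WC T) {φ ψ : Subgroup X} (hφ : Pt T φ) (hψ : Pt T ψ)
    (h1 : ψ ≤ 𝐍(φ)) (h2 : φ ≤ 𝐍(ψ)) : ψ = φ := by
  refine scl_eq_of_cent hT wc hφ hψ ?_
  by_contra hc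
  have k1 := hφ.q1 hT h1 (fun x hx => by rw [hψ.el x hx]; exact one_mem _) hc
  have k2 := hψ.q1 hT h2 (fun x hx => by rw [hφ.el x hx]; exact one_mem _) fun e => hc (lcc e)
  omega

/-- A `2`-group normalizes every point it contains. -/
theorem scl_le_norm (hT : GS T) (wc : WC T) {φ R : Subgroup X} (hφ : Pt T φ) (hR : IsPGroup 2 R)
    (h : φ ≤ R) : R ≤ 𝐍(φ) := by
  have := Fact.mk Nat.prime_two
  by_contra hc
  obtain ⟨x, hx, hx'⟩ := SetLike.exists_of_lt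
    (lt_inf_normalizer_of_isPGroup hR (inf_lt_left.2 hc : R ⊓ 𝐍(φ) < R))
  have h1 : φ ≤ R ⊓ 𝐍(φ) := le_inf h le_normalizer
  have k : ∀ y ∈ 𝐍(R ⊓ 𝐍(φ)), y •ᶜ φ ≤ 𝐍(φ) := fun y hy =>
    ((map_mono h1).trans (cj_eq hy).le).trans inf_le_right
  refine hx' ⟨hx.1, mem_norm_of_cj (scl_eq_of_norm2 hT wc hφ (hφ.cj x) (k x hx.2) ?_)⟩
  have := cj_norm (k x⁻¹ (inv_mem hx.2)) x
  rwa [map_conj_map_conj_inv] at this

theorem scl_eq_of_norm (hT : GS T) (wc : WC T) {φ ψ : Subgroup X} (hφ : Pt T φ) (hψ : Pt T ψ)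
    (h1 : ψ ≤ 𝐍(φ)) : ψ = φ :=
  have := Fact.mk Nat.prime_two
  scl_eq_of_norm2 hT wc hφ hψ h1 (le_sup_left.trans (scl_le_norm hT wc hψ
    (isPGroup_sup' h1 hφ.el.isPGroup hψ.el.isPGroup) le_sup_right))

theorem scl_exists_pt (hT : GS T) (wc : WC T) {φ J D : Subgroup X} (hφ : Pt T φ) (hJ : J ≤ φ)
    (hD : IsPGroup 2 D) (h : D ≤ 𝐍(J)) : ∃ ψ, Pt T ψ ∧ J ≤ ψ ∧ D ≤ 𝐍(ψ) := by
  have := Fact.mk Nat.prime_two
  obtain ⟨S, h1, hS⟩ := IsSylowIn.exists_ge hD h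
  obtain ⟨n, hn, h2⟩ := hS.exists_conj_le hφ.el.isPGroup (hφ.el.le_norm hJ)
  exact ⟨_, hφ.cj n, (cj_eq hn).ge.trans (map_mono hJ),
    h1.trans (scl_le_norm hT wc (hφ.cj n) hS.isPGroup h2)⟩

theorem scl_ncard_le {α β γ : Type*} [Nonempty α] [Finite γ] {s : Set α} {p : α → β} {f : α → γ}
    (h : ∀ a ∈ s, ∀ b ∈ s, f a = f b → p a = p b) : (p '' s).ncard ≤ (f '' s).ncard := by
  refine le_trans (Set.ncard_le_ncard (t := (p ∘ Function.invFunOn f s) '' (f '' s)) ?_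
    ((Set.toFinite _).image _)) (Set.ncard_image_le (Set.toFinite _))
  rintro _ ⟨a, ha, rfl⟩
  have e : ∃ b ∈ s, f b = f a := ⟨a, ha, rfl⟩
  exact ⟨f a, ⟨a, ha, rfl⟩, h _ (Function.invFunOn_mem e) _ ha (Function.invFunOn_eq e)⟩

/-- Counterexamples to strong closure. -/
def SclCE (T φ ψ : Subgroup X) : Prop := Pt T φ ∧ Pt T ψ ∧ ¬ φ ⊓ 𝐍(ψ) ≤ ψ

/-- The quantity to be maximized. -/
noncomputable def sclF (p : Subgroup X × Subgroup X) : ℕ ×ₗ ℕ ×ₗ ℕ :=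
  toLex (Nat.card (p.1 ⊓ p.2 : Subgroup X), toLex (Nat.card (p.2 ⊓ 𝐍(p.1) : Subgroup X),
    Nat.card (p.1 ⊓ 𝐍(p.2) : Subgroup X)))

theorem scl_exists_max {φ ψ : Subgroup X} (h : SclCE T φ ψ) : ∃ φ, SclCE T φ (Om T) ∧
    ∀ φ' ψ', SclCE T φ' ψ' → sclF (φ', ψ') ≤ sclF (φ, Om T) := by
  obtain ⟨⟨φ, ψ⟩, ⟨h1, ⟨g, rfl⟩, h3⟩, hm⟩ := Set.exists_max_image
    {p : Subgroup X × Subgroup X | SclCE T p.1 p.2} sclF (Set.toFinite _) ⟨(φ, ψ), h⟩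
  obtain ⟨φ, rfl⟩ : ∃ φ', φ = g •ᶜ φ' := ⟨_, (map_conj_map_conj_inv g φ).symm⟩
  refine ⟨φ, ⟨?_, pt_Om T, fun e => h3 ?_⟩, fun φ' ψ' h' => (hm (φ', ψ') h').trans_eq ?_⟩
  · have := h1.cj g⁻¹
    rwa [map_conj_inv_map_conj] at this
  · dsimp only
    rw [normalizer_map_conj, ← map_conj_inf]
    exact map_mono e
  · simp only [sclF, normalizer_map_conj, ← map_conj_inf, CfsgLib.card_map_conj]

omit [Finite X] in
theorem scl_comm_mul (x t t' : X) : ⁅x, t⁆⁻¹ * ⁅x, t'⁆ = t * ⁅x, t⁻¹ * t'⁆ * t⁻¹ := by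
  simp only [commutatorElement_def]; group

theorem scl_false (hT : GS T) (wc : WC T) {φ0 ψ0 : Subgroup X} (h0 : SclCE T φ0 ψ0) : False := by
  have := Fact.mk Nat.prime_two
  obtain ⟨φ, ⟨hφ, hY, hce⟩, hm⟩ := scl_exists_max h0
  obtain ⟨Y, hYe⟩ : ∃ Y, Y = Om T := ⟨_, rfl⟩
  have hsc := hT.sc
  rw [← hYe] at hY hce hm hsc
  obtain ⟨I, hI⟩ : ∃ I, I = φ ⊓ Y := ⟨_, rfl⟩
  obtain ⟨A, hA⟩ : ∃ A, A = φ ⊓ 𝐍(Y) := ⟨_, rfl⟩
  obtain ⟨W, hW⟩ : ∃ W, W = Y ⊓ 𝐍(φ) := ⟨_, rfl⟩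
  have hm' : ∀ φ' ψ', SclCE T φ' ψ' → Nat.card (φ' ⊓ ψ' : Subgroup X) ≤ Nat.card I ∧
      (Nat.card I ≤ Nat.card (φ' ⊓ ψ' : Subgroup X) →
        Nat.card (ψ' ⊓ 𝐍(φ') : Subgroup X) ≤ Nat.card W ∧
        (Nat.card W ≤ Nat.card (ψ' ⊓ 𝐍(φ') : Subgroup X) →
          Nat.card (φ' ⊓ 𝐍(ψ') : Subgroup X) ≤ Nat.card A)) := fun φ' ψ' h' => by
    have := hm φ' ψ' h'
    simp only [sclF, Prod.Lex.toLex_le_toLex, Prod.Lex.toLex_lt_toLex, ← hI, ← hA, ← hW] at this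
    omega
  have mI : ∀ {x}, x ∈ I ↔ x ∈ φ ∧ x ∈ Y := by intro x; rw [hI, mem_inf]
  have mA : ∀ {x}, x ∈ A ↔ x ∈ φ ∧ x ∈ 𝐍(Y) := by intro x; rw [hA, mem_inf]
  have mW : ∀ {x}, x ∈ W ↔ x ∈ Y ∧ x ∈ 𝐍(φ) := by intro x; rw [hW, mem_inf]
  have Iφ : I ≤ φ := fun x hx => (mI.1 hx).1
  have IY : I ≤ Y := fun x hx => (mI.1 hx).2
  have Aφ : A ≤ φ := fun x hx => (mA.1 hx).1
  have AN : A ≤ 𝐍(Y) := fun x hx => (mA.1 hx).2
  have WY : W ≤ Y := fun x hx => (mW.1 hx).1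
  have WN : W ≤ 𝐍(φ) := fun x hx => (mW.1 hx).2
  have IA : I ≤ A := fun x hx => mA.2 ⟨Iφ hx, le_normalizer (IY hx)⟩
  have IW : I ≤ W := fun x hx => mW.2 ⟨IY hx, le_normalizer (Iφ hx)⟩
  have hAI : ¬ A ≤ I := fun e => hce (hA ▸ e.trans IY)
  have hWY : ¬ Y ≤ W := fun e => hce (inf_le_left.trans (scl_eq_of_norm hT wc hφ hY (e.trans WN)).ge)
  have cY : ∀ x ∈ Y, ∀ t ∈ 𝐍(Y), ⁅x, t⁆ ∈ Y := fun x hx t ht => by
    rw [commutatorElement_def, mul_assoc, mul_assoc, ← mul_assoc t]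
    exact mul_mem hx (norm_mem ht (inv_mem hx))
  have cφ : ∀ x ∈ 𝐍(φ), ∀ t ∈ φ, ⁅x, t⁆ ∈ φ := fun x hx t ht =>
    mul_mem (norm_mem hx ht) (inv_mem ht)
  have h8 : ∀ w ∈ W, ∀ t ∈ A, ⁅w, t⁆ ∈ I := fun w hw t ht =>
    mI.2 ⟨cφ w (WN hw) t (Aφ ht), cY w (WY hw) t (AN ht)⟩
  have h9 : ∀ x ∈ Y, ∀ t ∈ A, t ∉ I → ⁅x, t⁆ ∈ I → x ∈ W := fun x hx t ht hn e => by
    have k : ∀ y ∈ Y, ⁅y, t⁆ ∈ I → y ∈ 𝐍(I ⊔ zpowers t) := fun y hy e => by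
      refine mem_norm_of_cj_le ?_
      rw [Subgroup.map_sup, cj_eq (hY.el.le_norm IY hy), cj_zpowers]
      refine sup_le le_sup_left (zpowers_le.2 ?_)
      have : y * t * y⁻¹ = ⁅y, t⁆ * t := by rw [commutatorElement_def]; group
      rw [this]
      exact mul_mem_sup e (mem_zpowers t)
    obtain ⟨φ', p1, p2, p3⟩ := scl_exists_pt hT wc hφ (sup_le Iφ (zpowers_le.2 (Aφ ht)))
      (hY.el.isPGroup.to_inf_left (K := 𝐍(I ⊔ zpowers t))) inf_le_right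
    have p4 : Y ⊓ 𝐍(I ⊔ zpowers t) ≤ Y ⊓ 𝐍(φ') := le_inf inf_le_left p3
    have p5 := ((hm' φ' Y ⟨p1, hY, fun e => hn (mI.2 ⟨Aφ ht,
      e ⟨p2 (mem_sup_right (mem_zpowers t)), AN ht⟩⟩)⟩).2
      (card_le_of_le (le_inf (le_sup_left.trans p2) IY))).1
    rw [eq_of_le_of_card_ge (fun w hw => p4 ⟨WY hw, k w (WY hw) (h8 w hw t ht)⟩) p5]
    exact p4 ⟨hx, k x hx e⟩
  have h9' : ∀ x ∈ Y, ∀ t ∈ A, ⁅x, t⁆ ∈ W := fun x hx t ht => by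
    by_cases hn : t ∈ I
    · rw [commutatorElement_eq_one_iff_mul_comm.2 (hY.el.comm hx (IY hn))]
      exact one_mem _
    refine h9 _ (cY x hx t (AN ht)) t ht hn ?_
    have e1 := hY.el _ (cY x hx t (AN ht))
    have e2 := hY.el.inv hx
    have e3 := hφ.el.inv (Aφ ht)
    have : ⁅⁅x, t⁆, t⁆ = 1 := by
      simp only [commutatorElement_def, mul_inv_rev, inv_inv, e2, e3] at e1 ⊢
      have e4 := hφ.el t (Aφ ht)
      calc _ = x * t * x * (t * t) * (t * (x * (t * x))) * t := by simp only [mul_assoc]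
        _ = x * t * x * t * (x * t * x * t) := by rw [e4]; simp only [mul_assoc, mul_one]
        _ = 1 := e1
    rw [this]
    exact one_mem _
  have hWφ : ¬ W ≤ φ := fun e => by
    obtain ⟨t, ht, hn⟩ := SetLike.not_le_iff_exists.1 hAI
    exact hWY fun x hx => h9 x hx t ht hn (mI.2 ⟨e (h9' x hx t ht), WY (h9' x hx t ht)⟩)
  have hD : φ ⊓ 𝐍(W) ≤ A := by
    obtain ⟨Y', p1, p2, p3⟩ := scl_exists_pt hT wc hY WY
      (hφ.el.isPGroup.to_inf_left (K := 𝐍(W))) inf_le_right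
    have p4 : φ ⊓ 𝐍(W) ≤ φ ⊓ 𝐍(Y') := le_inf inf_le_left p3
    have p5 : A ≤ φ ⊓ 𝐍(W) := le_inf Aφ (hW ▸ H1.le_normalizer_inf AN
      (Aφ.trans (le_normalizer.trans le_normalizer)))
    have p6 : I ≤ Y' ⊓ φ := le_inf (IW.trans p2) Iφ
    have p7 := eq_of_le_of_card_ge p6 (hm' Y' φ ⟨p1, hφ, fun e => hWφ fun w hw =>
      e ⟨p2 hw, WN hw⟩⟩).1
    have p8 := ((hm' φ Y' ⟨hφ, p1, fun e => hAI fun a ha => p7 ▸ ⟨e (p4 (p5 ha)), Aφ ha⟩⟩).2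
      (by rw [inf_comm, ← p7])).2 (card_le_of_le (le_inf p2 WN))
    exact p4.trans (eq_of_le_of_card_ge (p5.trans p4) p8).ge
  obtain ⟨y, hy, hyA, hy'⟩ := Cop.exists_commutator_mem_of_lt (L := φ ⊔ W) (Z := A) (R := φ)
    (isPGroup_sup' WN hφ.el.isPGroup (hY.el.isPGroup.to_le WY)).isNilpotent le_sup_left
    (sup_le (hφ.el.le_norm Aφ) (hA ▸ H1.le_normalizer_inf WN
      (WY.trans (le_normalizer.trans le_normalizer)))) (sup_le le_normalizer WN)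
    fun e => hce (inf_le_left.trans (scl_eq_of_norm hT wc hY hφ (e.trans AN)).le)
  have hyw : ∀ w : X, y * w * y⁻¹ = ⁅y, w⁆ * w := fun w => by rw [commutatorElement_def]; group
  have hinj : ∀ s ∈ W, ⁅y, s⁆ ∈ I → s ∈ I := fun s hs e => by
    by_contra hn
    have p1 : I < y •ᶜ Y ⊓ Y := by
      refine lt_of_le_of_ne (le_inf ((cj_eq (hφ.el.le_norm Iφ hy)).ge.trans (map_mono IY)) IY)
        fun e' => hn ?_
      have : y * s * y⁻¹ ∈ I := e' ▸ ⟨cj_mem (WY hs), hyw s ▸ mul_mem (IY e) (WY hs)⟩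
      rwa [hyw, mul_mem_cancel_left e] at this
    refine hyA (hD ⟨hy, mem_normalizer_of_conj_mem fun w hw => mW.2 ⟨?_,
      mul_mem (mul_mem (le_normalizer hy) (WN hw)) (inv_mem (le_normalizer hy))⟩⟩)
    by_contra hc
    exact (card_lt_card_of_lt p1).not_ge (hm' _ Y ⟨hY.cj y, hY, fun e' => hc (e' ⟨cj_mem (WY hw),
      hyw w ▸ mul_mem (AN (hy' w (mem_sup_right hw))) (le_normalizer (WY hw))⟩)⟩).1
  refine hsc A I W (hφ.el.mono Aφ) AN IA IW WY (fun e => hWY e.ge) hAI h8 h9 fun x hx hxW w hw => ?_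
  have c1 : ((fun a : X => (a : X ⧸ I)) '' A).ncard ≤
      ((fun a : X => ((⁅x, a⁆ : X) : X ⧸ I)) '' A).ncard :=
    scl_ncard_le fun a ha b hb e => by
      rw [QuotientGroup.eq] at e ⊢
      rw [scl_comm_mul, ← mem_normalizer_iff.1 (hφ.el.le_norm Iφ (Aφ ha))] at e
      by_contra hn
      exact hxW (h9 x hx _ (mul_mem (inv_mem ha) hb) hn e)
  have c2 : ((fun a : X => (a : X ⧸ I)) '' W).ncard ≤
      ((fun a : X => ((⁅y, a⁆ : X) : X ⧸ I)) '' W).ncard :=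
    scl_ncard_le fun a ha b hb e => by
      rw [QuotientGroup.eq] at e ⊢
      rw [scl_comm_mul, ← mem_normalizer_iff.1 (hY.el.le_norm IY (WY ha))] at e
      exact hinj _ (mul_mem (inv_mem ha) hb) e
  have c3 : (fun a : X => ((⁅y, a⁆ : X) : X ⧸ I)) '' W ⊆ (fun a : X => (a : X ⧸ I)) '' A := by
    rintro _ ⟨a, ha, rfl⟩
    exact ⟨_, hy' a (mem_sup_right ha), rfl⟩
  have c4 : (fun a : X => ((⁅x, a⁆ : X) : X ⧸ I)) '' A ⊆ (fun a : X => (a : X ⧸ I)) '' W := by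
    rintro _ ⟨a, ha, rfl⟩
    exact ⟨_, h9' x hx a ha, rfl⟩
  obtain ⟨t, ht, e⟩ := (Set.eq_of_subset_of_ncard_le c4
    (c2.trans ((Set.ncard_le_ncard c3).trans c1))).ge ⟨w, hw, rfl⟩
  exact ⟨t, ht, QuotientGroup.eq.1 e.symm⟩

/-- Weak closure implies strong closure. -/
theorem GS.sclosed (hT : GS T) (wc : WC T) (g : X) {y : X} (hy : y ∈ Om T)
    (hn : g * y * g⁻¹ ∈ 𝐍(Om T)) : g * y * g⁻¹ ∈ Om T := by
  by_contra hc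
  exact scl_false hT wc ⟨(pt_Om T).cj g, pt_Om T, fun e => hc (e ⟨cj_mem hy, hn⟩)⟩

end CfsgLib.TG
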