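import Cfsg.Agent.Lib.TG.Main
import Cfsg.Agent.Lib.FP.TGP

set_option autoImplicit false

namespace CfsgLib.TG

universe u

theorem tgp : FP.TGP.{u} := fun X _ _ G _ h2 hc => thm X G h2 fun t ht h3 h4 => by
  by_contra h1
  obtain ⟨x, hx⟩ := hc t ht (CO.red_orderOf_two h3 h1)
  obtain ⟨g, hg, e⟩ := h4 x
  exact hx g hg e

theorem nfSol : NF.Sol.{u} := FP.nf_sol tgp

end CfsgLib.TG
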